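import Cfsg.Prelude.Def_Characters

set_option autoImplicit false

namespace Cfsg.Agent.H31

theorem extendByZero_mem {G : Type*} [Group G] (H : Subgroup G) (θ : H → ℂ) (y : G) (hy : y ∈ H) :
    Cfsg.extendByZero H θ y = θ ⟨y, hy⟩ := by
  unfold Cfsg.extendByZero
  exact Subtype.val_injective.extend_apply θ 0 ⟨y, hy⟩

theorem extendByZero_not_mem {G : Type*} [Group G] (H : Subgroup G) (θ : H → ℂ) (y : G) (hy : y ∉ H) :
    Cfsg.extendByZero H θ y = 0 := by
  unfold Cfsg.extendByZero
  rw [Function.extend_apply']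
  · rfl
  · rintro ⟨a, rfl⟩; exact hy a.2

/-- Summing a function of the coset over the group: each coset is hit `|A|` times. -/
theorem sum_comp_mk {G : Type*} [Group G] [Fintype G] (A : Subgroup G) [Fintype (G ⧸ A)]
    (F : G ⧸ A → ℂ) :
    ∑ x : G, F (x : G ⧸ A) = (Nat.card A : ℂ) * ∑ q : G ⧸ A, F q := by
  classical
  have : Fintype A := Fintype.ofFinite A
  have hbij : Function.Bijective (fun qa : (G ⧸ A) × A => (qa.1.out * (qa.2 : G) : G)) := by
    constructor
    · rintro ⟨q, a⟩ ⟨q', a'⟩ h
      simp only at h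
      have hq : q = q' := by
        have h1 : ((q.out * (a : G) : G) : G ⧸ A) = q := by
          rw [← QuotientGroup.out_eq' q, QuotientGroup.eq]; simp
        have h2 : ((q'.out * (a' : G) : G) : G ⧸ A) = q' := by
          rw [← QuotientGroup.out_eq' q', QuotientGroup.eq]; simp
        rw [← h1, ← h2, h]
      subst hq
      have : (a : G) = a' := mul_left_cancel h
      rw [Prod.mk.injEq]
      exact ⟨rfl, Subtype.ext this⟩
    · intro x
      refine ⟨((x : G ⧸ A), ⟨(x : G ⧸ A).out⁻¹ * x, ?_⟩), ?_⟩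
      · rw [← QuotientGroup.eq, QuotientGroup.out_eq']
      · simp
  rw [← Fintype.sum_bijective _ hbij (fun qa => F qa.1) (fun x => F (x : G ⧸ A))]
  · rw [Fintype.sum_prod_type]
    simp only [Finset.sum_const, Finset.card_univ, nsmul_eq_mul]
    rw [← Finset.mul_sum, Nat.card_eq_fintype_card]
  · rintro ⟨q, a⟩
    simp only
    congr 1
    rw [← QuotientGroup.out_eq' q, QuotientGroup.eq]; simp

end Cfsg.Agent.H31
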