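import Mathlib
import Cfsg.Prelude.Def_OddOrderLocal

set_option autoImplicit false

/-!
# B&G Lemma 9.5, CASE II (a maximal subgroup `M ≥ A` with `r_s(F(M)) ≥ 3`): shared definitions
(helper31, for helper38's team project S1402-BG95)
-/

namespace Cfsg.Agent.H31.BG9

open Cfsg Subgroup

universe u

variable {G : Type u} [Group G]

/-- The subgroup `W ≤ O_s(M)` of a "big" maximal subgroup `M ≥ A` (helper38's FACTS (i), (ii)):
`W` has exponent `s` and order at least `s ^ 2`, is normalized by `M`, every subgroup of `W` of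
order `> s` lies in no maximal subgroup other than `M`, and the normalizer of every nontrivial
subgroup of `W` lies in `M`. -/
structure BigW (A M W : Subgroup G) (s : ℕ) : Prop where
  coatom : IsCoatom M
  le : A ≤ M
  W_le : W ≤ M
  exp : ∀ x ∈ W, x ^ s = 1
  norm : M ≤ normalizer (W : Set G)
  card : s ^ 2 ≤ Nat.card W
  uniq : ∀ U : Subgroup G, U ≤ W → s < Nat.card U →
    ∀ H : Subgroup G, IsCoatom H → U ≤ H → H = M
  nrm : ∀ U : Subgroup G, U ≤ W → U ≠ ⊥ → normalizer (U : Set G) ≤ M

/-- helper38's facts (b), (b3), (b4), (U1) for a big maximal subgroup `M ≥ A`. -/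
structure BigFacts (A M : Subgroup G) (p s : ℕ) : Prop where
  cent : centralizer (A : Set G) ≤ M
  sinv : ∀ Q : Subgroup G, IsPGroup s Q → A ≤ normalizer (Q : Set G) → Q ≤ M
  pnorm : ∀ R : Subgroup G, IsPGroup p R → A ≤ R → normalizer (R : Set G) ≤ M
  conj : ∀ g : G, A ≤ M.map (MulAut.conj g).toMonoidHom → g ∈ M

end Cfsg.Agent.H31.BG9
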