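import Mathlib

set_option autoImplicit false

namespace Cfsg.Agent.H31

/-- `a` is a `t`-element. -/
def IsEl {G : Type*} [Monoid G] (t : ℕ) (a : G) : Prop := ∃ k : ℕ, a ^ (t ^ k) = 1

theorem isPGroup_zpowers_of_isEl {G : Type*} [Group G] {p : ℕ} {a : G} (h : IsEl p a) :
    IsPGroup p (Subgroup.zpowers a) := by
  obtain ⟨k, hk⟩ := h
  rintro ⟨g, hg⟩
  obtain ⟨i, rfl⟩ := Subgroup.mem_zpowers_iff.mp hg
  refine ⟨k, Subtype.ext ?_⟩
  show (a ^ i) ^ (p ^ k) = 1
  rw [← zpow_natCast, ← zpow_mul, mul_comm, zpow_mul, zpow_natCast, hk, one_zpow]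

theorem IsEl.map {G G' : Type*} [Monoid G] [Monoid G'] (f : G →* G') {t : ℕ} {a : G} (h : IsEl t a) :
    IsEl t (f a) := by
  obtain ⟨k, hk⟩ := h
  exact ⟨k, by rw [← map_pow, hk, map_one]⟩

theorem isEl_of_isPGroup {G : Type*} [Group G] {p : ℕ} {H : Subgroup G} (hH : IsPGroup p H) {a : G}
    (ha : a ∈ H) : IsEl p a := by
  obtain ⟨k, hk⟩ := hH ⟨a, ha⟩
  exact ⟨k, by simpa using congrArg Subtype.val hk⟩

theorem IsEl.conj {G : Type*} [Group G] {t : ℕ} {a : G} (h : IsEl t a) (g : G) :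
    IsEl t (g * a * g⁻¹) := by
  obtain ⟨k, hk⟩ := h
  exact ⟨k, by rw [conj_pow, hk]; group⟩

/-- Lifting a `t`-element through a surjective homomorphism from a finite group. -/
theorem lift_isEl {G G' : Type*} [Group G] [Finite G] [Group G'] (f : G →* G')
    (hf : Function.Surjective f) {t : ℕ} (ht : t.Prime) (ub : G') (hub : IsEl t ub) :
    ∃ u : G, f u = ub ∧ IsEl t u := by
  obtain ⟨b, hb⟩ := hub
  obtain ⟨u0, rfl⟩ := hf ub
  have hn : orderOf u0 ≠ 0 := (orderOf_pos u0).ne'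
  obtain ⟨a, m, hm, hnm⟩ := Nat.exists_eq_pow_mul_and_not_dvd hn t ht.ne_one
  have hcop : Nat.Coprime m (t ^ b) :=
    Nat.Coprime.pow_right _ ((Nat.Prime.coprime_iff_not_dvd ht).mpr hm).symm
  rcases Nat.eq_zero_or_pos b with hb0 | hbpos
  · subst hb0
    refine ⟨1, ?_, 0, by simp⟩
    rw [pow_zero, pow_one] at hb
    rw [map_one, hb]
  · have h1 : 1 < t ^ b := Nat.one_lt_pow hbpos.ne' ht.one_lt
    obtain ⟨m', -, hm'⟩ := Nat.exists_mul_mod_eq_one_of_coprime hcop h1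
    refine ⟨u0 ^ (m * m'), ?_, a, ?_⟩
    · rw [map_pow, ← Nat.mod_add_div (m * m') (t ^ b), hm', pow_add, pow_mul, hb, one_pow,
        mul_one, pow_one]
    · rw [← pow_mul, mul_comm (m * m'), ← mul_assoc, ← hnm, pow_mul, pow_orderOf_eq_one, one_pow]

/-- In a finite nilpotent group, elements of coprime prime power orders commute. -/
theorem comm_of_nilpotent {G : Type*} [Group G] [Finite G] [hn : Group.IsNilpotent G] {s t : ℕ}
    (hs : s.Prime) (ht : t.Prime) (hst : s ≠ t) (a b : G) (ha : IsEl s a) (hb : IsEl t b) :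
    a * b = b * a := by
  have : Fact s.Prime := ⟨hs⟩
  have : Fact t.Prime := ⟨ht⟩
  obtain ⟨S, hS⟩ := (isPGroup_zpowers_of_isEl ha).exists_le_sylow
  obtain ⟨T, hT⟩ := (isPGroup_zpowers_of_isEl hb).exists_le_sylow
  have hSn : (S : Subgroup G).Normal := inferInstance
  have hTn : (T : Subgroup G).Normal := inferInstance
  have hdisj : Disjoint (S : Subgroup G) T := IsPGroup.disjoint_of_ne s t hst _ _ S.2 T.2
  exact Subgroup.commute_of_normal_of_disjoint _ _ hSn hTn hdisj a b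
    (hS (Subgroup.mem_zpowers a)) (hT (Subgroup.mem_zpowers b))

/-- A finite group in which elements of coprime prime power orders commute is nilpotent. -/
theorem nilpotent_of_comm {G : Type*} [Group G] [Finite G]
    (h : ∀ s t : ℕ, s.Prime → t.Prime → s ≠ t → ∀ a b : G, IsEl s a → IsEl t b → a * b = b * a) :
    Group.IsNilpotent G := by
  apply ((Group.isNilpotent_of_finite_tfae (G := G)).out 3 0 rfl rfl).mp
  intro s hs S
  have := hs
  rw [← Subgroup.normalizer_eq_top_iff, ← Subgroup.index_eq_one]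
  by_contra hne
  obtain ⟨t, ht, htdvd⟩ := Nat.exists_prime_and_dvd hne
  have : Fact t.Prime := ⟨ht⟩
  by_cases hst : s = t
  · subst hst
    have h1 : (Subgroup.normalizer ((S : Subgroup G) : Set G)).index ∣ (S : Subgroup G).index :=
      Subgroup.index_dvd_of_le Subgroup.le_normalizer
    exact S.not_dvd_index (htdvd.trans h1)
  · have T : Sylow t G := default
    have hT : (T : Subgroup G) ≤ Subgroup.normalizer ((S : Subgroup G) : Set G) := by
      refine le_trans ?_ (Subgroup.centralizer_le_normalizer ((S : Subgroup G) : Set G))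
      intro b hb
      rw [Subgroup.mem_centralizer_iff]
      intro a ha
      exact h s t hs.out ht hst a b (isEl_of_isPGroup S.2 ha) (isEl_of_isPGroup T.2 hb)
    have h1 : (Subgroup.normalizer ((S : Subgroup G) : Set G)).index ∣ (T : Subgroup G).index :=
      Subgroup.index_dvd_of_le hT
    exact T.not_dvd_index (htdvd.trans h1)

/-- A `p`-group normalising a nontrivial `p`-group centralises a non-identity element of it. -/
theorem exists_fixed_in_pgroup {G : Type*} [Group G] [Finite G] {p : ℕ} (hp : p.Prime)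
    (A B : Subgroup G) (hA : IsPGroup p A) (hB : IsPGroup p B) (hB1 : B ≠ ⊥)
    (hnorm : ∀ a ∈ A, ∀ b ∈ B, a * b * a⁻¹ ∈ B) :
    ∃ b ∈ B, b ≠ 1 ∧ ∀ a ∈ A, a * b = b * a := by
  have : Fact p.Prime := ⟨hp⟩
  letI : MulAction A B :=
    { smul := fun a b => ⟨a * b * a⁻¹, hnorm a a.2 b b.2⟩
      one_smul := fun b => Subtype.ext (by
        show ((1 : A) : G) * b * ((1 : A) : G)⁻¹ = b
        simp)
      mul_smul := fun a a' b => Subtype.ext (by
        show ((a * a' : A) : G) * b * ((a * a' : A) : G)⁻¹ = a * (a' * b * (a' : G)⁻¹) * (a : G)⁻¹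
        simp [mul_assoc]) }
  obtain ⟨j, hj⟩ := IsPGroup.iff_card.mp hB
  have hcard1 : 1 < Nat.card B := (Subgroup.one_lt_card_iff_ne_bot _).mpr hB1
  have hj0 : j ≠ 0 := by
    rintro rfl; rw [pow_zero] at hj; omega
  have hdvd : p ∣ Nat.card B := hj ▸ dvd_pow_self p hj0
  have h1 : (1 : B) ∈ MulAction.fixedPoints A B := fun a => Subtype.ext (by
    show (a : G) * ((1 : B) : G) * (a : G)⁻¹ = ((1 : B) : G)
    simp)
  obtain ⟨b, hb, hb1⟩ := hA.exists_fixed_point_of_prime_dvd_card_of_fixed_point B hdvd h1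
  refine ⟨b, b.2, fun h => hb1 (Subtype.ext h.symm), fun a ha => ?_⟩
  have h2 : a * (b : G) * a⁻¹ = b := congrArg Subtype.val (hb ⟨a, ha⟩)
  calc a * (b : G) = (a * (b : G) * a⁻¹) * a := by group
    _ = b * a := by rw [h2]

/-- The subgroup of pairs congruent modulo a normal subgroup. -/
def congrSub {G : Type*} [Group G] (P : Subgroup G) [hn : P.Normal] : Subgroup (G × G) where
  carrier := {ab | ab.1 * ab.2⁻¹ ∈ P}
  one_mem' := by simp
  mul_mem' := by
    rintro ⟨a, b⟩ ⟨c, d⟩ h1 h2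
    simp only [Set.mem_ofPred_eq, Prod.mk_mul_mk] at *
    have : a * c * (b * d)⁻¹ = (a * (c * d⁻¹) * a⁻¹) * (a * b⁻¹) := by group
    rw [this]; exact P.mul_mem (hn.conj_mem _ h2 a) h1
  inv_mem' := by
    rintro ⟨a, b⟩ h
    simp only [Set.mem_ofPred_eq, Prod.inv_mk] at *
    have : a⁻¹ * b⁻¹⁻¹ = a⁻¹ * (a * b⁻¹)⁻¹ * a⁻¹⁻¹ := by group
    rw [this]; exact hn.conj_mem _ (P.inv_mem h) a⁻¹

/-- The action of congruent pairs on the normal subgroup by `(a, b) • h = a h b⁻¹`. -/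
@[reducible] def congrAct {G : Type*} [Group G] (P : Subgroup G) [hn : P.Normal] : MulAction (congrSub P) P where
  smul ab h := ⟨ab.1.1 * h * ab.1.2⁻¹, by
    have : ab.1.1 * (h : G) * ab.1.2⁻¹ = (ab.1.1 * h * ab.1.1⁻¹) * (ab.1.1 * ab.1.2⁻¹) := by group
    rw [this]; exact P.mul_mem (hn.conj_mem _ h.2 _) ab.2⟩
  one_smul h := Subtype.ext (by
    show ((1 : congrSub P) : G × G).1 * (h : G) * ((1 : congrSub P) : G × G).2⁻¹ = h
    simp)
  mul_smul a b h := Subtype.ext (by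
    show ((a * b : congrSub P) : G × G).1 * (h : G) * ((a * b : congrSub P) : G × G).2⁻¹ =
      (a : G × G).1 * ((b : G × G).1 * (h : G) * (b : G × G).2⁻¹) * (a : G × G).2⁻¹
    simp [mul_assoc])

/-- If `u`, `y` are `r`-elements congruent modulo a normal `p`-subgroup `P` with `r ≠ p`, then
they are conjugate under `P`. -/
theorem conj_of_congr {G : Type*} [Group G] [Finite G] {p r : ℕ} (hp : p.Prime) (hr : r.Prime)
    (hrp : r ≠ p) (P : Subgroup G) [P.Normal] (hP : IsPGroup p P) (u y : G) (hu : IsEl r u)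
    (hy : IsEl r y) (hyu : y * u⁻¹ ∈ P) : ∃ h ∈ P, h * u * h⁻¹ = y := by
  have : Fact p.Prime := ⟨hp⟩
  have : Fact r.Prime := ⟨hr⟩
  letI := congrAct P
  let g₀ : congrSub P := ⟨(y, u), hyu⟩
  have hg₀ : IsEl r g₀ := by
    obtain ⟨k₁, hk₁⟩ := hu
    obtain ⟨k₂, hk₂⟩ := hy
    refine ⟨k₁ + k₂, Subtype.ext ?_⟩
    show ((y, u) : G × G) ^ (r ^ (k₁ + k₂)) = 1
    rw [Prod.pow_mk, Prod.mk_eq_one]
    constructor
    · rw [pow_add, mul_comm, pow_mul, hk₂, one_pow]
    · rw [pow_add, pow_mul, hk₁, one_pow]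
  have hC : IsPGroup r (Subgroup.zpowers g₀) := isPGroup_zpowers_of_isEl hg₀
  obtain ⟨j, hj⟩ := IsPGroup.iff_card.mp hP
  have hnd : ¬ r ∣ Nat.card P := by
    rw [hj]
    intro hd
    exact hrp ((Nat.prime_dvd_prime_iff_eq hr hp).mp (hr.dvd_of_dvd_pow hd))
  obtain ⟨h, hh⟩ := hC.nonempty_fixed_point_of_prime_not_dvd_card P hnd
  have h2 : y * (h : G) * u⁻¹ = h :=
    congrArg Subtype.val (hh ⟨g₀, Subgroup.mem_zpowers g₀⟩)
  refine ⟨h, h.2, ?_⟩
  calc (h : G) * u * (h : G)⁻¹ = (y * (h : G) * u⁻¹) * u * (h : G)⁻¹ := by rw [h2]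
    _ = y := by group

end Cfsg.Agent.H31
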