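import Cfsg.Agent.H31.CN

set_option autoImplicit false

namespace Cfsg.Agent.H31

/-- A subgroup of a finite group containing every element of prime power order is everything. -/
theorem eq_top_of_forall_isEl {G : Type*} [Group G] [Finite G] (K : Subgroup G)
    (h : ∀ q : ℕ, q.Prime → ∀ x : G, IsEl q x → x ∈ K) : K = ⊤ := by
  rw [← Subgroup.index_eq_one]
  by_contra hne
  obtain ⟨t, ht, htdvd⟩ := Nat.exists_prime_and_dvd hne
  have : Fact t.Prime := ⟨ht⟩
  have T : Sylow t G := default
  have hT : (T : Subgroup G) ≤ K := fun x hx => h t ht x (isEl_of_isPGroup T.2 hx)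
  exact T.not_dvd_index (htdvd.trans (Subgroup.index_dvd_of_le hT))

/-- In a finite nilpotent group, a `q`-element lies in every Sylow `q`-subgroup. -/
theorem mem_sylow_of_isEl {N : Type*} [Group N] [Finite N] [Group.IsNilpotent N] {q : ℕ}
    [Fact q.Prime] (Q : Sylow q N) (x : N) (hx : IsEl q x) : x ∈ Q := by
  obtain ⟨Q', hQ'⟩ := (isPGroup_zpowers_of_isEl hx).exists_le_sylow
  have hn : (Q : Subgroup N).Normal := inferInstance
  have := Sylow.unique_of_normal Q hn
  have : Q' = Q := Subsingleton.elim _ _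
  rw [← this]
  exact hQ' (Subgroup.mem_zpowers x)

/-- In a finite nilpotent group, the centre of a Sylow subgroup is central. -/
theorem central_of_sylow_center {N : Type*} [Group N] [Finite N] [Group.IsNilpotent N] {q : ℕ}
    [hq : Fact q.Prime] (Q : Sylow q N) (c : N) (hcQ : c ∈ Q) (hc : ∀ x ∈ Q, x * c = c * x) :
    ∀ x : N, x * c = c * x := by
  have hcq : IsEl q c := isEl_of_isPGroup Q.2 hcQ
  have htop : Subgroup.centralizer ({c} : Set N) = ⊤ := by
    apply eq_top_of_forall_isEl
    intro r hr x hx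
    rw [Subgroup.mem_centralizer_iff]
    intro g hg; rw [Set.mem_singleton_iff] at hg; subst hg
    by_cases hrq : r = q
    · subst hrq
      exact (hc x (mem_sylow_of_isEl Q x hx)).symm
    · exact (comm_of_nilpotent hr hq.out hrq x g hx hcq).symm
  intro x
  have hx : x ∈ Subgroup.centralizer ({c} : Set N) := by rw [htop]; exact Subgroup.mem_top x
  exact (Subgroup.mem_centralizer_iff.mp hx c rfl).symm

/-- A finite nilpotent group of order divisible by `q` has a non-identity central element in any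
Sylow `q`-subgroup. -/
theorem exists_central_in_sylow {N : Type*} [Group N] [Finite N] [Group.IsNilpotent N] {q : ℕ}
    [hq : Fact q.Prime] (hdvd : q ∣ Nat.card N) (Q : Sylow q N) :
    ∃ k : N, k ∈ Q ∧ k ≠ 1 ∧ ∀ x : N, x * k = k * x := by
  have hQ1 : (Q : Subgroup N) ≠ ⊥ := Q.ne_bot_of_dvd_card hdvd
  have : Nontrivial (Q : Subgroup N) := (Subgroup.nontrivial_iff_ne_bot _).mpr hQ1
  have hnt : Nontrivial (Subgroup.center (Q : Subgroup N)) := IsPGroup.center_nontrivial Q.2
  obtain ⟨c, hc⟩ := exists_ne (1 : Subgroup.center (Q : Subgroup N))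
  refine ⟨((c : (Q : Subgroup N)) : N), (c : (Q : Subgroup N)).2, ?_, ?_⟩
  · intro h
    apply hc
    apply Subtype.ext
    apply Subtype.ext
    exact h
  · apply central_of_sylow_center Q _ (c : (Q : Subgroup N)).2
    intro x hx
    have := Subgroup.mem_center_iff.mp c.2 ⟨x, hx⟩
    exact congrArg Subtype.val this

/-- A `p`-element normalising a subgroup of index prime to `p` lies in it. -/
theorem mem_of_isEl_of_normalizer {G : Type*} [Group G] [Finite G] {p : ℕ} (hp : p.Prime)
    (H : Subgroup G) (y : G) (hy : IsEl p y) (hyN : y ∈ Subgroup.normalizer (H : Set G))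
    (hind : ¬ p ∣ H.index) : y ∈ H := by
  have hn : (H.subgroupOf (Subgroup.normalizer (H : Set G))).Normal :=
    Subgroup.normal_in_normalizer
  have h1 : y ^ H.relIndex (Subgroup.normalizer (H : Set G)) ∈ H := by
    have := Subgroup.pow_index_mem (H.subgroupOf (Subgroup.normalizer (H : Set G))) ⟨y, hyN⟩
    exact this
  obtain ⟨k, hk⟩ := hy
  have hdvd : H.relIndex (Subgroup.normalizer (H : Set G)) ∣ H.index :=
    Dvd.intro _ (Subgroup.relIndex_mul_index Subgroup.le_normalizer)
  have hcop : (H.relIndex (Subgroup.normalizer (H : Set G))).Coprime (orderOf y) := by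
    have h2 : orderOf y ∣ p ^ k := orderOf_dvd_of_pow_eq_one hk
    have h3 : (H.index).Coprime (p ^ k) :=
      Nat.Coprime.pow_right _ ((Nat.Prime.coprime_iff_not_dvd hp).mpr hind).symm
    exact Nat.Coprime.coprime_dvd_left hdvd (Nat.Coprime.coprime_dvd_right h2 h3)
  obtain ⟨m, hm⟩ := exists_pow_eq_self_of_coprime hcop
  rw [← hm]
  exact H.pow_mem h1 m

theorem IsEl.subtype_mk {G : Type*} [Group G] {t : ℕ} {K : Subgroup G} {a : G} (h : IsEl t a)
    (ha : a ∈ K) : IsEl t (⟨a, ha⟩ : K) := by
  obtain ⟨j, hj⟩ := h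
  exact ⟨j, Subtype.ext hj⟩

theorem IsEl.coe {G : Type*} [Group G] {t : ℕ} {K : Subgroup G} {a : K} (h : IsEl t a) :
    IsEl t (a : G) := h.map K.subtype

/-- A non-identity element of a finite group has a power of prime order. -/
theorem exists_prime_order_pow {G : Type*} [Group G] [Finite G] (x : G) (hx : x ≠ 1) :
    ∃ (p m : ℕ), p.Prime ∧ x ^ m ≠ 1 ∧ IsEl p (x ^ m) ∧ p ∣ orderOf x := by
  have ho : orderOf x ≠ 1 := fun h => hx (orderOf_eq_one_iff.mp h)
  have hrp : ((orderOf x).minFac).Prime := Nat.minFac_prime ho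
  obtain ⟨m, hm⟩ : (orderOf x).minFac ∣ orderOf x := Nat.minFac_dvd _
  refine ⟨(orderOf x).minFac, m, hrp, ?_, ?_, Nat.minFac_dvd _⟩
  · intro h
    have h1 : orderOf x ∣ m := orderOf_dvd_of_pow_eq_one h
    have hpos : 0 < orderOf x := orderOf_pos x
    have hmpos : 0 < m := by
      rcases Nat.eq_zero_or_pos m with h0 | h0
      · rw [h0, mul_zero] at hm; omega
      · exact h0
    have h2 : orderOf x ≤ m := Nat.le_of_dvd hmpos h1
    have h3 := hrp.two_le
    rw [hm] at h2
    nlinarith
  · exact ⟨1, by rw [pow_one, ← pow_mul, mul_comm, ← hm, pow_orderOf_eq_one]⟩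

end Cfsg.Agent.H31
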