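import Mathlib
import Cfsg.Prelude.Def_Solvable
import Cfsg.Prelude.Def_CaseTheorems

/-!
# Cores `O_p(G)`, `O_{p'}(G)` of finite groups (helper31's self-contained copy; the arguments are
the standard ones, also found in `Cfsg.Agent.H60.Cores`)
-/

set_option autoImplicit false

namespace Cfsg.Agent.H31

open Cfsg

section card

variable {G : Type*} [Group G]

/-- `|N| * [K : N] = |K|` for `N ≤ K`. -/
theorem card_mul_relIndex_of_le {N K : Subgroup G} (h : N ≤ K) :
    Nat.card N * N.relIndex K = Nat.card K := by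
  have h1 : Nat.card (N.subgroupOf K) = Nat.card N :=
    Nat.card_congr (Subgroup.subgroupOfEquivOfLe h).toEquiv
  rw [Subgroup.relIndex, ← h1, Subgroup.card_mul_index]

/-- The join of a subgroup and a normal subgroup, both of order prime to `p`, has order prime to
`p`. -/
theorem coprime_card_sup {p : ℕ} {M N : Subgroup G} [N.Normal] (hM : (Nat.card M).Coprime p)
    (hN : (Nat.card N).Coprime p) : (Nat.card (M ⊔ N : Subgroup G)).Coprime p := by
  rw [← card_mul_relIndex_of_le (le_sup_right : N ≤ M ⊔ N), Subgroup.relIndex_sup_right]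
  exact Nat.Coprime.mul_left hN (Nat.Coprime.coprime_dvd_left (Subgroup.relIndex_dvd_card N M) hM)

end card

section cores

variable {G : Type*} [Group G] [Finite G]

/-- `O_{p'}(G)` has order prime to `p`. -/
theorem card_pPrimeCore_coprime (p : ℕ) : (Nat.card (pPrimeCore p G)).Coprime p := by
  have hfin : ({N : Subgroup G | N.Normal ∧ (Nat.card N).Coprime p}).Finite := Set.toFinite _
  have hS : pPrimeCore p G = hfin.toFinset.sup id := by
    rw [Finset.sup_id_eq_sSup, Set.Finite.coe_toFinset]; rfl
  have key : (hfin.toFinset.sup id).Normal ∧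
      (Nat.card (hfin.toFinset.sup id : Subgroup G)).Coprime p := by
    refine Finset.sup_induction (p := fun N : Subgroup G => N.Normal ∧ (Nat.card N).Coprime p)
      ?_ ?_ ?_
    · refine ⟨inferInstance, ?_⟩
      rw [Subgroup.card_bot]; exact Nat.coprime_one_left p
    · rintro M ⟨hMn, hM⟩ N ⟨hNn, hN⟩
      exact ⟨inferInstance, coprime_card_sup hM hN⟩
    · intro N hN
      exact (Set.Finite.mem_toFinset hfin).mp hN
  rw [hS]; exact key.2

omit [Finite G] in
/-- A normal subgroup of order prime to `p` lies in `O_{p'}(G)`. -/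
theorem le_pPrimeCore {p : ℕ} {N : Subgroup G} (hn : N.Normal) (hN : (Nat.card N).Coprime p) :
    N ≤ pPrimeCore p G :=
  le_sSup ⟨hn, hN⟩

omit [Finite G] in
/-- `O_p(G)` is a `p`-group. -/
theorem isPGroup_pCore (p : ℕ) [Fact p.Prime] : IsPGroup p (pCore p G) :=
  Sylow.sSup_of_normal _ (fun _ h => h.2) (fun _ h => h.1)

omit [Finite G] in
/-- A normal `p`-subgroup lies in `O_p(G)`. -/
theorem le_pCore {p : ℕ} {N : Subgroup G} (hn : N.Normal) (hN : IsPGroup p N) : N ≤ pCore p G :=
  le_sSup ⟨hn, hN⟩

end cores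

end Cfsg.Agent.H31
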