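import Cfsg.Agent.S1474
import Cfsg.Agent.S1475
import Cfsg.Agent.H31.Cores
import Cfsg.Agent.H60.Cores
import Cfsg.Agent.Lib.Helper96.Frob5
import Cfsg.Prelude.Def_OddOrderLocal

set_option autoImplicit false

namespace Cfsg.Agent.H31

open Cfsg
open Cfsg.Agent.S1474 (comm_of_forall_isEl comm_in_nilpotent eq_one_of_isEl_of_not_dvd nilpotent_of_le)

universe u

/-- Structure of a finite nilpotent group whose Sylow subgroups are cyclic or generalized
quaternion and whose abelian subgroups are cyclic. -/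
theorem nilp_struct {E : Type*} [Group E] [Finite E] [hn : Group.IsNilpotent E]
    (hsyl : ∀ (q : ℕ) [Fact q.Prime] (Q : Sylow q E),
      IsCyclic Q ∨ ∃ n : ℕ, Nonempty (Q ≃* QuaternionGroup (2 ^ n)))
    (hab : ∀ B : Subgroup E, (∀ a ∈ B, ∀ b ∈ B, a * b = b * a) → IsCyclic B) :
    IsCyclic E ∨ ∃ C Q : Subgroup E, C ⊔ Q = ⊤ ∧ (∀ a ∈ C, ∀ b ∈ Q, a * b = b * a) ∧ IsCyclic C ∧
      Odd (Nat.card C) ∧ ∃ n : ℕ, Nonempty (Q ≃* QuaternionGroup (2 ^ n)) := by
  classical
  have hodd : ∀ (q : ℕ) [Fact q.Prime], q ≠ 2 → ∀ Q : Sylow q E, IsCyclic Q := by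
    intro q _ hq2 Q
    rcases hsyl q Q with h | ⟨n, ⟨e⟩⟩
    · exact h
    · exfalso
      haveI : NeZero (2 ^ n) := ⟨by positivity⟩
      have h1 : Nat.card Q = 4 * 2 ^ n := by
        rw [Nat.card_congr e.toEquiv, Nat.card_eq_fintype_card, QuaternionGroup.card]
      obtain ⟨k, hk⟩ := IsPGroup.iff_card.mp Q.2
      have h2 : 2 ∣ q ^ k := by
        rw [← hk, h1]
        exact Dvd.intro (2 * 2 ^ n) (by ring)
      have h3 := Nat.Prime.dvd_of_dvd_pow Nat.prime_two h2
      exact hq2 ((Nat.prime_dvd_prime_iff_eq Nat.prime_two Fact.out).mp h3).symm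
  -- commuting of elements of the same cyclic Sylow subgroup
  have hsame : ∀ (q : ℕ) [Fact q.Prime] (Q : Sylow q E), IsCyclic Q → ∀ x y : E, IsEl q x → IsEl q y →
      x * y = y * x := by
    intro q _ Q hQ x y hx hy
    have hxQ := mem_sylow_of_isEl Q x hx
    have hyQ := mem_sylow_of_isEl Q y hy
    have := (IsCyclic.isMulCommutative (α := Q)).is_comm.comm ⟨x, hxQ⟩ ⟨y, hyQ⟩
    exact congrArg Subtype.val this
  by_cases h2c : IsCyclic (default : Sylow 2 E)
  · left
    have hpp : ∀ (q r : ℕ), q.Prime → r.Prime → ∀ x y : E, IsEl q x → IsEl r y → x * y = y * x := by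
      intro q r hq hr x y hx hy
      by_cases hqr : q = r
      · subst hqr
        haveI : Fact q.Prime := ⟨hq⟩
        by_cases hq2 : q = 2
        · subst hq2
          exact hsame 2 default h2c x y hx hy
        · exact hsame q default (hodd q hq2 default) x y hx hy
      · exact comm_of_nilpotent hq hr hqr x y hx hy
    have step1 : ∀ (r : ℕ), r.Prime → ∀ y : E, IsEl r y → ∀ x : E, x * y = y * x := by
      intro r hr y hy x
      exact comm_of_forall_isEl ⊤ y (fun q hq x _ hxe => hpp q r hq hr x y hxe hy) x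
        (Subgroup.mem_top x)
    have step2 : ∀ a b : E, a * b = b * a := by
      intro a b
      exact comm_of_forall_isEl ⊤ b (fun q hq x _ hxe => (step1 q hq x hxe b).symm) a
        (Subgroup.mem_top a)
    have := hab ⊤ (fun a _ b _ => step2 a b)
    exact isCyclic_of_surjective (Subgroup.topEquiv : (⊤ : Subgroup E) ≃* E)
      (Subgroup.topEquiv : (⊤ : Subgroup E) ≃* E).surjective
  · right
    obtain ⟨n, ⟨e⟩⟩ := (hsyl 2 default).resolve_left h2c
    set Q₂ : Sylow 2 E := default with hQ₂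
    haveI hQn : (Q₂ : Subgroup E).Normal := inferInstance
    obtain ⟨C, hC⟩ := Subgroup.exists_right_complement'_of_coprime Q₂.card_coprime_index
    have hCcard : Nat.card C = (Q₂ : Subgroup E).index := by
      have h1 := hC.card_mul_card
      have h2 := (Q₂ : Subgroup E).card_mul_index
      have hpos : 0 < Nat.card (Q₂ : Subgroup E) := Nat.card_pos
      exact Nat.eq_of_mul_eq_mul_left hpos (h1.trans h2.symm)
    have h2C : ¬ 2 ∣ Nat.card C := by rw [hCcard]; exact Q₂.not_dvd_index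
    have hel2 : ∀ x ∈ C, IsEl 2 x → x = 1 := fun x hx hxe =>
      eq_one_of_isEl_of_not_dvd C Nat.prime_two h2C x hx hxe
    refine ⟨C, (Q₂ : Subgroup E), ?_, ?_, ?_, ?_, n, ⟨e⟩⟩
    · rw [sup_comm]; exact hC.sup_eq_top
    · intro a ha b hb
      refine comm_of_forall_isEl C b (fun q hq x hxC hxe => ?_) a ha
      by_cases hq2 : q = 2
      · subst hq2
        rw [hel2 x hxC hxe, one_mul, mul_one]
      · exact comm_of_nilpotent hq Nat.prime_two hq2 x b hxe (isEl_of_isPGroup Q₂.2 hb)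
    · apply hab
      have hpp : ∀ (q r : ℕ), q.Prime → r.Prime → ∀ x ∈ C, ∀ y ∈ C, IsEl q x → IsEl r y →
          x * y = y * x := by
        intro q r hq hr x hxC y hyC hx hy
        by_cases hq2 : q = 2
        · subst hq2
          rw [hel2 x hxC hx, one_mul, mul_one]
        by_cases hqr : q = r
        · subst hqr
          haveI : Fact q.Prime := ⟨hq⟩
          exact hsame q default (hodd q hq2 default) x y hx hy
        · exact comm_of_nilpotent hq hr hqr x y hx hy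
      have step1 : ∀ (r : ℕ), r.Prime → ∀ y ∈ C, IsEl r y → ∀ x ∈ C, x * y = y * x := by
        intro r hr y hyC hy x hxC
        exact comm_of_forall_isEl C y (fun q hq x hxC hxe => hpp q r hq hr x hxC y hyC hxe hy) x hxC
      intro a ha b hb
      exact comm_of_forall_isEl C b (fun q hq x hxC hxe => (step1 q hq x hxC hxe b hb).symm) a ha
    · rw [← Nat.not_even_iff_odd, even_iff_two_dvd]; exact h2C

/-- The statement of S0041, as needed by helper96's Frobenius library. -/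
theorem s41 (G : Type*) [Group G] [Finite G] : Lib.Helper96.S41 G :=
  fun A V _ hV hAV hf hA => Cfsg.Agent.S0041.result A V hV hAV hf hA

/-- A nilpotent group acting fixed-point-freely is cyclic, or cyclic of odd order times
generalized quaternion. -/
theorem frob_compl_struct {G : Type*} [Group G] [Finite G] (K E : Subgroup G) [K.Normal]
    (hK : K ≠ ⊥) (hfpf : ∀ e ∈ E, e ≠ 1 → K ⊓ Subgroup.centralizer ({e} : Set G) = ⊥)
    (hEn : Group.IsNilpotent E) :
    IsCyclic E ∨ ∃ C Q : Subgroup G, C ⊔ Q = E ∧ (∀ a ∈ C, ∀ b ∈ Q, a * b = b * a) ∧ IsCyclic C ∧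
      Odd (Nat.card C) ∧ ∃ n : ℕ, Nonempty (↥Q ≃* QuaternionGroup (2 ^ n)) := by
  classical
  have hinj : Function.Injective E.subtype := Subgroup.subtype_injective E
  have hab : ∀ B : Subgroup E, (∀ a ∈ B, ∀ b ∈ B, a * b = b * a) → IsCyclic B := by
    intro B hB
    have h1 : IsCyclic (B.map E.subtype) := by
      refine Lib.Helper96.fpf_isCyclic_of_comm (s41 G) K E hK hfpf (B.map E.subtype) ?_ ?_
      · rintro _ ⟨b, _, rfl⟩
        exact b.2
      · rintro _ ⟨a, ha, rfl⟩ _ ⟨b, hb, rfl⟩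
        exact congrArg Subtype.val (hB a ha b hb)
    exact isCyclic_of_surjective (B.equivMapOfInjective E.subtype hinj).symm
      (B.equivMapOfInjective E.subtype hinj).symm.surjective
  rcases nilp_struct (E := E)
    (fun q _ Q => Lib.Helper96.fpf_sylow_cyclic_or_quaternion (s41 G) K E hK hfpf q Q)
    hab with h | ⟨C, Q, hCQ, hcomm, hCc, hCo, n, ⟨e⟩⟩
  · left; exact h
  · right
    refine ⟨C.map E.subtype, Q.map E.subtype, ?_, ?_, ?_, ?_, n, ⟨?_⟩⟩
    · rw [← Subgroup.map_sup, hCQ, ← MonoidHom.range_eq_map, Subgroup.range_subtype]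
    · rintro _ ⟨a, ha, rfl⟩ _ ⟨b, hb, rfl⟩
      exact congrArg Subtype.val (hcomm a ha b hb)
    · exact isCyclic_of_surjective (C.equivMapOfInjective E.subtype hinj)
        (C.equivMapOfInjective E.subtype hinj).surjective
    · rw [Subgroup.card_map_of_injective hinj]; exact hCo
    · exact (Q.equivMapOfInjective E.subtype hinj).symm.trans e


theorem mem_cent_single {G : Type*} [Group G] {g x : G} (h : x * g = g * x) :
    g ∈ Subgroup.centralizer ({x} : Set G) := by
  rw [Subgroup.mem_centralizer_iff]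
  intro y hy
  rw [Set.mem_singleton_iff] at hy
  subst hy
  exact h

theorem sylow_normal_of_le_normal_nilpotent {G : Type*} [Group G] [Finite G] {s : ℕ}
    [Fact s.Prime] (S : Sylow s G) (D : Subgroup G) [hDn : D.Normal] (hDnil : Group.IsNilpotent D)
    (hSD : (S : Subgroup G) ≤ D) : (S : Subgroup G).Normal := by
  constructor
  intro x hx g
  have hxe : IsEl s x := isEl_of_isPGroup S.2 hx
  have hgD : g * x * g⁻¹ ∈ D := hDn.conj_mem x (hSD hx) g
  haveI := hDnil
  have h1 : (⟨g * x * g⁻¹, hgD⟩ : D) ∈ ((S.subtype hSD : Sylow s D) : Subgroup D) :=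
    mem_sylow_of_isEl (S.subtype hSD) ⟨g * x * g⁻¹, hgD⟩ ((hxe.conj g).subtype_mk hgD)
  rw [Sylow.coe_subtype, Subgroup.mem_subgroupOf] at h1
  exact h1

/-- In a CN-group with a nontrivial normal `p`-subgroup and a nontrivial normal `p'`-subgroup,
the Sylow `p`-subgroups are normal. -/
theorem sylow_normal_of_two_normal {G : Type*} [Group G] [Finite G] (hCN : IsCNGroup G) {p : ℕ}
    [Fact p.Prime] (M₁ M₂ : Subgroup G) [hM₁ : M₁.Normal] [hM₂ : M₂.Normal] (h1 : IsPGroup p M₁)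
    (h11 : M₁ ≠ ⊥) (h21 : M₂ ≠ ⊥) (h2 : ¬ p ∣ Nat.card M₂) (S : Sylow p G) :
    (S : Subgroup G).Normal := by
  have hpp : p.Prime := Fact.out
  obtain ⟨w, hwM, hw1, hwc⟩ := exists_fixed_in_pgroup hpp (S : Subgroup G) M₁ S.2 h1 h11
    (fun a _ b hb => hM₁.conj_mem b hb a)
  have hCw := hCN w hw1
  have hM : ∀ m₁ ∈ M₁, ∀ m₂ ∈ M₂, m₁ * m₂ = m₂ * m₁ := by
    intro m₁ hm₁ m₂ hm₂
    have hc1 : m₁ * m₂ * m₁⁻¹ * m₂⁻¹ ∈ M₂ := mul_mem (hM₂.conj_mem m₂ hm₂ m₁) (inv_mem hm₂)
    have hc2 : m₁ * m₂ * m₁⁻¹ * m₂⁻¹ ∈ M₁ := by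
      have := mul_mem hm₁ (hM₁.conj_mem m₁⁻¹ (inv_mem hm₁) m₂)
      simpa [mul_assoc] using this
    have h3 : m₁ * m₂ * m₁⁻¹ * m₂⁻¹ = 1 :=
      eq_one_of_isEl_of_not_dvd M₂ hpp h2 _ hc1 (isEl_of_isPGroup h1 hc2)
    calc m₁ * m₂ = (m₁ * m₂ * m₁⁻¹ * m₂⁻¹) * (m₂ * m₁) := by group
      _ = m₂ * m₁ := by rw [h3, one_mul]
  have hSD : (S : Subgroup G) ≤ Subgroup.centralizer (M₂ : Set G) := by
    intro a ha
    rw [Subgroup.mem_centralizer_iff]
    apply comm_of_forall_isEl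
    intro q hq x hx hxe
    by_cases hqp : q = p
    · subst hqp
      rw [eq_one_of_isEl_of_not_dvd M₂ hq h2 x hx hxe, one_mul, mul_one]
    · exact comm_in_nilpotent _ hCw hq hpp hqp x a (mem_cent_single (hM w hwM x hx))
        (mem_cent_single (hwc a ha).symm) hxe (isEl_of_isPGroup S.2 ha)
  obtain ⟨v, hv, hv1⟩ : ∃ v ∈ M₂, v ≠ 1 := by
    by_contra hcon
    push Not at hcon
    exact h21 (eq_bot_iff.mpr (fun x hx => Subgroup.mem_bot.mpr (hcon x hx)))
  have hDnil : Group.IsNilpotent (Subgroup.centralizer (M₂ : Set G)) :=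
    nilpotent_of_le (Subgroup.centralizer_le (Set.singleton_subset_iff.mpr hv)) (hCN v hv1)
  exact sylow_normal_of_le_normal_nilpotent S _ hDnil hSD

/-- Relative Schur–Zassenhaus (existence). -/
theorem exists_rel_complement {G : Type*} [Group G] [Finite G] (P H : Subgroup G) [P.Normal]
    (hPH : P ≤ H) (hcop : (Nat.card P).Coprime (P.relIndex H)) :
    ∃ A : Subgroup G, A ≤ H ∧ P ⊓ A = ⊥ ∧ P ⊔ A = H ∧ Nat.card A = P.relIndex H := by
  haveI : (P.subgroupOf H).Normal := inferInstance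
  have hc1 : Nat.card (P.subgroupOf H) = Nat.card P :=
    Nat.card_congr (Subgroup.subgroupOfEquivOfLe hPH).toEquiv
  have hcop' : (Nat.card (P.subgroupOf H)).Coprime (P.subgroupOf H).index := by
    rw [hc1]; exact hcop
  obtain ⟨A', hA'⟩ := Subgroup.exists_right_complement'_of_coprime hcop'
  refine ⟨A'.map H.subtype, ?_, ?_, ?_, ?_⟩
  · rintro _ ⟨a, _, rfl⟩
    exact a.2
  · rw [eq_bot_iff]
    rintro x ⟨hxP, ⟨a, ha, rfl⟩⟩
    have h1 : a ∈ P.subgroupOf H ⊓ A' := ⟨Subgroup.mem_subgroupOf.mpr hxP, ha⟩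
    rw [hA'.disjoint.eq_bot, Subgroup.mem_bot] at h1
    rw [Subgroup.mem_bot, h1]
    rfl
  · have h1 := congrArg (Subgroup.map H.subtype) hA'.sup_eq_top
    rw [Subgroup.map_sup, Subgroup.map_subgroupOf_eq_of_le hPH, ← MonoidHom.range_eq_map,
      Subgroup.range_subtype] at h1
    exact h1
  · rw [Subgroup.card_map_of_injective (Subgroup.subtype_injective H)]
    have h1 := hA'.card_mul_card
    have h2 := (P.subgroupOf H).card_mul_index
    exact Nat.eq_of_mul_eq_mul_left Nat.card_pos (h1.trans h2.symm)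

/-- Frattini argument via Schur–Zassenhaus conjugacy. -/
theorem frattini_sz {G : Type*} [Group G] [Finite G] (P A : Subgroup G) [P.Normal]
    (hPs : Group.IsSolvable P) (hn : (P ⊔ A).Normal) (hcop : (Nat.card P).Coprime (Nat.card A))
    (g : G) : ∃ u ∈ P, u⁻¹ * g ∈ Subgroup.normalizer (A : Set G) := by
  have hle : A.map (MulAut.conj g).toMonoidHom ≤ P ⊔ A := by
    rintro _ ⟨a, ha, rfl⟩
    exact hn.conj_mem a (Subgroup.mem_sup_right ha) g
  have hcard : Nat.card (A.map (MulAut.conj g).toMonoidHom) = Nat.card A :=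
    Subgroup.card_map_of_injective (MulAut.conj g).injective
  obtain ⟨x, hx, hxe⟩ := sz_conj P A (A.map (MulAut.conj g).toMonoidHom) hPs hcop hcard hle
  refine ⟨x, hx, ?_⟩
  rw [Subgroup.mem_normalizer_iff]
  intro a
  constructor
  · intro ha
    have h1 : g * a * g⁻¹ ∈ A.map (MulAut.conj g).toMonoidHom := ⟨a, ha, rfl⟩
    rw [hxe] at h1
    obtain ⟨b, hb, hbe⟩ := h1
    have hbe' : x * b * x⁻¹ = g * a * g⁻¹ := hbe
    have h2 : x⁻¹ * g * a * (x⁻¹ * g)⁻¹ = b := by
      calc x⁻¹ * g * a * (x⁻¹ * g)⁻¹ = x⁻¹ * (g * a * g⁻¹) * x := by group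
        _ = x⁻¹ * (x * b * x⁻¹) * x := by rw [hbe']
        _ = b := by group
    rw [h2]; exact hb
  · intro ha
    have h1 : x * (x⁻¹ * g * a * (x⁻¹ * g)⁻¹) * x⁻¹ ∈ A.map (MulAut.conj x).toMonoidHom :=
      ⟨_, ha, rfl⟩
    rw [← hxe] at h1
    obtain ⟨b, hb, hbe⟩ := h1
    have hbe' : g * b * g⁻¹ = x * (x⁻¹ * g * a * (x⁻¹ * g)⁻¹) * x⁻¹ := hbe
    have h2 : x * (x⁻¹ * g * a * (x⁻¹ * g)⁻¹) * x⁻¹ = g * a * g⁻¹ := by group
    rw [h2] at hbe'
    have h3 : b = a := by
      have := congrArg (fun t => g⁻¹ * t * g) hbe'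
      simpa [mul_assoc] using this
    rw [← h3]; exact hb

theorem conj_pow_of_cyclic {G : Type*} [Group G] (A : Subgroup G) [IsCyclic A] (n : G)
    (hn : n ∈ Subgroup.normalizer (A : Set G)) : ∃ m : ℤ, ∀ a ∈ A, n * a * n⁻¹ = a ^ m := by
  let σ : A →* A :=
    { toFun := fun a => ⟨n * a * n⁻¹, (Subgroup.mem_normalizer_iff.mp hn a).mp a.2⟩
      map_one' := by ext; simp
      map_mul' := by intro a b; ext; simp [mul_assoc] }
  obtain ⟨m, hm⟩ := MonoidHom.map_cyclic σ
  refine ⟨m, fun a ha => ?_⟩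
  have := congrArg Subtype.val (hm ⟨a, ha⟩)
  simpa [σ] using this

end Cfsg.Agent.H31
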