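import Mathlib
import Cfsg.Prelude.Def_OddOrderLocal
import Cfsg.Agent.H31.Cores

/-!
# The largest normal nilpotent Hall subgroup `M_F` (helper31)

A self-contained proof that `fittingHall M` is a Hall subgroup (the statement is also in
`Cfsg.Agent.H29.TypeP`, whose import closure clashes with `Cfsg.Agent.H29.ThompsonInt`).
-/

set_option autoImplicit false

namespace Cfsg.Agent.H31

open Cfsg

universe u

theorem fittingHall_card_coprime_index' (M : Type u) [Group M] [Finite M] :
    (Nat.card (fittingHall M)).Coprime (fittingHall M).index := by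
  have hfin : ({N : Subgroup M | N.Normal ∧ Group.IsNilpotent N ∧
      (Nat.card N).Coprime N.index}).Finite := Set.toFinite _
  have hS : fittingHall M = hfin.toFinset.sup id := by
    rw [Finset.sup_id_eq_sSup, Set.Finite.coe_toFinset]; rfl
  have key : (hfin.toFinset.sup id).Normal ∧
      (Nat.card (hfin.toFinset.sup id : Subgroup M)).Coprime (hfin.toFinset.sup id).index := by
    refine Finset.sup_induction
      (p := fun N : Subgroup M => N.Normal ∧ (Nat.card N).Coprime N.index) ?_ ?_ ?_
    · refine ⟨inferInstance, ?_⟩
      rw [Subgroup.card_bot]; exact Nat.coprime_one_left _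
    · rintro A ⟨hAn, hA⟩ B ⟨hBn, hB⟩
      refine ⟨inferInstance, ?_⟩
      have hdvd : Nat.card (A ⊔ B : Subgroup M) ∣ Nat.card B * Nat.card A := by
        rw [← card_mul_relIndex_of_le (le_sup_right : B ≤ A ⊔ B), Subgroup.relIndex_sup_right]
        exact Nat.mul_dvd_mul_left _ (Subgroup.relIndex_dvd_card B A)
      apply Nat.Coprime.coprime_dvd_left hdvd
      apply Nat.Coprime.mul_left
      · exact Nat.Coprime.coprime_dvd_right (Subgroup.index_dvd_of_le le_sup_right) hB
      · exact Nat.Coprime.coprime_dvd_right (Subgroup.index_dvd_of_le le_sup_left) hA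
    · intro N hN
      have := (Set.Finite.mem_toFinset hfin).mp hN
      exact ⟨this.1, this.2.2⟩
  rw [hS]; exact key.2

end Cfsg.Agent.H31
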