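import Mathlib

/-!
# Conjugacy part of the Schur–Zassenhaus theorem for a solvable normal subgroup (helper31)

`sz_conj`: if `N` is a solvable normal subgroup of the finite group `G`, and `H₁`, `H₂` are subgroups
with `|H₂| = |H₁|` prime to `|N|` and `H₂ ≤ N H₁`, then `H₂ = x H₁ x⁻¹` for some `x ∈ N`.
-/

set_option autoImplicit false

namespace Cfsg.Agent.H31

/-- Cardinality of the image of a subgroup on which a homomorphism is injective. -/
theorem card_map_of_injOn {G G' : Type*} [Group G] [Group G'] (f : G →* G') (H : Subgroup G)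
    (h : ∀ c ∈ H, f c = 1 → c = 1) : Nat.card (H.map f) = Nat.card H := by
  have hinj : Function.Injective (f.subgroupMap H) := by
    rw [injective_iff_map_eq_one]
    intro x hx
    exact Subtype.ext (h x x.2 (congrArg Subtype.val hx))
  exact (Nat.card_congr (Equiv.ofBijective _ ⟨hinj, f.subgroupMap_surjective H⟩)).symm

/-- Subgroups of coprime orders meet trivially (elementwise form). -/
theorem eq_one_of_mem_of_coprime {G : Type*} [Group G] (N H : Subgroup G)
    (hc : (Nat.card N).Coprime (Nat.card H)) (c : G) (hcN : c ∈ N) (hcH : c ∈ H) : c = 1 := by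
  have h1 := Subgroup.orderOf_dvd_natCard N hcN
  have h2 := Subgroup.orderOf_dvd_natCard H hcH
  have h3 := Nat.dvd_gcd h1 h2
  rw [Nat.Coprime.gcd_eq_one hc] at h3
  exact orderOf_eq_one_iff.mp (Nat.dvd_one.mp h3)

/-- Schur–Zassenhaus conjugacy, abelian normal subgroup, relative form. -/
theorem sz_conj_abelian {G : Type*} [Group G] [Finite G] (N H₁ H₂ : Subgroup G) [hN : N.Normal]
    (hab : ∀ a ∈ N, ∀ b ∈ N, a * b = b * a) (hcop : (Nat.card N).Coprime (Nat.card H₁))
    (hcard : Nat.card H₂ = Nat.card H₁) (hle : H₂ ≤ N ⊔ H₁) :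
    ∃ x ∈ N, H₂ = H₁.map (MulAut.conj x).toMonoidHom := by
  classical
  have hNH₁ := eq_one_of_mem_of_coprime N H₁ hcop
  have hNH₂ := eq_one_of_mem_of_coprime N H₂ (by rw [hcard]; exact hcop)
  have hex : ∀ a ∈ H₁, ∃ n ∈ N, n * a ∈ H₂ := by
    have hmap : H₂.map (QuotientGroup.mk' N) = H₁.map (QuotientGroup.mk' N) := by
      apply Subgroup.eq_of_le_of_card_ge
      · rintro _ ⟨h, hh, rfl⟩
        have h1 := hle hh
        rw [← SetLike.mem_coe, Subgroup.normal_mul] at h1
        obtain ⟨n, hn, a, ha, rfl⟩ := Set.mem_mul.mp h1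
        refine ⟨a, ha, ?_⟩
        have hn1 : (QuotientGroup.mk' N) n = 1 := (QuotientGroup.eq_one_iff n).mpr hn
        rw [map_mul, hn1, one_mul]
      · rw [card_map_of_injOn _ H₁ (fun c hc h => hNH₁ c ((QuotientGroup.eq_one_iff c).mp h) hc),
          card_map_of_injOn _ H₂ (fun c hc h => hNH₂ c ((QuotientGroup.eq_one_iff c).mp h) hc)]
        exact hcard.symm.le
    intro a ha
    have h1 : (QuotientGroup.mk' N) a ∈ H₂.map (QuotientGroup.mk' N) := by
      rw [hmap]; exact ⟨a, ha, rfl⟩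
    obtain ⟨h, hh, hha⟩ := h1
    refine ⟨h * a⁻¹, ?_, by simpa using hh⟩
    have h2 : (QuotientGroup.mk' N) (h * a⁻¹) = 1 := by
      rw [map_mul, map_inv, hha, mul_inv_cancel]
    exact (QuotientGroup.eq_one_iff _).mp h2
  choose! d hdN hdH using hex
  have huniq : ∀ a ∈ H₁, ∀ n ∈ N, n * a ∈ H₂ → n = d a := by
    intro a ha n hn hna
    have h1 : n * (d a)⁻¹ ∈ H₂ := by
      have : n * (d a)⁻¹ = (n * a) * (d a * a)⁻¹ := by group
      rw [this]; exact H₂.mul_mem hna (H₂.inv_mem (hdH a ha))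
    have h2 := hNH₂ _ (N.mul_mem hn (N.inv_mem (hdN a ha))) h1
    exact mul_inv_eq_one.mp h2
  have hcoc : ∀ a ∈ H₁, ∀ b ∈ H₁, d (a * b) = d a * (a * d b * a⁻¹) := by
    intro a ha b hb
    symm
    apply huniq (a * b) (H₁.mul_mem ha hb)
    · exact N.mul_mem (hdN a ha) (hN.conj_mem _ (hdN b hb) a)
    · have : d a * (a * d b * a⁻¹) * (a * b) = (d a * a) * (d b * b) := by group
      rw [this]; exact H₂.mul_mem (hdH a ha) (hdH b hb)
  letI : CommGroup N :=
    { (inferInstance : Group N) with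
      mul_comm := fun a b => Subtype.ext (hab a a.2 b b.2) }
  have : Fintype H₁ := Fintype.ofFinite H₁
  let d' : H₁ → N := fun a => ⟨d a, hdN a a.2⟩
  let cj : H₁ → (N →* N) := fun a => (MulAut.conjNormal (a : G) : MulAut N).toMonoidHom
  have hcoc' : ∀ a b : H₁, d' (a * b) = d' a * cj a (d' b) := by
    intro a b
    apply Subtype.ext
    exact hcoc a a.2 b b.2
  have hprod : ∀ a : H₁, ∏ b : H₁, d' b = d' a ^ (Nat.card H₁) * cj a (∏ b : H₁, d' b) := by
    intro a
    have h1 : ∏ b : H₁, d' b = ∏ b : H₁, d' (a * b) :=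
      (Fintype.prod_equiv (Equiv.mulLeft a) _ _ (fun b => rfl)).symm
    rw [map_prod]
    conv_lhs => rw [h1]
    rw [Finset.prod_congr rfl (fun b _ => hcoc' a b), Finset.prod_mul_distrib, Finset.prod_const,
      Finset.card_univ, Nat.card_eq_fintype_card]
  have hcop' : (Nat.card N).Coprime (Nat.card H₁) := hcop
  obtain ⟨f, hf⟩ : ∃ f : N, f ^ (Nat.card H₁) = ∏ b : H₁, d' b :=
    ⟨(powCoprime hcop').symm (∏ b : H₁, d' b), (powCoprime hcop').apply_symm_apply _⟩
  have hd : ∀ a : H₁, d' a = f * (cj a f)⁻¹ := by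
    intro a
    apply (powCoprime hcop').injective
    show d' a ^ (Nat.card H₁) = (f * (cj a f)⁻¹) ^ (Nat.card H₁)
    rw [mul_pow, inv_pow, ← map_pow, hf, eq_mul_inv_iff_mul_eq]
    exact (hprod a).symm
  refine ⟨f, f.2, ?_⟩
  symm
  apply Subgroup.eq_of_le_of_card_ge
  · rintro _ ⟨a, ha, rfl⟩
    show (f : G) * a * (f : G)⁻¹ ∈ H₂
    have h1 := hdH a ha
    have h3 : d a = (f : G) * (a * (f : G) * a⁻¹)⁻¹ := congrArg Subtype.val (hd ⟨a, ha⟩)
    have h4 : (f : G) * a * (f : G)⁻¹ = d a * a := by rw [h3]; group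
    rw [h4]; exact h1
  · rw [hcard, Subgroup.card_map_of_injective (MulAut.conj (f : G)).injective]

universe u

theorem sz_conj_aux (n : ℕ) : ∀ (G : Type u) [Group G] [Finite G] (N H₁ H₂ : Subgroup G)
    [N.Normal], Nat.card N = n → Group.IsSolvable N → (Nat.card N).Coprime (Nat.card H₁) →
    Nat.card H₂ = Nat.card H₁ → H₂ ≤ N ⊔ H₁ →
    ∃ x ∈ N, H₂ = H₁.map (MulAut.conj x).toMonoidHom := by
  induction n using Nat.strong_induction_on with
  | _ n ih =>
    intro G _ _ N H₁ H₂ hNn hn hsol hcop hcard hle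
    haveI : Group.IsSolvable N := hsol
    by_cases hbot : N = ⊥
    · subst hbot
      refine ⟨1, Subgroup.one_mem _, ?_⟩
      have h1 : H₂ ≤ H₁ := by simpa using hle
      have h2 : H₂ = H₁ := Subgroup.eq_of_le_of_card_ge h1 hcard.symm.le
      rw [h2]
      ext y
      simp
    · have hN'n : (⁅N, N⁆ : Subgroup G).Normal := Subgroup.commutator_normal N N
      have hN'le : ⁅N, N⁆ ≤ N := Subgroup.commutator_le_left N N
      have hnt : Nontrivial N := (Subgroup.nontrivial_iff_ne_bot N).mpr hbot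
      have hN'ne : ⁅N, N⁆ ≠ N := by
        intro heq
        have hlt := Group.IsSolvable.commutator_lt_top_of_nontrivial (G := N)
        apply hlt.ne
        rw [eq_top_iff]
        intro x _
        have hx : (x : G) ∈ ⁅N, N⁆ := by rw [heq]; exact x.2
        rw [← Subgroup.map_subtype_commutator] at hx
        obtain ⟨y, hy, hyx⟩ := hx
        have : y = x := Subtype.ext hyx
        rw [← this]; exact hy
      have hcardlt : Nat.card (⁅N, N⁆ : Subgroup G) < n := by
        rw [← hn]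
        apply lt_of_le_of_ne (Subgroup.card_le_of_le hN'le)
        intro hc
        exact hN'ne (Subgroup.eq_of_le_of_card_ge hN'le hc.ge)
      have hsol' : Group.IsSolvable (⁅N, N⁆ : Subgroup G) :=
        solvable_of_ker_le_range (1 : Unit →* (⁅N, N⁆ : Subgroup G)) (Subgroup.inclusion hN'le)
          (fun x hx => by
            have : x = 1 := Subgroup.inclusion_injective hN'le (by rw [MonoidHom.mem_ker.mp hx]; rfl)
            rw [this]; exact Subgroup.one_mem _)
      have hπs : Function.Surjective (QuotientGroup.mk' (⁅N, N⁆ : Subgroup G)) :=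
        QuotientGroup.mk'_surjective _
      haveI : (N.map (QuotientGroup.mk' (⁅N, N⁆ : Subgroup G))).Normal :=
        Subgroup.Normal.map hNn _ hπs
      have hNH₁ := eq_one_of_mem_of_coprime N H₁ hcop
      have hNH₂ := eq_one_of_mem_of_coprime N H₂ (by rw [hcard]; exact hcop)
      have hc₁ : Nat.card (H₁.map (QuotientGroup.mk' (⁅N, N⁆ : Subgroup G))) = Nat.card H₁ :=
        card_map_of_injOn _ H₁
          (fun c hc h => hNH₁ c (hN'le ((QuotientGroup.eq_one_iff c).mp h)) hc)
      have hc₂ : Nat.card (H₂.map (QuotientGroup.mk' (⁅N, N⁆ : Subgroup G))) = Nat.card H₂ :=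
        card_map_of_injOn _ H₂
          (fun c hc h => hNH₂ c (hN'le ((QuotientGroup.eq_one_iff c).mp h)) hc)
      obtain ⟨xb, hxb, hxbeq⟩ := sz_conj_abelian (N.map (QuotientGroup.mk' (⁅N, N⁆ : Subgroup G)))
        (H₁.map (QuotientGroup.mk' (⁅N, N⁆ : Subgroup G)))
        (H₂.map (QuotientGroup.mk' (⁅N, N⁆ : Subgroup G))) (by
          rintro _ ⟨a, ha, rfl⟩ _ ⟨b, hb, rfl⟩
          have hcomm : a * b * a⁻¹ * b⁻¹ ∈ (⁅N, N⁆ : Subgroup G) :=
            Subgroup.commutator_mem_commutator ha hb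
          have h1 : (QuotientGroup.mk' (⁅N, N⁆ : Subgroup G)) (a * b * a⁻¹ * b⁻¹) = 1 :=
            (QuotientGroup.eq_one_iff _).mpr hcomm
          rw [map_mul, map_mul, map_mul, map_inv, map_inv] at h1
          generalize (QuotientGroup.mk' (⁅N, N⁆ : Subgroup G)) a = A at h1 ⊢
          generalize (QuotientGroup.mk' (⁅N, N⁆ : Subgroup G)) b = B at h1 ⊢
          calc A * B = (A * B * A⁻¹ * B⁻¹) * (B * A) := by group
            _ = B * A := by rw [h1, one_mul]) (by
          rw [hc₁]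
          exact Nat.Coprime.coprime_dvd_left (Subgroup.card_map_dvd N _) hcop) (by
          rw [hc₁, hc₂, hcard]) (by
          rw [← Subgroup.map_sup]
          exact Subgroup.map_mono hle)
      obtain ⟨x₀, hx₀, rfl⟩ := hxb
      have hle' : H₂ ≤ ⁅N, N⁆ ⊔ H₁.map (MulAut.conj x₀).toMonoidHom := by
        intro h hh
        have h1 : (QuotientGroup.mk' (⁅N, N⁆ : Subgroup G)) h ∈
            H₂.map (QuotientGroup.mk' (⁅N, N⁆ : Subgroup G)) := ⟨h, hh, rfl⟩
        rw [hxbeq] at h1
        obtain ⟨_, ⟨a, ha, rfl⟩, h2⟩ := h1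
        have h3 : (QuotientGroup.mk' (⁅N, N⁆ : Subgroup G)) (x₀ * a * x₀⁻¹) =
            (QuotientGroup.mk' (⁅N, N⁆ : Subgroup G)) h := by
          rw [← h2]
          simp [MulAut.conj_apply]
        have h4 : h * (x₀ * a * x₀⁻¹)⁻¹ ∈ (⁅N, N⁆ : Subgroup G) := by
          have h5 : (QuotientGroup.mk' (⁅N, N⁆ : Subgroup G)) (h * (x₀ * a * x₀⁻¹)⁻¹) = 1 := by
            rw [map_mul, map_inv, h3, mul_inv_cancel]
          exact (QuotientGroup.eq_one_iff _).mp h5
        have h6 : h = (h * (x₀ * a * x₀⁻¹)⁻¹) * (x₀ * a * x₀⁻¹) := by group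
        rw [h6]
        exact Subgroup.mul_mem _ (Subgroup.mem_sup_left h4) (Subgroup.mem_sup_right ⟨a, ha, rfl⟩)
      have hc₃ : Nat.card (H₁.map (MulAut.conj x₀).toMonoidHom) = Nat.card H₁ :=
        Subgroup.card_map_of_injective (MulAut.conj x₀).injective
      obtain ⟨y, hy, hyeq⟩ := ih (Nat.card (⁅N, N⁆ : Subgroup G)) hcardlt G ⁅N, N⁆
        (H₁.map (MulAut.conj x₀).toMonoidHom) H₂ rfl hsol' (by
          rw [hc₃]
          exact Nat.Coprime.coprime_dvd_left (Subgroup.card_dvd_of_le hN'le) hcop)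
        (by rw [hc₃, hcard]) hle'
      refine ⟨y * x₀, N.mul_mem (hN'le hy) hx₀, ?_⟩
      rw [hyeq, Subgroup.map_map]
      congr 1
      ext z
      simp [MulAut.conj_apply, mul_assoc]

/-- Schur–Zassenhaus conjugacy for a solvable normal subgroup, relative form: if `H₁`, `H₂` have the
same order, coprime to `|N|`, and `H₂ ≤ N H₁`, then `H₂` is conjugate to `H₁` by an element of
`N`. -/
theorem sz_conj {G : Type*} [Group G] [Finite G] (N H₁ H₂ : Subgroup G) [N.Normal]
    (hsol : Group.IsSolvable N) (hcop : (Nat.card N).Coprime (Nat.card H₁))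
    (hcard : Nat.card H₂ = Nat.card H₁) (hle : H₂ ≤ N ⊔ H₁) :
    ∃ x ∈ N, H₂ = H₁.map (MulAut.conj x).toMonoidHom :=
  sz_conj_aux (Nat.card N) G N H₁ H₂ rfl hsol hcop hcard hle

end Cfsg.Agent.H31
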