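import Mathlib
import Cfsg.Prelude.Def_OddOrder
import Cfsg.Prelude.Def_OddOrderLocal
import Cfsg.Agent.H29.ZJ3
import Cfsg.Agent.H58.QStab
import Cfsg.Agent.H60.Cores
import Cfsg.Agent.H31.CNSolv
import Cfsg.Agent.H39.Transfer
import Cfsg.Agent.S1474
import Cfsg.Agent.S1476

/-!
# Minimal simple CN-groups of odd order (Feit–Hall–Thompson), part 1

Local control by `Z(J(P))` (helper29's `zj_control_aux`) in a minimal simple CN-group of odd
order, and the resulting transfer statement `P ≤ N_G(Z(J(P)))'`.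
-/

set_option autoImplicit false

namespace Cfsg.Agent.H31

open Cfsg
open scoped commutatorElement

section FHT1

variable {G : Type*} [Group G] [Finite G]

theorem fht_solv (hG : IsMinSimpleOddOrder G) {X : Subgroup G} (hX : X ≠ ⊤) :
    Group.IsSolvable X := hG.2.2.2 X hX

omit [Finite G] in
theorem fht_cn_sub (hCN : IsCNGroup G) (X : Subgroup G) : IsCNGroup ↥X := by
  intro g hg
  have hg1 : (g : G) ≠ 1 := fun h => hg (Subtype.ext h)
  have h1 := hCN (g : G) hg1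
  have hle : (Subgroup.centralizer ({g} : Set ↥X)).map X.subtype ≤
      Subgroup.centralizer ({(g : G)} : Set G) := by
    rintro _ ⟨x, hx, rfl⟩
    have hx' : x ∈ Subgroup.centralizer ({g} : Set ↥X) := hx
    rw [Subgroup.mem_centralizer_iff] at hx' ⊢
    intro y hy
    rw [Set.mem_singleton_iff] at hy
    subst hy
    exact congrArg Subtype.val (hx' g rfl)
  have h2 : Group.IsNilpotent ((Subgroup.centralizer ({g} : Set ↥X)).map X.subtype) :=
    Cfsg.Agent.S1474.nilpotent_of_le hle h1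
  exact Group.nilpotent_of_mulEquiv
    ((Subgroup.centralizer ({g} : Set ↥X)).equivMapOfInjective X.subtype
      X.subtype_injective).symm

theorem fht_odd_sub (hG : IsMinSimpleOddOrder G) (X : Subgroup G) : Odd (Nat.card X) :=
  Odd.of_dvd_nat hG.1 (Subgroup.card_subgroup_dvd_card X)

theorem fht_not_solvable (hG : IsMinSimpleOddOrder G) : ¬ Group.IsSolvable G := by
  intro hs
  haveI := hG.2.1
  have hc := (IsSimpleGroup.comm_iff_isSolvable (G := G)).mpr hs
  exact hG.2.2.1 ⟨⟨hc⟩⟩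

theorem fht_ne_top_of_solvable (hG : IsMinSimpleOddOrder G) {D : Subgroup G}
    (h : Group.IsSolvable D) : D ≠ ⊤ := by
  rintro rfl
  exact fht_not_solvable hG (solvable_of_surjective
    (f := (Subgroup.topEquiv : (⊤ : Subgroup G) ≃* G).toMonoidHom)
    (Subgroup.topEquiv : (⊤ : Subgroup G) ≃* G).surjective)

theorem fht_ne_top_of_nilpotent (hG : IsMinSimpleOddOrder G) {D : Subgroup G}
    (h : Group.IsNilpotent D) : D ≠ ⊤ :=
  fht_ne_top_of_solvable hG inferInstance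

theorem fht_ne_top_of_pgroup (hG : IsMinSimpleOddOrder G) {p : ℕ} [Fact p.Prime] {D : Subgroup G}
    (h : IsPGroup p D) : D ≠ ⊤ :=
  fht_ne_top_of_nilpotent hG h.isNilpotent

theorem fht_normalizer_ne_top (hG : IsMinSimpleOddOrder G) {D : Subgroup G} (hD : D ≠ ⊥)
    (hD' : D ≠ ⊤) : Subgroup.normalizer (D : Set G) ≠ ⊤ := by
  intro h
  haveI := hG.2.1
  have hn : D.Normal := Subgroup.normalizer_eq_top_iff.mp h
  rcases hn.eq_bot_or_eq_top with h1 | h1
  · exact hD h1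
  · exact hD' h1

theorem fht_perfect (hG : IsMinSimpleOddOrder G) : ⁅(⊤ : Subgroup G), (⊤ : Subgroup G)⁆ = ⊤ := by
  haveI := hG.2.1
  have hn : (⁅(⊤ : Subgroup G), (⊤ : Subgroup G)⁆).Normal := Subgroup.commutator_normal ⊤ ⊤
  rcases hn.eq_bot_or_eq_top with h1 | h1
  · exfalso
    apply hG.2.2.1
    refine ⟨⟨fun a b => ?_⟩⟩
    have h2 : ⁅a, b⁆ ∈ ⁅(⊤ : Subgroup G), (⊤ : Subgroup G)⁆ :=
      Subgroup.commutator_mem_commutator (Subgroup.mem_top a) (Subgroup.mem_top b)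
    rw [h1, Subgroup.mem_bot] at h2
    exact commutatorElement_eq_one_iff_mul_comm.mp h2
  · exact h1

theorem fht_p_ne_two (hG : IsMinSimpleOddOrder G) {p : ℕ} {Q : Subgroup G} (hQ : IsPGroup p Q)
    (hQ0 : Q ≠ ⊥) : p ≠ 2 := by
  rintro rfl
  obtain ⟨n, hn⟩ := IsPGroup.iff_card.mp hQ
  rcases n with _ | n
  · rw [pow_zero] at hn
    exact hQ0 (Subgroup.card_eq_one.mp hn)
  · have h2 : 2 ∣ Nat.card G :=
      dvd_trans (by rw [hn]; exact dvd_pow_self 2 (Nat.succ_ne_zero n))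
        (Subgroup.card_subgroup_dvd_card Q)
    exact (Nat.not_even_iff_odd.mpr hG.1) (even_iff_two_dvd.mpr h2)

/-- The ZJ-theorem in every `p`-local subgroup. -/
theorem fht_zj_local (hG : IsMinSimpleOddOrder G) (hCN : IsCNGroup G) {p : ℕ} [Fact p.Prime]
    (Q : Subgroup G) (hQ : IsPGroup p Q) (hQ0 : Q ≠ ⊥)
    (T' : Sylow p ↥(Subgroup.normalizer (Q : Set G))) :
    Subgroup.normalizer (Q : Set G) ≤ Subgroup.normalizer ((H29.nZ 0 ((T' : Subgroup
      ↥(Subgroup.normalizer (Q : Set G))).map (Subgroup.normalizer (Q : Set G)).subtype) :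
      Subgroup G) : Set G) := by
  have hp2 : p ≠ 2 := fht_p_ne_two hG hQ hQ0
  have hpp : p.Prime := Fact.out
  have hXtop : Subgroup.normalizer (Q : Set G) ≠ ⊤ :=
    fht_normalizer_ne_top hG hQ0 (fht_ne_top_of_pgroup hG hQ)
  haveI hsol : Group.IsSolvable ↥(Subgroup.normalizer (Q : Set G)) := fht_solv hG hXtop
  have hCNX : IsCNGroup ↥(Subgroup.normalizer (Q : Set G)) := fht_cn_sub hCN _
  have hoddX : Odd (Nat.card ↥(Subgroup.normalizer (Q : Set G))) := fht_odd_sub hG _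
  -- `O_p(X) ≠ 1`
  haveI hQn : (Q.subgroupOf (Subgroup.normalizer (Q : Set G))).Normal :=
    Subgroup.normal_in_normalizer
  have hQp' : IsPGroup p (Q.subgroupOf (Subgroup.normalizer (Q : Set G))) := hQ.comap_subtype
  have hP1 : pCore p ↥(Subgroup.normalizer (Q : Set G)) ≠ ⊥ := by
    intro h
    have h1 : Q.subgroupOf (Subgroup.normalizer (Q : Set G)) ≤
        pCore p ↥(Subgroup.normalizer (Q : Set G)) := le_pCore hQn hQp'
    rw [h, le_bot_iff, Subgroup.subgroupOf_eq_bot, disjoint_iff,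
      inf_of_le_left Subgroup.le_normalizer] at h1
    exact hQ0 h1
  by_cases hO : pPrimeCore p ↥(Subgroup.normalizer (Q : Set G)) = ⊥
  · have hc := H60.centralizer_pCore_le hsol hO
    have hn := H29.nZ_normal hp2 0 hc (H58.qstab_of_ab2 hp2 (H58.ab2_of_odd hoddX)) T' _
      (H29.isStronglyClosed_self _)
    have hinj : ∀ x ∈ (T' : Subgroup ↥(Subgroup.normalizer (Q : Set G))),
        (Subgroup.normalizer (Q : Set G)).subtype x = 1 → x = 1 :=
      fun x _ hx => Subgroup.subtype_injective _ (hx.trans (map_one _).symm)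
    intro g hg
    apply H14.mem_normalizer_of_conj_mem
    intro z hz
    rw [← H29.nZ_map_hom _ hinj] at hz ⊢
    obtain ⟨y, hy, rfl⟩ := hz
    exact ⟨⟨g, hg⟩ * y * ⟨g, hg⟩⁻¹, hn.conj_mem y hy _, by simp⟩
  · have hcop := card_pPrimeCore_coprime (G := ↥(Subgroup.normalizer (Q : Set G))) p
    have hTn : (T' : Subgroup ↥(Subgroup.normalizer (Q : Set G))).Normal :=
      sylow_normal_of_two_normal hCNX (pCore p _) (pPrimeCore p _) (isPGroup_pCore p) hP1 hO
        ((Nat.Prime.coprime_iff_not_dvd hpp).mp hcop.symm) T'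
    refine le_trans ?_ (H29.normalizer_le_normalizer_nZ 0 _)
    intro g hg
    rw [Subgroup.mem_normalizer_iff]
    intro x
    constructor
    · rintro ⟨y, hy, rfl⟩
      exact ⟨⟨g, hg⟩ * y * ⟨g, hg⟩⁻¹, hTn.conj_mem y hy _, by simp⟩
    · rintro ⟨y, hy, hyx⟩
      refine ⟨⟨g, hg⟩⁻¹ * y * ⟨g, hg⟩, ?_, ?_⟩
      · have := hTn.conj_mem y hy (⟨g, hg⟩⁻¹)
        rw [inv_inv] at this
        exact this
      · have h3 : (y : G) = g * x * g⁻¹ := hyx
        simp [h3, mul_assoc]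

/-- Local control: `N_G(Q) ≤ N_G(Z(J(P)))` for `1 ≠ Q ≤ P`. -/
theorem fht_control (hG : IsMinSimpleOddOrder G) (hCN : IsCNGroup G) {p : ℕ} [Fact p.Prime]
    (P : Sylow p G) (Q : Subgroup G) (hQP : Q ≤ (P : Subgroup G)) (hQ0 : Q ≠ ⊥) :
    Subgroup.normalizer (Q : Set G) ≤
      Subgroup.normalizer ((H29.nZ 0 (P : Subgroup G) : Subgroup G) : Set G) :=
  (H29.zj_control_aux 0 (fun Q hQ hQ0 T' => fht_zj_local hG hCN Q hQ hQ0 T')
    (fun T hT hT0 => H29.nZ_zero_ne_bot hT hT0) (Nat.card P)).1 P Q hQP hQ0 (Nat.le_add_left _ _)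

theorem fht_zj_eq (hG : IsMinSimpleOddOrder G) (hCN : IsCNGroup G) {p : ℕ} [Fact p.Prime]
    (P P₁ : Sylow p G) (h : (P : Subgroup G) ⊓ P₁ ≠ ⊥) :
    H29.nZ 0 (P : Subgroup G) = H29.nZ 0 (P₁ : Subgroup G) :=
  (H29.zj_control_aux 0 (fun Q hQ hQ0 T' => fht_zj_local hG hCN Q hQ hQ0 T')
    (fun T hT hT0 => H29.nZ_zero_ne_bot hT hT0) (Nat.card P)).2 P P₁ h (Nat.le_add_left _ _)

end FHT1

end Cfsg.Agent.H31
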