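import Mathlib
import Cfsg.Prelude.Def_OddOrderLocal
import Cfsg.Agent.H31.CNSolv
import Cfsg.Agent.S1474
import Cfsg.Agent.S1476

/-!
# Minimal simple CN-groups of odd order (Feit–Hall–Thompson), part 2: abstract group lemmas

* `cn_dichotomy`: a solvable CN-group is nilpotent, has a nontrivial normal Sylow subgroup, or is a
  three-step group;
* transfer obstructions: a Sylow `p`-subgroup is not inside the commutator subgroup if the group
  has a proper normal subgroup of `p`-power index (nilpotent and three-step groups);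
* the structure of a non-nilpotent CN-group with a nontrivial normal Sylow subgroup.
-/

set_option autoImplicit false

namespace Cfsg.Agent.H31

open Cfsg

section Dichotomy

theorem cn_dichotomy {X : Type*} [Group X] [Finite X] [Group.IsSolvable X] (hCN : IsCNGroup X) :
    Group.IsNilpotent X ∨
      (∃ (q : ℕ) (_ : Fact q.Prime) (S : Sylow q X),
        (S : Subgroup X).Normal ∧ (S : Subgroup X) ≠ ⊥) ∨
      ∃ p : ℕ, p.Prime ∧ IsThreeStepGroup p X := by
  classical
  by_cases hnil : Group.IsNilpotent X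
  · left; exact hnil
  · right
    by_cases hS : ∃ (q : ℕ) (_ : Fact q.Prime) (S : Sylow q X),
        (S : Subgroup X).Normal ∧ (S : Subgroup X) ≠ ⊥
    · left; exact hS
    · right
      have hnS : ∀ (q : ℕ) [Fact q.Prime] (S : Sylow q X), (S : Subgroup X).Normal →
          (S : Subgroup X) = ⊥ := by
        intro q hq S hSn
        by_contra h
        exact hS ⟨q, hq, S, hSn, h⟩
      haveI : Nontrivial X := by
        by_contra h
        rw [not_nontrivial_iff_subsingleton] at h
        exact hnil inferInstance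
      obtain ⟨p, N₀, hp, hN₀n, hN₀1, -, hN₀e⟩ := Cfsg.Agent.S1475.exists_normal_elementary (G := X)
      haveI : Fact p.Prime := ⟨hp⟩
      have hN₀p : IsPGroup p N₀ := fun x =>
        ⟨1, by rw [pow_one]; exact Subtype.ext (by rw [Subgroup.coe_pow]; exact hN₀e x x.2)⟩
      have hPp : IsPGroup p (pCore p X) := isPGroup_pCore p
      haveI hPn : (pCore p X).Normal := inferInstance
      have hP1 : pCore p X ≠ ⊥ := by
        intro h
        have := le_pCore hN₀n hN₀p
        rw [h] at this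
        exact hN₀1 (le_bot_iff.mp this)
      obtain ⟨S₀, hPS₀⟩ := hPp.exists_le_sylow
      have hO : pPrimeCore p X = ⊥ := by
        by_contra hM
        have hcop := card_pPrimeCore_coprime (G := X) p
        have hSn := sylow_normal_of_two_normal hCN (pCore p X) (pPrimeCore p X) hPp hP1 hM
          ((Nat.Prime.coprime_iff_not_dvd hp).mp hcop.symm) S₀
        have hS1 := hnS p S₀ hSn
        rw [hS1] at hPS₀
        exact hP1 (le_bot_iff.mp hPS₀)
      have hCP : Subgroup.centralizer (pCore p X : Set X) ≤ pCore p X :=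
        H60.centralizer_pCore_le inferInstance hO
      have hPidx : p ∣ (pCore p X).index := by
        by_contra hnd
        have h1 := hnS p (hPp.toSylow hnd) (by rw [IsPGroup.toSylow_coe]; exact hPn)
        rw [IsPGroup.toSylow_coe] at h1
        exact hP1 h1
      exact ⟨p, hp, Cfsg.Agent.S1476.three_step_core hCN hnil p (pCore p X) hPp hP1
        (fun N hN hNp => le_pCore hN hNp) hCP hPidx⟩

end Dichotomy

section Transfer

variable {Y : Type*} [Group Y] [Finite Y] {p : ℕ} [Fact p.Prime]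

/-- If `Y` has a proper normal subgroup of `p`-power index, no Sylow `p`-subgroup lies in `Y'`. -/
theorem not_le_commutator_of_index_pow (T : Subgroup Y) [hTn : T.Normal] (hT : T ≠ ⊤)
    (hidx : ∃ n : ℕ, T.index = p ^ n) (S : Sylow p Y) : ¬ (S : Subgroup Y) ≤ commutator Y := by
  intro hle
  have hpp : p.Prime := Fact.out
  obtain ⟨n, hn⟩ := hidx
  have hcard : Nat.card (Y ⧸ T) = p ^ n := by rw [← Subgroup.index_eq_card]; exact hn
  have hpg : IsPGroup p (Y ⧸ T) := IsPGroup.of_card hcard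
  haveI : Group.IsNilpotent (Y ⧸ T) := hpg.isNilpotent
  haveI : Nontrivial (Y ⧸ T) := by
    by_contra h
    rw [not_nontrivial_iff_subsingleton] at h
    apply hT
    rw [eq_top_iff]
    intro y _
    rw [← QuotientGroup.eq_one_iff]
    exact Subsingleton.elim _ _
  have hlt : commutator (Y ⧸ T) < ⊤ := IsSolvable.commutator_lt_top_of_nontrivial (Y ⧸ T)
  have hST : (S : Subgroup Y) ⊔ T = ⊤ := by
    apply Subgroup.index_eq_one.mp
    have h1 : ((S : Subgroup Y) ⊔ T).index ∣ (S : Subgroup Y).index :=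
      Subgroup.index_dvd_of_le le_sup_left
    have h2 : ((S : Subgroup Y) ⊔ T).index ∣ p ^ n := hn ▸ Subgroup.index_dvd_of_le le_sup_right
    have h3 : Nat.Coprime (S : Subgroup Y).index (p ^ n) :=
      Nat.Coprime.pow_right n ((Nat.Prime.coprime_iff_not_dvd hpp).mpr S.not_dvd_index).symm
    exact Nat.eq_one_of_dvd_coprimes h3 h1 h2
  apply hlt.ne
  rw [eq_top_iff]
  rintro y -
  obtain ⟨g, rfl⟩ := QuotientGroup.mk'_surjective T y
  have hg : g ∈ (S : Subgroup Y) ⊔ T := hST ▸ Subgroup.mem_top g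
  obtain ⟨s, hs, t, ht, rfl⟩ := Subgroup.mem_sup_of_normal_right.mp hg
  have e1 : QuotientGroup.mk' T (s * t) = QuotientGroup.mk' T s := by
    rw [map_mul, QuotientGroup.mk'_apply, QuotientGroup.mk'_apply,
      (QuotientGroup.eq_one_iff t).mpr ht, mul_one]
  rw [e1]
  have hmap : (commutator Y).map (QuotientGroup.mk' T) ≤ commutator (Y ⧸ T) := by
    rw [commutator_def, commutator_def, Subgroup.map_commutator]
    exact Subgroup.commutator_mono le_top le_top
  exact hmap ⟨s, hle hs, rfl⟩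

/-- In a nilpotent group no nontrivial Sylow subgroup lies in the commutator subgroup. -/
theorem nilpotent_sylow_not_le_commutator [hnil : Group.IsNilpotent Y] (S : Sylow p Y)
    (hS : (S : Subgroup Y) ≠ ⊥) : ¬ (S : Subgroup Y) ≤ commutator Y := by
  have hpp : p.Prime := Fact.out
  have hcop := card_pPrimeCore_coprime (G := Y) p
  have hpdvd : p ∣ Nat.card Y := by
    obtain ⟨n, hn⟩ := IsPGroup.iff_card.mp S.2
    rcases n with _ | n
    · rw [pow_zero] at hn
      exact absurd (Subgroup.card_eq_one.mp hn) hS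
    · exact dvd_trans (by rw [hn]; exact dvd_pow_self p (Nat.succ_ne_zero n))
        (Subgroup.card_subgroup_dvd_card (S : Subgroup Y))
  apply not_le_commutator_of_index_pow (pPrimeCore p Y) _ _ S
  · intro h
    rw [h, Subgroup.card_top] at hcop
    exact (Nat.Prime.coprime_iff_not_dvd hpp).mp hcop.symm hpdvd
  · refine ⟨_, Nat.eq_prime_pow_of_unique_prime_dvd (Subgroup.index_ne_zero_of_finite) ?_⟩
    intro r hr hrdvd
    by_contra hrp
    haveI : Fact r.Prime := ⟨hr⟩
    let R : Sylow r Y := default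
    have hRn : (R : Subgroup Y).Normal := inferInstance
    have hRcop : (Nat.card (R : Subgroup Y)).Coprime p := by
      obtain ⟨k, hk⟩ := IsPGroup.iff_card.mp R.2
      rw [hk]
      exact Nat.Coprime.pow_left k ((Nat.coprime_primes hr hpp).mpr hrp)
    have hle : (R : Subgroup Y) ≤ pPrimeCore p Y := le_pPrimeCore hRn hRcop
    exact R.not_dvd_index (hrdvd.trans (Subgroup.index_dvd_of_le hle))

end Transfer

section ThreeStep

variable {L : Type*} [Group L] [Finite L] {p : ℕ} [Fact p.Prime]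

/-- A three-step group has a `p`-element outside `O_p`. -/
theorem threeStep_exists_pel (h : IsThreeStepGroup p L) : ∃ x : L, IsEl p x ∧ x ∉ pCore p L := by
  have hpp : p.Prime := Fact.out
  obtain ⟨-, A, -, -, -, -, hTn, hTtop, ⟨n, hn⟩, -, -⟩ := h
  obtain ⟨y, hy⟩ : ∃ y : L, y ∉ pCore p L ⊔ A := by
    by_contra hcon
    push Not at hcon
    exact hTtop (eq_top_iff.mpr (fun y _ => hcon y))
  obtain ⟨k, m, hm, hkm⟩ :=
    Nat.exists_eq_pow_mul_and_not_dvd (orderOf_pos y).ne' p hpp.ne_one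
  refine ⟨y ^ m, ⟨k, ?_⟩, ?_⟩
  · rw [← pow_mul, mul_comm, ← hkm, pow_orderOf_eq_one]
  · intro hmem
    apply hy
    have h1 : y ^ m ∈ pCore p L ⊔ A := (le_sup_left : pCore p L ≤ pCore p L ⊔ A) hmem
    have h2 : y ^ (p ^ n) ∈ pCore p L ⊔ A := by
      rw [← hn]
      exact Subgroup.pow_index_mem _ y
    have hcop : Nat.Coprime m (p ^ n) :=
      Nat.Coprime.pow_right n ((Nat.Prime.coprime_iff_not_dvd hpp).mpr hm).symm
    have hb := Nat.gcd_eq_gcd_ab m (p ^ n)
    rw [hcop] at hb
    have e : y = (y ^ m) ^ (Nat.gcdA m (p ^ n)) * (y ^ (p ^ n)) ^ (Nat.gcdB m (p ^ n)) := by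
      rw [← zpow_natCast, ← zpow_natCast, ← zpow_mul, ← zpow_mul, ← zpow_add, ← hb]
      simp
    rw [e]
    exact mul_mem (zpow_mem h1 _) (zpow_mem h2 _)

/-- In a three-step group the Sylow `p`-subgroups are not normal. -/
theorem threeStep_sylow_not_normal (h : IsThreeStepGroup p L) (S : Sylow p L) :
    ¬ (S : Subgroup L).Normal := by
  intro hSn
  have hpp : p.Prime := Fact.out
  obtain ⟨x, hx, hxn⟩ := threeStep_exists_pel h
  apply hxn
  have hN : Subgroup.normalizer ((S : Subgroup L) : Set L) = ⊤ :=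
    Subgroup.normalizer_eq_top_iff.mpr hSn
  have h1 : x ∈ (S : Subgroup L) :=
    mem_of_isEl_of_normalizer hpp (S : Subgroup L) x hx (by rw [hN]; exact Subgroup.mem_top _)
      S.not_dvd_index
  exact le_pCore hSn S.2 h1

/-- In a three-step group the Sylow `p`-subgroups do not lie in the commutator subgroup. -/
theorem threeStep_sylow_not_le_commutator (h : IsThreeStepGroup p L) (S : Sylow p L) :
    ¬ (S : Subgroup L) ≤ commutator L := by
  obtain ⟨-, A, -, -, -, -, hTn, hTtop, hidx, -, -⟩ := h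
  haveI := hTn
  exact not_le_commutator_of_index_pow (pCore p L ⊔ A) hTtop hidx S

end ThreeStep

section Frob

variable {X : Type*} [Group X] [Finite X] {p : ℕ} [Fact p.Prime]

theorem fitHall_le_centralizer (hCN : IsCNGroup X) (P : Sylow p X)
    (hP1 : (P : Subgroup X) ≠ ⊥) (hPn : (P : Subgroup X).Normal) :
    ∃ z : X, z ∈ (P : Subgroup X) ∧ z ≠ 1 ∧ fittingHall X ≤ Subgroup.centralizer ({z} : Set X) := by
  classical
  haveI hPn' : (P : Subgroup X).Normal := hPn
  have hpp : p.Prime := Fact.out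
  obtain ⟨z, hzP, hz1, hzc⟩ := exists_fixed_in_pgroup hpp (P : Subgroup X) (P : Subgroup X) P.2 P.2
    hP1 (fun a ha b hb => mul_mem (mul_mem ha hb) (inv_mem ha))
  have hN : Subgroup.normalizer ((P : Subgroup X) : Set X) = ⊤ :=
    Subgroup.normalizer_eq_top_iff.mpr hPn
  have hPel : ∀ x : X, IsEl p x → x ∈ (P : Subgroup X) := fun x hx =>
    mem_of_isEl_of_normalizer hpp (P : Subgroup X) x hx (by rw [hN]; exact Subgroup.mem_top _)
      P.not_dvd_index
  obtain ⟨nP, hnP⟩ := IsPGroup.iff_card.mp P.2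
  have hNC : ∀ N : Subgroup X, N.Normal → Group.IsNilpotent N →
      N ≤ Subgroup.centralizer ({z} : Set X) := by
    intro N hNn hNnil x hx
    rw [Subgroup.mem_centralizer_iff]
    intro y hy
    rw [Set.mem_singleton_iff] at hy
    subst hy
    refine (Cfsg.Agent.S1474.comm_of_forall_isEl N y ?_ x hx).symm
    intro q hq x hx hxe
    by_cases hqp : q = p
    · subst hqp; exact hzc x (hPel x hxe)
    · haveI : Fact q.Prime := ⟨hq⟩
      haveI := hNnil
      let Q : Sylow q N := default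
      have hQn' : (Q : Subgroup N).Normal := inferInstance
      have hQc : (Q : Subgroup N).Characteristic := Sylow.characteristic_of_normal Q hQn'
      have hQn : ((Q : Subgroup N).map N.subtype).Normal :=
        ConjAct.normal_of_characteristic_of_normal
      have hxQ : x ∈ (Q : Subgroup N).map N.subtype :=
        ⟨⟨x, hx⟩, mem_sylow_of_isEl Q ⟨x, hx⟩ (hxe.subtype_mk hx), rfl⟩
      have hc1 : x * y * x⁻¹ * y⁻¹ ∈ (Q : Subgroup N).map N.subtype := by
        have h1 := hQn.conj_mem x⁻¹ (inv_mem hxQ) y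
        have h2 := mul_mem hxQ h1
        simpa [mul_assoc] using h2
      have hc2 : x * y * x⁻¹ * y⁻¹ ∈ (P : Subgroup X) :=
        mul_mem (hPn.conj_mem y hzP x) (inv_mem hzP)
      have hcop : (Nat.card ((Q : Subgroup N).map N.subtype)).Coprime (Nat.card (P : Subgroup X)) := by
        obtain ⟨nQ, hnQ⟩ := IsPGroup.iff_card.mp Q.2
        rw [Subgroup.card_map_of_injective (Subgroup.subtype_injective _), hnQ, hnP]
        exact Nat.Coprime.pow _ _ ((Nat.coprime_primes hq hpp).mpr hqp)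
      have h3 := eq_one_of_mem_of_coprime _ _ hcop _ hc1 hc2
      calc x * y = (x * y * x⁻¹ * y⁻¹) * (y * x) := by group
        _ = y * x := by rw [h3, one_mul]
  exact ⟨z, hzP, hz1, sSup_le (fun N hN => hNC N hN.1 hN.2.1)⟩

theorem fitHall_nilpotent (hCN : IsCNGroup X) (P : Sylow p X)
    (hP1 : (P : Subgroup X) ≠ ⊥) (hPn : (P : Subgroup X).Normal) :
    Group.IsNilpotent (fittingHall X) := by
  obtain ⟨z, -, hz1, hHC⟩ := fitHall_le_centralizer hCN P hP1 hPn
  exact Cfsg.Agent.S1474.nilpotent_of_le hHC (hCN z hz1)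

theorem sylow_le_fitHall (P : Sylow p X) (hPn : (P : Subgroup X).Normal) :
    (P : Subgroup X) ≤ fittingHall X :=
  le_sSup ⟨hPn, P.2.isNilpotent, P.card_coprime_index⟩

/-- Generalized fixed-point-freeness: an element of prime-power order for a prime not dividing
`|M_F|` centralizes no non-identity element of `M_F`. -/
theorem fitHall_fpf (hCN : IsCNGroup X) (P : Sylow p X)
    (hP1 : (P : Subgroup X) ≠ ⊥) (hPn : (P : Subgroup X).Normal) (s : ℕ) (hs : s.Prime)
    (hsK : ¬ s ∣ Nat.card (fittingHall X)) (e : X) (he1 : e ≠ 1) (hes : IsEl s e) (h : X)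
    (hh : h ∈ fittingHall X) (hcomm : h * e = e * h) : h = 1 := by
  obtain ⟨z, hzP, hz1, hHC⟩ := fitHall_le_centralizer hCN P hP1 hPn
  by_contra hh1
  exact Cfsg.Agent.S1474.fpf_core hCN p P hPn z hzP hz1 (fittingHall X) hHC (sylow_le_fitHall P hPn)
    (fun S h1 h2 h3 => le_sSup ⟨h1, h2, h3⟩) s hs hsK e he1 hes h hh hh1 hcomm

end Frob

section ThreeStepAny

variable {L : Type*} [Group L] [Finite L]

/-- `O_p(L)` consists of elements of `p`-power order, for an arbitrary natural number `p`. -/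
theorem pow_eq_one_of_mem_pCore (p : ℕ) : ∀ g ∈ pCore p L, ∃ k : ℕ, g ^ (p ^ k) = 1 := by
  have hfin : ({N : Subgroup L | N.Normal ∧ IsPGroup p N}).Finite := Set.toFinite _
  have hS : pCore p L = hfin.toFinset.sup id := by
    rw [Finset.sup_id_eq_sSup, Set.Finite.coe_toFinset]; rfl
  have key : (hfin.toFinset.sup id).Normal ∧
      ∀ g ∈ (hfin.toFinset.sup id : Subgroup L), ∃ k : ℕ, g ^ (p ^ k) = 1 := by
    refine Finset.sup_induction
      (p := fun N : Subgroup L => N.Normal ∧ ∀ g ∈ N, ∃ k : ℕ, g ^ (p ^ k) = 1) ?_ ?_ ?_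
    · refine ⟨inferInstance, ?_⟩
      intro g hg
      rw [Subgroup.mem_bot] at hg
      exact ⟨0, by rw [hg, one_pow]⟩
    · rintro A ⟨hAn, hA⟩ B ⟨hBn, hB⟩
      refine ⟨inferInstance, ?_⟩
      intro g hg
      obtain ⟨a, ha, b, hb, rfl⟩ := Subgroup.mem_sup_of_normal_right.mp hg
      obtain ⟨k, hk⟩ := hA a ha
      have h1 : (a * b) ^ (p ^ k) ∈ B := by
        rw [← QuotientGroup.eq_one_iff, QuotientGroup.mk_pow, QuotientGroup.mk_mul,
          (QuotientGroup.eq_one_iff b).mpr hb, mul_one, ← QuotientGroup.mk_pow, hk]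
        rfl
      obtain ⟨j, hj⟩ := hB _ h1
      exact ⟨k + j, by rw [pow_add, pow_mul]; exact hj⟩
    · intro N hN
      have := (Set.Finite.mem_toFinset hfin).mp hN
      refine ⟨this.1, fun g hg => ?_⟩
      obtain ⟨k, hk⟩ := this.2 ⟨g, hg⟩
      exact ⟨k, congrArg Subtype.val hk⟩
  rw [hS]; exact key.2

/-- A three-step group (with respect to any natural number) is not nilpotent. -/
theorem threeStep_not_nilpotent (p : ℕ) (h : IsThreeStepGroup p L) : ¬ Group.IsNilpotent L := by
  intro hnil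
  obtain ⟨hH1, A, hA1, -, -, hAp, -, -, -, hfpf, -⟩ := h
  obtain ⟨a, ha1⟩ := (Subgroup.ne_bot_iff_exists_ne_one).mp hA1
  obtain ⟨⟨x, hxH⟩, hx1⟩ := (Subgroup.ne_bot_iff_exists_ne_one).mp hH1
  have ha1' : (a : L) ≠ 1 := fun e => ha1 (Subtype.ext e)
  have hx1' : x ≠ 1 := fun e => hx1 (Subtype.ext e)
  obtain ⟨s, m, hs, hm1, hms, hsdvd⟩ := exists_prime_order_pow (a : L) ha1'
  obtain ⟨r, m', hr, hm1', hmr, hrdvd⟩ := exists_prime_order_pow x hx1'
  obtain ⟨k, hk⟩ := pow_eq_one_of_mem_pCore p x hxH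
  have hrp : r ∣ p := hr.dvd_of_dvd_pow (hrdvd.trans (orderOf_dvd_of_pow_eq_one hk))
  have hsA : s ∣ Nat.card A := hsdvd.trans (Subgroup.orderOf_dvd_natCard A a.2)
  have hsr : s ≠ r := by
    rintro rfl
    have := Nat.dvd_gcd hsA hrp
    rw [Nat.Coprime.gcd_eq_one hAp] at this
    exact hs.one_lt.ne' (Nat.dvd_one.mp this)
  have hcomm := comm_of_nilpotent hs hr hsr ((a : L) ^ m) (x ^ m') hms hmr
  have hmem : x ^ m' ∈ pCore p L ⊓ Subgroup.centralizer ({(a : L) ^ m} : Set L) := by
    refine Subgroup.mem_inf.mpr ⟨pow_mem hxH _, ?_⟩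
    rw [Subgroup.mem_centralizer_iff]
    intro y hy
    rw [Set.mem_singleton_iff] at hy
    subst hy
    exact hcomm
  rw [hfpf _ (pow_mem a.2 m) hm1, Subgroup.mem_bot] at hmem
  exact hm1' hmem

/-- A three-step group (with respect to any natural number) has no nontrivial normal Sylow
subgroup. -/
theorem threeStep_no_normal_sylow (p : ℕ) (h : IsThreeStepGroup p L) (q : ℕ) [Fact q.Prime]
    (Q : Sylow q L) (hQn : (Q : Subgroup L).Normal) (hQ1 : (Q : Subgroup L) ≠ ⊥) : False := by
  have hq : q.Prime := Fact.out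
  obtain ⟨hH1, A, hA1, -, -, hAp, hTn, hTtop, ⟨n, hn⟩, hfpf, -⟩ := h
  haveI := hTn
  have hN : Subgroup.normalizer ((Q : Subgroup L) : Set L) = ⊤ :=
    Subgroup.normalizer_eq_top_iff.mpr hQn
  have hQel : ∀ x : L, IsEl q x → x ∈ (Q : Subgroup L) := fun x hx =>
    mem_of_isEl_of_normalizer hq (Q : Subgroup L) x hx (by rw [hN]; exact Subgroup.mem_top _)
      Q.not_dvd_index
  by_cases hqp : q ∣ p
  · -- `Q ≤ O_p(L)`, but some `q`-element lies outside `O_p(L) A`
    have hQle : (Q : Subgroup L) ≤ pCore p L := by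
      refine le_sSup ⟨hQn, ?_⟩
      intro g
      obtain ⟨j, hj⟩ := Q.2 g
      obtain ⟨c, hc⟩ := pow_dvd_pow_of_dvd hqp j
      exact ⟨j, by rw [hc, pow_mul, hj, one_pow]⟩
    have hcard : Nat.card (L ⧸ (pCore p L ⊔ A)) = p ^ n := by
      rw [← Subgroup.index_eq_card]; exact hn
    have hn0 : n ≠ 0 := by
      rintro rfl
      rw [pow_zero] at hn
      exact hTtop (Subgroup.index_eq_one.mp hn)
    have hqdvd : q ∣ Nat.card (L ⧸ (pCore p L ⊔ A)) := by
      rw [hcard]; exact hqp.trans (dvd_pow_self p hn0)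
    obtain ⟨ub, hub⟩ := exists_prime_orderOf_dvd_card' q hqdvd
    have hub1 : ub ≠ 1 := by
      intro e
      rw [e, orderOf_one] at hub
      exact hq.one_lt.ne hub
    have hube : IsEl q ub := ⟨1, by rw [pow_one, ← hub]; exact pow_orderOf_eq_one ub⟩
    obtain ⟨u, hu, hue⟩ := lift_isEl (QuotientGroup.mk' (pCore p L ⊔ A))
      (QuotientGroup.mk'_surjective _) hq ub hube
    apply hub1
    rw [← hu, QuotientGroup.mk'_apply, QuotientGroup.eq_one_iff]
    exact (le_sup_left : pCore p L ≤ pCore p L ⊔ A) (hQle (hQel u hue))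
  · -- `Q` centralizes `O_p(L)` and meets `A`
    have hdisj : ∀ g : L, g ∈ pCore p L → g ∈ (Q : Subgroup L) → g = 1 := by
      intro g hg1 hg2
      obtain ⟨k, hk⟩ := pow_eq_one_of_mem_pCore p g hg1
      obtain ⟨j, hj⟩ := Q.2 ⟨g, hg2⟩
      have hj' : g ^ (q ^ j) = 1 := congrArg Subtype.val hj
      have h1 : orderOf g ∣ Nat.gcd (p ^ k) (q ^ j) :=
        Nat.dvd_gcd (orderOf_dvd_of_pow_eq_one hk) (orderOf_dvd_of_pow_eq_one hj')
      have h2 : Nat.gcd (p ^ k) (q ^ j) = 1 :=
        Nat.Coprime.pow _ _ ((Nat.Prime.coprime_iff_not_dvd hq).mpr hqp).symm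
      rw [h2, Nat.dvd_one] at h1
      exact orderOf_eq_one_iff.mp h1
    have hcomm : ∀ g ∈ pCore p L, ∀ y ∈ (Q : Subgroup L), g * y = y * g := by
      intro g hg y hy
      have hc1 : g * y * g⁻¹ * y⁻¹ ∈ (Q : Subgroup L) :=
        mul_mem (hQn.conj_mem y hy g) (inv_mem hy)
      have hc2 : g * y * g⁻¹ * y⁻¹ ∈ pCore p L := by
        have := mul_mem hg ((inferInstance : (pCore p L).Normal).conj_mem g⁻¹ (inv_mem hg) y)
        simpa [mul_assoc] using this
      have h3 := hdisj _ hc2 hc1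
      calc g * y = (g * y * g⁻¹ * y⁻¹) * (y * g) := by group
        _ = y * g := by rw [h3, one_mul]
    obtain ⟨⟨y, hyQ⟩, hy1⟩ := (Subgroup.ne_bot_iff_exists_ne_one).mp hQ1
    have hy1' : y ≠ 1 := fun e => hy1 (Subtype.ext e)
    obtain ⟨j, hj⟩ := Q.2 ⟨y, hyQ⟩
    have hj' : y ^ (q ^ j) = 1 := congrArg Subtype.val hj
    -- `y ∈ O_p(L) A`
    have hyT : y ∈ pCore p L ⊔ A := by
      have h1 : y ^ (p ^ n) ∈ pCore p L ⊔ A := by
        rw [← hn]; exact Subgroup.pow_index_mem _ y
      have hcop : (p ^ n).Coprime (orderOf y) := by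
        have h2 : orderOf y ∣ q ^ j := orderOf_dvd_of_pow_eq_one hj'
        exact Nat.Coprime.coprime_dvd_right h2
          (Nat.Coprime.pow _ _ ((Nat.Prime.coprime_iff_not_dvd hq).mpr hqp).symm)
      obtain ⟨m, hm⟩ := exists_pow_eq_self_of_coprime hcop
      rw [← hm]
      exact pow_mem h1 m
    obtain ⟨g, hg, a, ha, hga⟩ := Subgroup.mem_sup_of_normal_left.mp hyT
    have ha1 : a ≠ 1 := by
      rintro rfl
      rw [mul_one] at hga
      exact hy1' (hdisj y (hga ▸ hg) hyQ)
    have hAH : ∀ c : L, c ∈ A → c ∈ pCore p L → c = 1 := by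
      intro c hcA hcH
      by_contra hc1
      have hmem : c ∈ pCore p L ⊓ Subgroup.centralizer ({c} : Set L) := by
        refine Subgroup.mem_inf.mpr ⟨hcH, ?_⟩
        rw [Subgroup.mem_centralizer_iff]
        intro z hz
        rw [Set.mem_singleton_iff] at hz
        rw [hz]
      rw [hfpf c hcA hc1, Subgroup.mem_bot] at hmem
      exact hc1 hmem
    have haq : IsEl q a := by
      refine ⟨j, hAH _ (pow_mem ha _) ?_⟩
      rw [← QuotientGroup.eq_one_iff, QuotientGroup.mk_pow]
      have e1 : ((a : L) : L ⧸ pCore p L) = ((y : L) : L ⧸ pCore p L) := by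
        rw [← hga, QuotientGroup.mk_mul, (QuotientGroup.eq_one_iff g).mpr hg, one_mul]
      rw [e1, ← QuotientGroup.mk_pow, hj']
      rfl
    have haQ : a ∈ (Q : Subgroup L) := hQel a haq
    obtain ⟨⟨x, hxH⟩, hx1⟩ := (Subgroup.ne_bot_iff_exists_ne_one).mp hH1
    have hx1' : x ≠ 1 := fun e => hx1 (Subtype.ext e)
    have hmem : x ∈ pCore p L ⊓ Subgroup.centralizer ({a} : Set L) := by
      refine Subgroup.mem_inf.mpr ⟨hxH, ?_⟩
      rw [Subgroup.mem_centralizer_iff]
      intro z hz
      rw [Set.mem_singleton_iff] at hz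
      subst hz
      exact (hcomm x hxH z haQ).symm
    rw [hfpf a ha ha1, Subgroup.mem_bot] at hmem
    exact hx1' hmem

end ThreeStepAny

end Cfsg.Agent.H31
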