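import Mathlib
import Cfsg.Agent.H31.FHT1
import Cfsg.Agent.H31.FHT2

/-!
# Minimal simple CN-groups of odd order (Feit–Hall–Thompson), part 3

* `fht_sylow_le_commutator`: `P ≤ N_G(Z(J(P)))'`;
* `fht_nz_le`: `N_G(Z(J(P))) ≤ N_G(P)`;
* `fht_normalizer_le`: `N_G(Q) ≤ N_G(P)` for `1 ≠ Q ≤ P`;
* `fht_sylow_ti`: Sylow subgroups are TI;
* `fht_no_three_step`: no subgroup is a three-step group.
-/

set_option autoImplicit false

namespace Cfsg.Agent.H31

open Cfsg
open scoped commutatorElement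

section FHT3

variable {G : Type*} [Group G] [Finite G]

omit [Finite G] in
theorem map_subtype_commutator (N : Subgroup G) :
    (commutator ↥N).map N.subtype = ⁅N, N⁆ := by
  rw [commutator_def, Subgroup.map_commutator, ← MonoidHom.range_eq_map, Subgroup.range_subtype]

theorem sylow_le_normalizer_nZ {p : ℕ} (P : Sylow p G) :
    (P : Subgroup G) ≤ Subgroup.normalizer ((H29.nZ 0 (P : Subgroup G) : Subgroup G) : Set G) :=
  Subgroup.le_normalizer.trans (H29.normalizer_le_normalizer_nZ 0 _)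

/-- Transfer: `P ≤ N_G(Z(J(P)))'`. -/
theorem fht_sylow_le_commutator (hG : IsMinSimpleOddOrder G) (hCN : IsCNGroup G) {p : ℕ}
    [Fact p.Prime] (P : Sylow p G) :
    (P : Subgroup G) ≤
      ⁅Subgroup.normalizer ((H29.nZ 0 (P : Subgroup G) : Subgroup G) : Set G),
        Subgroup.normalizer ((H29.nZ 0 (P : Subgroup G) : Subgroup G) : Set G)⁆ := by
  have h := H39.sylow_inf_commutator_le P
    ⁅Subgroup.normalizer ((H29.nZ 0 (P : Subgroup G) : Subgroup G) : Set G),
      Subgroup.normalizer ((H29.nZ 0 (P : Subgroup G) : Subgroup G) : Set G)⁆ ?_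
  · rw [fht_perfect hG, inf_top_eq] at h
    exact h
  · intro x hx u hu
    by_cases hx1 : x = 1
    · subst hx1
      rw [commutatorElement_one_left]
      exact one_mem _
    · have hmem : x ∈ (P : Subgroup G) ⊓ ((u⁻¹ • P : Sylow p G) : Subgroup G) := by
        refine Subgroup.mem_inf.mpr ⟨hx, ?_⟩
        rw [H29.mem_smul_sylow_iff, inv_inv]
        exact hu
      have hne : (P : Subgroup G) ⊓ ((u⁻¹ • P : Sylow p G) : Subgroup G) ≠ ⊥ := by
        intro e
        rw [e, Subgroup.mem_bot] at hmem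
        exact hx1 hmem
      have heq := fht_zj_eq hG hCN P (u⁻¹ • P) hne
      have hconj : ((u⁻¹ • P : Sylow p G) : Subgroup G) =
          (P : Subgroup G).map (MulAut.conj u⁻¹).toMonoidHom := by
        rw [Sylow.coe_subgroup_smul, Subgroup.pointwise_smul_def]; rfl
      rw [hconj, ← H29.nZ_map] at heq
      have hu' : u⁻¹ ∈ Subgroup.normalizer ((H29.nZ 0 (P : Subgroup G) : Subgroup G) : Set G) :=
        Subgroup.mem_normalizer_iff_map_conj_eq.mpr heq.symm
      have huN : u ∈ Subgroup.normalizer ((H29.nZ 0 (P : Subgroup G) : Subgroup G) : Set G) := by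
        have := inv_mem hu'
        rwa [inv_inv] at this
      exact Subgroup.commutator_mem_commutator (sylow_le_normalizer_nZ P hx) huN

/-- `P` is normal in `N_G(Z(J(P)))`. -/
theorem fht_nz_le (hG : IsMinSimpleOddOrder G) (hCN : IsCNGroup G) {p : ℕ} [Fact p.Prime]
    (P : Sylow p G) (hP : (P : Subgroup G) ≠ ⊥) :
    Subgroup.normalizer ((H29.nZ 0 (P : Subgroup G) : Subgroup G) : Set G) ≤
      Subgroup.normalizer ((P : Subgroup G) : Set G) := by
  classical
  have hpp : p.Prime := Fact.out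
  obtain ⟨N, hNdef⟩ : ∃ N : Subgroup G,
      N = Subgroup.normalizer ((H29.nZ 0 (P : Subgroup G) : Subgroup G) : Set G) := ⟨_, rfl⟩
  rw [← hNdef]
  have hZ1 : H29.nZ 0 (P : Subgroup G) ≠ ⊥ := H29.nZ_zero_ne_bot P.isPGroup' hP
  have hZp : IsPGroup p (H29.nZ 0 (P : Subgroup G)) := P.isPGroup'.to_le (H29.nZ_le 0 _)
  have hNtop : N ≠ ⊤ := by
    rw [hNdef]; exact fht_normalizer_ne_top hG hZ1 (fht_ne_top_of_pgroup hG hZp)
  haveI hsol : Group.IsSolvable ↥N := fht_solv hG hNtop
  have hCNN : IsCNGroup ↥N := fht_cn_sub hCN N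
  have hPN : (P : Subgroup G) ≤ N := by rw [hNdef]; exact sylow_le_normalizer_nZ P
  have hZN : H29.nZ 0 (P : Subgroup G) ≤ N := (H29.nZ_le 0 _).trans hPN
  -- the Sylow subgroup of `N`
  let S' : Sylow p ↥N := P.subtype hPN
  have hS'coe : (S' : Subgroup ↥N) = (P : Subgroup G).subgroupOf N := Sylow.coe_subtype P hPN
  have hS'1 : (S' : Subgroup ↥N) ≠ ⊥ := by
    rw [hS'coe]
    intro e
    rw [Subgroup.subgroupOf_eq_bot, disjoint_iff, inf_of_le_left hPN] at e
    exact hP e
  have hS'comm : (S' : Subgroup ↥N) ≤ commutator ↥N := by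
    intro x hx
    rw [hS'coe, Subgroup.mem_subgroupOf] at hx
    have h1 := fht_sylow_le_commutator hG hCN P hx
    rw [← hNdef, ← map_subtype_commutator] at h1
    obtain ⟨y, hy, hyx⟩ := h1
    have : y = x := Subtype.ext hyx
    rw [← this]; exact hy
  -- `O_p(N) ≠ 1`
  haveI hZn : ((H29.nZ 0 (P : Subgroup G)).subgroupOf N).Normal := by
    rw [hNdef]; exact Subgroup.normal_in_normalizer
  have hP1 : pCore p ↥N ≠ ⊥ := by
    intro h
    have h1 : (H29.nZ 0 (P : Subgroup G)).subgroupOf N ≤ pCore p ↥N :=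
      le_pCore hZn hZp.comap_subtype
    rw [h, le_bot_iff, Subgroup.subgroupOf_eq_bot, disjoint_iff, inf_of_le_left hZN] at h1
    exact hZ1 h1
  -- `S'` is normal in `N`
  have hS'n : (S' : Subgroup ↥N).Normal := by
    rcases cn_dichotomy hCNN with hnil | ⟨q, hq, Q, hQn, hQ1⟩ | ⟨r, hr, h3⟩
    · haveI := hnil
      exact absurd hS'comm (nilpotent_sylow_not_le_commutator S' hS'1)
    · by_cases hqp : q = p
      · subst hqp
        letI := Sylow.unique_of_normal Q hQn
        rw [Subsingleton.elim S' Q]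
        exact hQn
      · haveI := hQn
        have hcop : ¬ p ∣ Nat.card (Q : Subgroup ↥N) := by
          obtain ⟨k, hk⟩ := IsPGroup.iff_card.mp Q.2
          rw [hk]
          intro hdvd
          exact hqp ((Nat.prime_dvd_prime_iff_eq hpp hq.out).mp (hpp.dvd_of_dvd_pow hdvd)).symm
        exact sylow_normal_of_two_normal hCNN (pCore p ↥N) (Q : Subgroup ↥N) (isPGroup_pCore p)
          hP1 hQ1 hcop S'
    · exfalso
      haveI : Fact r.Prime := ⟨hr⟩
      by_cases hrp : r = p
      · subst hrp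
        exact threeStep_sylow_not_le_commutator h3 S' hS'comm
      · let R : Sylow r ↥N := default
        have hcop : ¬ r ∣ Nat.card (pCore p ↥N) := by
          obtain ⟨k, hk⟩ := IsPGroup.iff_card.mp (isPGroup_pCore (G := ↥N) p)
          rw [hk]
          intro hdvd
          exact hrp ((Nat.prime_dvd_prime_iff_eq hr hpp).mp (hr.dvd_of_dvd_pow hdvd))
        have hRn := sylow_normal_of_two_normal hCNN (pCore r ↥N) (pCore p ↥N) (isPGroup_pCore r)
          h3.1 hP1 hcop R
        exact threeStep_sylow_not_normal h3 R hRn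
  intro g hg
  apply H14.mem_normalizer_of_conj_mem
  intro x hx
  have h1 : (⟨x, hPN hx⟩ : ↥N) ∈ (S' : Subgroup ↥N) := by
    rw [hS'coe, Subgroup.mem_subgroupOf]; exact hx
  have h2 := hS'n.conj_mem _ h1 ⟨g, hg⟩
  rw [hS'coe, Subgroup.mem_subgroupOf] at h2
  exact h2

/-- `N_G(Q) ≤ N_G(P)` for `1 ≠ Q ≤ P`. -/
theorem fht_normalizer_le (hG : IsMinSimpleOddOrder G) (hCN : IsCNGroup G) {p : ℕ} [Fact p.Prime]
    (P : Sylow p G) (Q : Subgroup G) (hQP : Q ≤ (P : Subgroup G)) (hQ0 : Q ≠ ⊥) :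
    Subgroup.normalizer (Q : Set G) ≤ Subgroup.normalizer ((P : Subgroup G) : Set G) := by
  have hP : (P : Subgroup G) ≠ ⊥ := fun e => hQ0 (le_bot_iff.mp (e ▸ hQP))
  exact (fht_control hG hCN P Q hQP hQ0).trans (fht_nz_le hG hCN P hP)

/-- Sylow subgroups are TI. -/
theorem fht_sylow_ti (hG : IsMinSimpleOddOrder G) (hCN : IsCNGroup G) {p : ℕ} [Fact p.Prime]
    (P P₁ : Sylow p G) (h : (P : Subgroup G) ⊓ P₁ ≠ ⊥) : P = P₁ := by
  have hpp : p.Prime := Fact.out
  have hP : (P : Subgroup G) ≠ ⊥ := fun e => h (by rw [e, bot_inf_eq])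
  have h1 : Subgroup.normalizer ((P ⊓ P₁ : Subgroup G) : Set G) ≤
      Subgroup.normalizer ((P : Subgroup G) : Set G) :=
    fht_normalizer_le hG hCN P _ inf_le_left h
  have heq := fht_zj_eq hG hCN P P₁ h
  have h2 : (P₁ : Subgroup G) ≤ Subgroup.normalizer ((P : Subgroup G) : Set G) := by
    refine le_trans ?_ (fht_nz_le hG hCN P hP)
    rw [heq]
    exact sylow_le_normalizer_nZ P₁
  have h3 : (P₁ : Subgroup G) ≤ P := by
    intro x hx
    exact mem_of_isEl_of_normalizer hpp (P : Subgroup G) x (isEl_of_isPGroup P₁.2 hx) (h2 hx)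
      P.not_dvd_index
  exact Sylow.ext (P₁.is_maximal' P.isPGroup' h3)

/-- No subgroup is a three-step group with respect to a prime. -/
theorem fht_no_three_step_prime (hG : IsMinSimpleOddOrder G) (hCN : IsCNGroup G)
    (L : Subgroup G) (p : ℕ) [Fact p.Prime] : ¬ IsThreeStepGroup p ↥L := by
  intro h
  have hpp : p.Prime := Fact.out
  obtain ⟨x, hx, hxn⟩ := threeStep_exists_pel h
  apply hxn
  have hH1 : pCore p ↥L ≠ ⊥ := h.1
  have hHp : IsPGroup p ((pCore p ↥L).map L.subtype) := (isPGroup_pCore p).map _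
  have hH1' : (pCore p ↥L).map L.subtype ≠ ⊥ := by
    intro e
    apply hH1
    rw [eq_bot_iff]
    intro y hy
    have : (y : G) ∈ (pCore p ↥L).map L.subtype := ⟨y, hy, rfl⟩
    rw [e, Subgroup.mem_bot] at this
    exact Subgroup.mem_bot.mpr (Subtype.ext this)
  obtain ⟨P, hHP⟩ := hHp.exists_le_sylow
  have hLN : L ≤ Subgroup.normalizer (((pCore p ↥L).map L.subtype : Subgroup G) : Set G) := by
    intro g hg
    apply H14.mem_normalizer_of_conj_mem
    rintro _ ⟨y, hy, rfl⟩
    exact ⟨⟨g, hg⟩ * y * ⟨g, hg⟩⁻¹,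
      (inferInstance : (pCore p ↥L).Normal).conj_mem y hy _, by simp⟩
  have hLP : L ≤ Subgroup.normalizer ((P : Subgroup G) : Set G) :=
    hLN.trans (fht_normalizer_le hG hCN P _ hHP hH1')
  haveI hn : ((P : Subgroup G).subgroupOf L).Normal :=
    Subgroup.normal_subgroupOf_of_le_normalizer hLP
  have hle : (P : Subgroup G).subgroupOf L ≤ pCore p ↥L := le_pCore hn P.isPGroup'.comap_subtype
  apply hle
  rw [Subgroup.mem_subgroupOf]
  exact mem_of_isEl_of_normalizer hpp (P : Subgroup G) (x : G) hx.coe (hLP x.2) P.not_dvd_index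

/-- **No subgroup of a minimal simple CN-group of odd order is a three-step group.** -/
theorem fht_no_three_step (hG : IsMinSimpleOddOrder G) (hCN : IsCNGroup G)
    (L : Subgroup G) (p : ℕ) : ¬ IsThreeStepGroup p ↥L := by
  intro h
  -- `L` is a proper subgroup
  have hLtop : L ≠ ⊤ := by
    intro hL
    obtain ⟨hH1, A, hA1, -, -, -, hTn, hTtop, -, -, -⟩ := h
    haveI := hG.2.1
    have hn : ((pCore p ↥L ⊔ A).map L.subtype).Normal := by
      refine ⟨?_⟩
      rintro _ ⟨y, hy, rfl⟩ g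
      have hg : g ∈ L := hL ▸ Subgroup.mem_top g
      exact ⟨⟨g, hg⟩ * y * ⟨g, hg⟩⁻¹, hTn.conj_mem y hy _, by simp⟩
    rcases hn.eq_bot_or_eq_top with e | e
    · apply hH1
      rw [eq_bot_iff]
      intro y hy
      have : (y : G) ∈ (pCore p ↥L ⊔ A).map L.subtype :=
        ⟨y, (le_sup_left : pCore p ↥L ≤ pCore p ↥L ⊔ A) hy, rfl⟩
      rw [e, Subgroup.mem_bot] at this
      exact Subgroup.mem_bot.mpr (Subtype.ext this)
    · apply hTtop
      rw [eq_top_iff]
      intro y _
      have : (y : G) ∈ (pCore p ↥L ⊔ A).map L.subtype := e ▸ Subgroup.mem_top _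
      obtain ⟨y', hy', hyy⟩ := this
      have : y' = y := Subtype.ext hyy
      rw [← this]; exact hy'
  haveI hsol : Group.IsSolvable ↥L := fht_solv hG hLtop
  have hCNL : IsCNGroup ↥L := fht_cn_sub hCN L
  rcases cn_dichotomy hCNL with hnil | ⟨q, hq, Q, hQn, hQ1⟩ | ⟨r, hr, h3⟩
  · exact threeStep_not_nilpotent p h hnil
  · exact threeStep_no_normal_sylow p h q Q hQn hQ1
  · haveI : Fact r.Prime := ⟨hr⟩
    exact fht_no_three_step_prime hG hCN L r h3

end FHT3

end Cfsg.Agent.H31
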