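import Mathlib
import Cfsg.Agent.H31.FHT3

/-!
# Minimal simple CN-groups of odd order (Feit–Hall–Thompson), part 4

The Frobenius-type structure of the Sylow normalizers `N_G(P)`: with `K = M_F` for `M = N_G(P)`,
`K` is a nilpotent normal Hall subgroup of `M` containing `P`, elements of `M` outside `K` act
without fixed points on `K`, and `M / K` is nilpotent.
-/

set_option autoImplicit false

namespace Cfsg.Agent.H31

open Cfsg

section TypeLevel

variable {X : Type*} [Group X] [Finite X]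

theorem mem_of_coprime_index (K : Subgroup X) [K.Normal] (u : X)
    (h : (orderOf u).Coprime K.index) : u ∈ K := by
  have h1 : u ^ K.index ∈ K := Subgroup.pow_index_mem K u
  obtain ⟨m, hm⟩ := exists_pow_eq_self_of_coprime h.symm
  rw [← hm]; exact pow_mem h1 m

theorem exists_prime_pow_of_not_mem (K : Subgroup X) [K.Normal]
    (hK : (Nat.card K).Coprime K.index) (u : X) (hu : u ∉ K) :
    ∃ s m : ℕ, s.Prime ∧ ¬ s ∣ Nat.card K ∧ u ^ m ≠ 1 ∧ IsEl s (u ^ m) := by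
  have hnc : ¬ (orderOf u).Coprime K.index := fun h => hu (mem_of_coprime_index K u h)
  obtain ⟨s, hs, hs1, hs2⟩ := Nat.Prime.not_coprime_iff_dvd.mp hnc
  refine ⟨s, orderOf u / s, hs, ?_, ?_, ?_⟩
  · intro hdvd
    have := Nat.dvd_gcd hdvd hs2
    rw [Nat.Coprime.gcd_eq_one hK] at this
    exact hs.one_lt.ne' (Nat.dvd_one.mp this)
  · apply pow_ne_one_of_lt_orderOf
    · exact (Nat.div_pos (Nat.le_of_dvd (orderOf_pos u) hs1) hs.pos).ne'
    · exact Nat.div_lt_self (orderOf_pos u) hs.one_lt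
  · refine ⟨1, ?_⟩
    rw [pow_one, ← pow_mul, Nat.div_mul_cancel hs1, pow_orderOf_eq_one]

theorem mem_of_isEl_of_dvd_card (K : Subgroup X) [K.Normal]
    (hK : (Nat.card K).Coprime K.index) {s : ℕ} (hs : s.Prime) (hsK : s ∣ Nat.card K) (u : X)
    (hu : IsEl s u) : u ∈ K := by
  apply mem_of_coprime_index
  obtain ⟨k, hk⟩ := hu
  have h1 : orderOf u ∣ s ^ k := orderOf_dvd_of_pow_eq_one hk
  have h2 : ¬ s ∣ K.index := fun h => by
    have := Nat.dvd_gcd hsK h
    rw [Nat.Coprime.gcd_eq_one hK] at this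
    exact hs.one_lt.ne' (Nat.dvd_one.mp this)
  exact Nat.Coprime.coprime_dvd_left h1
    (Nat.Coprime.pow_left k ((Nat.Prime.coprime_iff_not_dvd hs).mpr h2))

omit [Finite X] in
theorem nilpotent_of_inf_eq_bot (K : Subgroup X) [K.Normal] [hq : Group.IsNilpotent (X ⧸ K)]
    (X' : Subgroup X) (h : X' ⊓ K = ⊥) : Group.IsNilpotent X' := by
  refine isNilpotent_of_ker_le_center ((QuotientGroup.mk' K).comp X'.subtype) ?_
  intro x hx
  rw [MonoidHom.mem_ker, MonoidHom.comp_apply, QuotientGroup.mk'_apply,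
    QuotientGroup.eq_one_iff] at hx
  have h1 : (x : X) ∈ X' ⊓ K := ⟨x.2, hx⟩
  rw [h, Subgroup.mem_bot] at h1
  have hx1 : x = 1 := Subtype.ext h1
  rw [hx1]; exact one_mem _

end TypeLevel

section GLevel

variable {G : Type*} [Group G] [Finite G]

/-- `K` is a Frobenius-type kernel of the subgroup `M` of `G`. -/
structure FrobKer (M K : Subgroup G) : Prop where
  le : K ≤ M
  norm : M ≤ Subgroup.normalizer (K : Set G)
  nil : Group.IsNilpotent K
  ne_bot : K ≠ ⊥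
  outside : ∀ u ∈ M, u ∉ K → ∃ s m : ℕ, s.Prime ∧ ¬ s ∣ Nat.card K ∧ u ^ m ≠ 1 ∧ IsEl s (u ^ m)
  fpf_el : ∀ s : ℕ, s.Prime → ¬ s ∣ Nat.card K → ∀ e ∈ M, e ≠ 1 → IsEl s e →
    ∀ h ∈ K, h * e = e * h → h = 1
  pel : ∀ s : ℕ, s.Prime → s ∣ Nat.card K → ∀ u ∈ M, IsEl s u → u ∈ K
  quot : ∀ X : Subgroup G, X ≤ M → X ⊓ K = ⊥ → Group.IsNilpotent X
  compl : ∃ E : Subgroup G, IsComplIn K E M ∧ E ≠ ⊥

/-- Transport of the structure of a non-nilpotent CN-group with a nontrivial normal Sylow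
subgroup to a subgroup of `G`. -/
theorem frobKer_of_type (M : Subgroup G) (hCNM : IsCNGroup ↥M) (hnn : ¬ Group.IsNilpotent ↥M)
    {p : ℕ} [Fact p.Prime] (S' : Sylow p ↥M) (hS1 : (S' : Subgroup ↥M) ≠ ⊥)
    (hSn : (S' : Subgroup ↥M).Normal) :
    FrobKer M (fittingHallOf M) ∧ (S' : Subgroup ↥M).map M.subtype ≤ fittingHallOf M := by
  classical
  obtain ⟨hK1, hKtop, ⟨E₀, hE₀, hFrob, -⟩, hnilq⟩ := Cfsg.Agent.S1474.result hCNM hnn p S' hS1 hSn
  have hKnil : Group.IsNilpotent (fittingHall ↥M) := fitHall_nilpotent hCNM S' hS1 hSn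
  have hHall : (Nat.card (fittingHall ↥M)).Coprime (fittingHall ↥M).index :=
    fittingHall_card_coprime_index' ↥M
  have hcard : Nat.card (fittingHallOf M) = Nat.card (fittingHall ↥M) :=
    Subgroup.card_map_of_injective M.subtype_injective
  have hmem : ∀ u : ↥M, (u : G) ∈ fittingHallOf M ↔ u ∈ fittingHall ↥M := by
    intro u
    constructor
    · rintro ⟨y, hy, hyu⟩
      have : y = u := Subtype.ext hyu
      rw [← this]; exact hy
    · intro hu
      exact ⟨u, hu, rfl⟩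
  have hle : fittingHallOf M ≤ M := Subgroup.map_subtype_le _
  refine ⟨⟨hle, ?_, ?_, ?_, ?_, ?_, ?_, ?_, ?_⟩, ?_⟩
  · intro g hg
    apply H14.mem_normalizer_of_conj_mem
    rintro _ ⟨y, hy, rfl⟩
    exact ⟨⟨g, hg⟩ * y * ⟨g, hg⟩⁻¹,
      (inferInstance : (fittingHall ↥M).Normal).conj_mem y hy _, by simp⟩
  · exact Group.nilpotent_of_mulEquiv
      ((fittingHall ↥M).equivMapOfInjective M.subtype M.subtype_injective)
  · intro e
    apply hK1
    rw [eq_bot_iff]
    intro y hy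
    have : (y : G) ∈ fittingHallOf M := (hmem y).mpr hy
    rw [e, Subgroup.mem_bot] at this
    exact Subgroup.mem_bot.mpr (Subtype.ext this)
  · intro u hu huK
    have huK' : (⟨u, hu⟩ : ↥M) ∉ fittingHall ↥M := fun h => huK ((hmem ⟨u, hu⟩).mpr h)
    obtain ⟨s, m, hs, hsK, hm1, hme⟩ := exists_prime_pow_of_not_mem (fittingHall ↥M) hHall _ huK'
    refine ⟨s, m, hs, by rw [hcard]; exact hsK, ?_, ?_⟩
    · intro e
      apply hm1
      exact Subtype.ext e
    · exact hme.coe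
  · intro s hs hsK e he he1 hes h hh hcomm
    rw [hcard] at hsK
    have hh' : (⟨h, hle hh⟩ : ↥M) ∈ fittingHall ↥M := (hmem ⟨h, hle hh⟩).mp hh
    have := fitHall_fpf hCNM S' hS1 hSn s hs hsK (⟨e, he⟩ : ↥M)
      (fun e' => he1 (congrArg Subtype.val e')) (hes.subtype_mk he) ⟨h, hle hh⟩ hh'
      (Subtype.ext hcomm)
    exact congrArg Subtype.val this
  · intro s hs hsK u hu hue
    rw [hcard] at hsK
    exact (hmem ⟨u, hu⟩).mpr
      (mem_of_isEl_of_dvd_card (fittingHall ↥M) hHall hs hsK ⟨u, hu⟩ (hue.subtype_mk hu))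
  · intro Y hY hYK
    haveI := hnilq
    have h1 : Y.subgroupOf M ⊓ fittingHall ↥M = ⊥ := by
      rw [eq_bot_iff]
      intro y hy
      obtain ⟨hy1, hy2⟩ := Subgroup.mem_inf.mp hy
      have : (y : G) ∈ Y ⊓ fittingHallOf M :=
        Subgroup.mem_inf.mpr ⟨Subgroup.mem_subgroupOf.mp hy1, (hmem y).mpr hy2⟩
      rw [hYK, Subgroup.mem_bot] at this
      exact Subgroup.mem_bot.mpr (Subtype.ext this)
    have h2 : Group.IsNilpotent (Y.subgroupOf M) :=
      nilpotent_of_inf_eq_bot (fittingHall ↥M) _ h1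
    exact Group.nilpotent_of_mulEquiv (Subgroup.subgroupOfEquivOfLe hY)
  · refine ⟨E₀.map M.subtype, ⟨hle, Subgroup.map_subtype_le _, ?_, ?_⟩, ?_⟩
    · rw [eq_bot_iff]
      rintro x ⟨hx1, ⟨e, he, rfl⟩⟩
      have h1 : e ∈ fittingHall ↥M ⊓ E₀ := Subgroup.mem_inf.mpr ⟨(hmem e).mp hx1, he⟩
      rw [hE₀.disjoint.eq_bot, Subgroup.mem_bot] at h1
      rw [Subgroup.mem_bot, h1]; rfl
    · intro m hm
      have h1 : (⟨m, hm⟩ : ↥M) ∈ fittingHall ↥M ⊔ E₀ := by
        rw [hE₀.sup_eq_top]; exact Subgroup.mem_top _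
      obtain ⟨k, hk, e, he, hke⟩ := Subgroup.mem_sup_of_normal_left.mp h1
      exact ⟨k, (hmem k).mpr hk, e, ⟨e, he, rfl⟩, (congrArg Subtype.val hke).symm⟩
    · intro e
      apply hFrob.1
      rw [eq_bot_iff]
      intro y hy
      have : (y : G) ∈ E₀.map M.subtype := ⟨y, hy, rfl⟩
      rw [e, Subgroup.mem_bot] at this
      exact Subgroup.mem_bot.mpr (Subtype.ext this)
  · rintro _ ⟨y, hy, rfl⟩
    exact (hmem y).mpr (sylow_le_fitHall S' hSn hy)

namespace FrobKer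

variable {M K : Subgroup G}

/-- Elements of `M` outside `K` centralize no non-identity element of `K`. -/
theorem fpf (h : FrobKer M K) {u : G} (hu : u ∈ M) (huK : u ∉ K) {x : G} (hx : x ∈ K)
    (hcomm : x * u = u * x) : x = 1 := by
  obtain ⟨s, m, hs, hsK, hm1, hme⟩ := h.outside u hu huK
  refine h.fpf_el s hs hsK (u ^ m) (pow_mem hu m) hm1 hme x hx ?_
  have hc : Commute x u := hcomm
  exact (hc.pow_right m).eq

/-- A nilpotent subgroup of `M` meeting `K` nontrivially lies in `K`. -/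
theorem le_of_nilpotent (h : FrobKer M K) {Y : Subgroup G} (hY : Y ≤ M)
    (hYn : Group.IsNilpotent Y) (hYK : Y ⊓ K ≠ ⊥) : Y ≤ K := by
  intro u hu
  by_contra huK
  obtain ⟨s, m, hs, hsK, hm1, hme⟩ := h.outside u (hY hu) huK
  obtain ⟨y, hy, hy1⟩ : ∃ y ∈ Y ⊓ K, y ≠ 1 := by
    by_contra hcon
    push Not at hcon
    exact hYK (eq_bot_iff.mpr (fun x hx => Subgroup.mem_bot.mpr (hcon x hx)))
  obtain ⟨hyY, hyK⟩ := Subgroup.mem_inf.mp hy
  obtain ⟨t, m', ht, hm1', hmt, htdvd⟩ := exists_prime_order_pow y hy1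
  have htK : t ∣ Nat.card K := htdvd.trans (Subgroup.orderOf_dvd_natCard K hyK)
  have hst : s ≠ t := by
    rintro rfl
    exact hsK htK
  have hcomm := Cfsg.Agent.S1474.comm_in_nilpotent Y hYn hs ht hst (u ^ m) (y ^ m')
    (pow_mem hu m) (pow_mem hyY m') hme hmt
  exact hm1' (h.fpf_el s hs hsK (u ^ m) (pow_mem (hY hu) m) hm1 hme (y ^ m') (pow_mem hyK m')
    hcomm.symm)

/-- For a prime `r` dividing `|K|`, the `r`-elements of `M` form a nontrivial `r`-subgroup of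
`K` normalized by `M`. -/
theorem exists_sylow (h : FrobKer M K) {r : ℕ} [Fact r.Prime] (hr : r ∣ Nat.card K) :
    ∃ T : Subgroup G, T ≤ K ∧ IsPGroup r T ∧ T ≠ ⊥ ∧ (∀ u ∈ M, IsEl r u → u ∈ T) ∧
      M ≤ Subgroup.normalizer (T : Set G) := by
  have hrp : r.Prime := Fact.out
  haveI := h.nil
  let T₀ : Sylow r ↥K := default
  have hel : ∀ u ∈ M, IsEl r u → u ∈ (T₀ : Subgroup ↥K).map K.subtype := by
    intro u hu hue
    have huK : u ∈ K := h.pel r hrp hr u hu hue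
    exact ⟨⟨u, huK⟩, mem_sylow_of_isEl T₀ ⟨u, huK⟩ (hue.subtype_mk huK), rfl⟩
  have hTp : IsPGroup r ((T₀ : Subgroup ↥K).map K.subtype) := T₀.2.map _
  refine ⟨(T₀ : Subgroup ↥K).map K.subtype, Subgroup.map_subtype_le _, hTp, ?_, hel, ?_⟩
  · intro e
    obtain ⟨x, hx⟩ := exists_prime_orderOf_dvd_card' (G := ↥K) r hr
    have hxe : IsEl r (x : G) := ⟨1, by
      rw [pow_one, ← Subgroup.coe_pow, ← hx, pow_orderOf_eq_one]; rfl⟩
    have := hel (x : G) (h.le x.2) hxe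
    rw [e, Subgroup.mem_bot] at this
    have hx1 : x = 1 := Subtype.ext this
    rw [hx1, orderOf_one] at hx
    exact hrp.one_lt.ne hx
  · intro g hg
    apply H14.mem_normalizer_of_conj_mem
    intro x hx
    have hxM : x ∈ M := h.le (Subgroup.map_subtype_le _ hx)
    exact hel _ (mul_mem (mul_mem hg hxM) (inv_mem hg)) ((isEl_of_isPGroup hTp hx).conj g)

end FrobKer

end GLevel

end Cfsg.Agent.H31
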