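import Mathlib
import Cfsg.Agent.H31.FHT4

/-!
# Minimal simple CN-groups of odd order (Feit–Hall–Thompson), part 5

The maximal subgroups are the Sylow normalizers `N_G(P)`; each is of Frobenius type with kernel
`M_F`, a nilpotent TI Hall subgroup of `G` maximal among the nilpotent subgroups.
-/

set_option autoImplicit false

namespace Cfsg.Agent.H31

open Cfsg

section FHT5

variable {G : Type*} [Group G] [Finite G]

omit [Finite G] in
theorem zpowers_nilpotent (x : G) : Group.IsNilpotent (Subgroup.zpowers x) := by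
  open scoped IsMulCommutative in
  exact CommGroup.isNilpotent

/-- A nilpotent subgroup containing a Sylow subgroup normalizes it. -/
theorem nilpotent_le_normalizer_sylow {L : Subgroup G} (hL : Group.IsNilpotent L) {p : ℕ}
    [Fact p.Prime] (P : Sylow p G) (hPL : (P : Subgroup G) ≤ L) :
    L ≤ Subgroup.normalizer ((P : Subgroup G) : Set G) := by
  haveI := hL
  let T₀ : Sylow p ↥L := default
  have hel : ∀ u ∈ L, IsEl p u → u ∈ (T₀ : Subgroup ↥L).map L.subtype := fun u hu hue =>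
    ⟨⟨u, hu⟩, mem_sylow_of_isEl T₀ ⟨u, hu⟩ (hue.subtype_mk hu), rfl⟩
  have hTp : IsPGroup p ((T₀ : Subgroup ↥L).map L.subtype) := T₀.2.map _
  have hPT : (P : Subgroup G) ≤ (T₀ : Subgroup ↥L).map L.subtype := fun x hx =>
    hel x (hPL hx) (isEl_of_isPGroup P.2 hx)
  have hTP : (T₀ : Subgroup ↥L).map L.subtype = P := P.is_maximal' hTp hPT
  intro g hg
  apply H14.mem_normalizer_of_conj_mem
  intro x hx
  rw [← hTP]
  exact hel _ (mul_mem (mul_mem hg (hPL hx)) (inv_mem hg)) ((isEl_of_isPGroup P.2 hx).conj g)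

variable (hG : IsMinSimpleOddOrder G) (hCN : IsCNGroup G)

include hG hCN

theorem fht_nz_eq {p : ℕ} [Fact p.Prime] (P : Sylow p G) (hP : (P : Subgroup G) ≠ ⊥) :
    Subgroup.normalizer ((H29.nZ 0 (P : Subgroup G) : Subgroup G) : Set G) =
      Subgroup.normalizer ((P : Subgroup G) : Set G) :=
  le_antisymm (fht_nz_le hG hCN P hP) (H29.normalizer_le_normalizer_nZ 0 _)

/-- The Sylow normalizers are not nilpotent. -/
theorem fht_normalizer_not_nilpotent {p : ℕ} [Fact p.Prime] (P : Sylow p G)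
    (hP : (P : Subgroup G) ≠ ⊥) :
    ¬ Group.IsNilpotent ↥(Subgroup.normalizer ((P : Subgroup G) : Set G)) := by
  intro hnil
  have hPM : (P : Subgroup G) ≤ Subgroup.normalizer ((P : Subgroup G) : Set G) :=
    Subgroup.le_normalizer
  let S' : Sylow p ↥(Subgroup.normalizer ((P : Subgroup G) : Set G)) := P.subtype hPM
  have hS'coe : (S' : Subgroup ↥(Subgroup.normalizer ((P : Subgroup G) : Set G))) =
      (P : Subgroup G).subgroupOf _ := Sylow.coe_subtype P hPM
  have hS'1 : (S' : Subgroup ↥(Subgroup.normalizer ((P : Subgroup G) : Set G))) ≠ ⊥ := by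
    rw [hS'coe]
    intro e
    rw [Subgroup.subgroupOf_eq_bot, disjoint_iff, inf_of_le_left hPM] at e
    exact hP e
  apply nilpotent_sylow_not_le_commutator S' hS'1
  intro x hx
  rw [hS'coe, Subgroup.mem_subgroupOf] at hx
  have h1 := fht_sylow_le_commutator hG hCN P hx
  rw [fht_nz_eq hG hCN P hP, ← map_subtype_commutator] at h1
  obtain ⟨y, hy, hyx⟩ := h1
  have : y = x := Subtype.ext hyx
  rw [← this]; exact hy

/-- The Sylow normalizers are of Frobenius type. -/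
theorem fht_frobKer {p : ℕ} [Fact p.Prime] (P : Sylow p G) (hP : (P : Subgroup G) ≠ ⊥) :
    FrobKer (Subgroup.normalizer ((P : Subgroup G) : Set G))
        (fittingHallOf (Subgroup.normalizer ((P : Subgroup G) : Set G))) ∧
      (P : Subgroup G) ≤ fittingHallOf (Subgroup.normalizer ((P : Subgroup G) : Set G)) := by
  have hPM : (P : Subgroup G) ≤ Subgroup.normalizer ((P : Subgroup G) : Set G) :=
    Subgroup.le_normalizer
  let S' : Sylow p ↥(Subgroup.normalizer ((P : Subgroup G) : Set G)) := P.subtype hPM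
  have hS'coe : (S' : Subgroup ↥(Subgroup.normalizer ((P : Subgroup G) : Set G))) =
      (P : Subgroup G).subgroupOf _ := Sylow.coe_subtype P hPM
  have hS'1 : (S' : Subgroup ↥(Subgroup.normalizer ((P : Subgroup G) : Set G))) ≠ ⊥ := by
    rw [hS'coe]
    intro e
    rw [Subgroup.subgroupOf_eq_bot, disjoint_iff, inf_of_le_left hPM] at e
    exact hP e
  have hS'n : (S' : Subgroup ↥(Subgroup.normalizer ((P : Subgroup G) : Set G))).Normal := by
    rw [hS'coe]; exact Subgroup.normal_in_normalizer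
  obtain ⟨h1, h2⟩ := frobKer_of_type _ (fht_cn_sub hCN _)
    (fht_normalizer_not_nilpotent hG hCN P hP) S' hS'1 hS'n
  refine ⟨h1, fun x hx => ?_⟩
  have h3 : (⟨x, hPM hx⟩ : ↥(Subgroup.normalizer ((P : Subgroup G) : Set G))) ∈
      (S' : Subgroup ↥(Subgroup.normalizer ((P : Subgroup G) : Set G))) := by
    rw [hS'coe, Subgroup.mem_subgroupOf]
    exact hx
  exact h2 ⟨_, h3, rfl⟩

/-- Every nontrivial proper subgroup normalizes a Sylow subgroup that it meets nontrivially. -/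
theorem fht_exists_sylow_normalizer (X : Subgroup G) (hX0 : X ≠ ⊥) (hXtop : X ≠ ⊤) :
    ∃ (q : ℕ) (_ : Fact q.Prime) (Q : Sylow q G), (Q : Subgroup G) ⊓ X ≠ ⊥ ∧
      X ≤ Subgroup.normalizer ((Q : Subgroup G) : Set G) := by
  haveI hsol : Group.IsSolvable ↥X := fht_solv hG hXtop
  have hCNX : IsCNGroup ↥X := fht_cn_sub hCN X
  have key : ∃ (q : ℕ) (_ : Fact q.Prime) (Q₁ : Sylow q ↥X),
      (Q₁ : Subgroup ↥X).Normal ∧ (Q₁ : Subgroup ↥X) ≠ ⊥ := by
    rcases cn_dichotomy hCNX with hnil | h | ⟨r, hr, h3⟩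
    · haveI := hnil
      have hc1 : Nat.card ↥X ≠ 1 := fun e => hX0 (Subgroup.card_eq_one.mp e)
      obtain ⟨q, hq, hqd⟩ := Nat.exists_prime_and_dvd hc1
      haveI : Fact q.Prime := ⟨hq⟩
      exact ⟨q, ⟨hq⟩, default, inferInstance, Sylow.ne_bot_of_dvd_card _ hqd⟩
    · exact h
    · exact absurd h3 (fht_no_three_step hG hCN X r)
  obtain ⟨q, hq, Q₁, hQn, hQ1⟩ := key
  haveI := hq
  have hQp : IsPGroup q ((Q₁ : Subgroup ↥X).map X.subtype) := Q₁.2.map _
  have hQ1' : (Q₁ : Subgroup ↥X).map X.subtype ≠ ⊥ := by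
    intro e
    apply hQ1
    rw [eq_bot_iff]
    intro y hy
    have : (y : G) ∈ (Q₁ : Subgroup ↥X).map X.subtype := ⟨y, hy, rfl⟩
    rw [e, Subgroup.mem_bot] at this
    exact Subgroup.mem_bot.mpr (Subtype.ext this)
  have hXN : X ≤ Subgroup.normalizer (((Q₁ : Subgroup ↥X).map X.subtype : Subgroup G) : Set G) := by
    intro g hg
    apply H14.mem_normalizer_of_conj_mem
    rintro _ ⟨y, hy, rfl⟩
    exact ⟨⟨g, hg⟩ * y * ⟨g, hg⟩⁻¹, hQn.conj_mem y hy _, by simp⟩
  obtain ⟨Q, hQQ⟩ := hQp.exists_le_sylow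
  refine ⟨q, hq, Q, ?_, hXN.trans (fht_normalizer_le hG hCN Q _ hQQ hQ1')⟩
  intro e
  apply hQ1'
  rw [eq_bot_iff, ← e]
  exact le_inf hQQ (Subgroup.map_subtype_le _)

/-- The Sylow normalizers are maximal subgroups. -/
theorem fht_normalizer_coatom {p : ℕ} [Fact p.Prime] (P : Sylow p G)
    (hP : (P : Subgroup G) ≠ ⊥) : IsCoatom (Subgroup.normalizer ((P : Subgroup G) : Set G)) := by
  have hpp : p.Prime := Fact.out
  have hMtop : Subgroup.normalizer ((P : Subgroup G) : Set G) ≠ ⊤ :=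
    fht_normalizer_ne_top hG hP (fht_ne_top_of_pgroup hG P.2)
  refine ⟨hMtop, ?_⟩
  intro b hb
  by_contra hbtop
  have hb0 : b ≠ ⊥ := by
    rintro rfl
    exact absurd hb (not_lt_bot)
  obtain ⟨q, hq, Q, hQb, hbQ⟩ := fht_exists_sylow_normalizer hG hCN b hb0 hbtop
  haveI := hq
  have hQ0 : (Q : Subgroup G) ≠ ⊥ := fun e => hQb (by rw [e, bot_inf_eq])
  obtain ⟨hK, hQK⟩ := fht_frobKer hG hCN Q hQ0
  have hPMs : (P : Subgroup G) ≤ Subgroup.normalizer ((Q : Subgroup G) : Set G) :=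
    (Subgroup.le_normalizer.trans hb.le).trans hbQ
  apply hb.not_ge
  by_cases hpK : p ∣ Nat.card (fittingHallOf (Subgroup.normalizer ((Q : Subgroup G) : Set G)))
  · obtain ⟨T, -, hTp, -, hTel, -⟩ := hK.exists_sylow hpK
    have hPT : (P : Subgroup G) ≤ T := fun x hx => hTel x (hPMs hx) (isEl_of_isPGroup P.2 hx)
    have hTP : T = P := P.is_maximal' hTp hPT
    refine hbQ.trans ?_
    intro g hg
    apply H14.mem_normalizer_of_conj_mem
    intro x hx
    rw [← hTP]
    exact hTel _ (mul_mem (mul_mem hg (hPMs hx)) (inv_mem hg)) ((isEl_of_isPGroup P.2 hx).conj g)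
  · exfalso
    apply fht_normalizer_not_nilpotent hG hCN P hP
    apply hK.quot _ ((le_of_lt hb).trans hbQ)
    rw [eq_bot_iff]
    intro k hk
    obtain ⟨hkM, hkK⟩ := Subgroup.mem_inf.mp hk
    rw [Subgroup.mem_bot]
    obtain ⟨⟨x, hxP⟩, hx1⟩ := (Subgroup.ne_bot_iff_exists_ne_one).mp hP
    have hx1' : x ≠ 1 := fun e => hx1 (Subtype.ext e)
    have hc1 : k * x * k⁻¹ * x⁻¹ ∈ (P : Subgroup G) :=
      mul_mem ((Subgroup.mem_normalizer_iff.mp hkM x).mp hxP) (inv_mem hxP)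
    have hc2 : k * x * k⁻¹ * x⁻¹ ∈
        fittingHallOf (Subgroup.normalizer ((Q : Subgroup G) : Set G)) := by
      have h1 := (Subgroup.mem_normalizer_iff.mp (hK.norm (hPMs hxP)) k⁻¹).mp (inv_mem hkK)
      have h2 := mul_mem hkK h1
      simpa [mul_assoc] using h2
    have h3 : k * x * k⁻¹ * x⁻¹ = 1 :=
      Cfsg.Agent.S1474.eq_one_of_isEl_of_not_dvd _ hpp hpK _ hc2 (isEl_of_isPGroup P.2 hc1)
    have hcomm : k * x = x * k := by
      calc k * x = (k * x * k⁻¹ * x⁻¹) * (x * k) := by group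
        _ = x * k := by rw [h3, one_mul]
    exact hK.fpf_el p hpp hpK x (hPMs hxP) hx1' (isEl_of_isPGroup P.2 hxP) k hkK hcomm

/-- For a prime `r` dividing the order of the kernel of `N_G(P)`, the kernel contains a Sylow
`r`-subgroup `R` of `G`, and `N_G(R) = N_G(P)`. -/
theorem fht_kernel_sylow {p : ℕ} [Fact p.Prime] (P : Sylow p G) (hP : (P : Subgroup G) ≠ ⊥)
    {r : ℕ} [Fact r.Prime]
    (hr : r ∣ Nat.card (fittingHallOf (Subgroup.normalizer ((P : Subgroup G) : Set G)))) :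
    ∃ R : Sylow r G, (R : Subgroup G) ≠ ⊥ ∧
      (R : Subgroup G) ≤ fittingHallOf (Subgroup.normalizer ((P : Subgroup G) : Set G)) ∧
      Subgroup.normalizer ((R : Subgroup G) : Set G) =
        Subgroup.normalizer ((P : Subgroup G) : Set G) ∧
      ∀ u ∈ Subgroup.normalizer ((P : Subgroup G) : Set G), IsEl r u → u ∈ (R : Subgroup G) := by
  obtain ⟨hK, -⟩ := fht_frobKer hG hCN P hP
  obtain ⟨T, hTK, hTp, hT0, hTel, hTn⟩ := hK.exists_sylow hr
  obtain ⟨R, hTR⟩ := hTp.exists_le_sylow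
  have hR0 : (R : Subgroup G) ≠ ⊥ := fun e => hT0 (le_bot_iff.mp (e ▸ hTR))
  have hco := fht_normalizer_coatom hG hCN P hP
  have hle : Subgroup.normalizer ((P : Subgroup G) : Set G) ≤
      Subgroup.normalizer ((R : Subgroup G) : Set G) :=
    hTn.trans (fht_normalizer_le hG hCN R T hTR hT0)
  have hRtop : Subgroup.normalizer ((R : Subgroup G) : Set G) ≠ ⊤ :=
    fht_normalizer_ne_top hG hR0 (fht_ne_top_of_pgroup hG R.2)
  have heq : Subgroup.normalizer ((R : Subgroup G) : Set G) =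
      Subgroup.normalizer ((P : Subgroup G) : Set G) := by
    by_contra hne
    exact hRtop (hco.2 _ (lt_of_le_of_ne hle (fun e => hne e.symm)))
  have hRT : (R : Subgroup G) ≤ T := fun x hx =>
    hTel x (heq ▸ Subgroup.le_normalizer hx) (isEl_of_isPGroup R.2 hx)
  have hTeq : T = R := le_antisymm hTR hRT
  exact ⟨R, hR0, hTeq ▸ hTK, heq, fun u hu hue => hTeq ▸ hTel u hu hue⟩

/-- A maximal nilpotent subgroup is the kernel of a Sylow normalizer. -/
theorem fht_max_nilpotent (L : Subgroup G) (hLn : Group.IsNilpotent L)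
    (hmax : ∀ L' : Subgroup G, Group.IsNilpotent L' → L ≤ L' → L' = L) :
    ∃ (p : ℕ) (_ : Fact p.Prime) (P : Sylow p G), (P : Subgroup G) ≠ ⊥ ∧ (P : Subgroup G) ≤ L ∧
      L = fittingHallOf (Subgroup.normalizer ((P : Subgroup G) : Set G)) := by
  haveI := hG.2.1
  have hL0 : L ≠ ⊥ := by
    rintro rfl
    obtain ⟨x, hx⟩ := exists_ne (1 : G)
    have h1 : Group.IsNilpotent (Subgroup.zpowers x) := zpowers_nilpotent x
    have h2 := hmax (Subgroup.zpowers x) h1 bot_le
    have h3 : x ∈ Subgroup.zpowers x := Subgroup.mem_zpowers x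
    rw [h2, Subgroup.mem_bot] at h3
    exact hx h3
  have hLtop : L ≠ ⊤ := fht_ne_top_of_nilpotent hG hLn
  obtain ⟨q, hq, Q, hQL, hLQ⟩ := fht_exists_sylow_normalizer hG hCN L hL0 hLtop
  haveI := hq
  have hQ0 : (Q : Subgroup G) ≠ ⊥ := fun e => hQL (by rw [e, bot_inf_eq])
  obtain ⟨hK, hQK⟩ := fht_frobKer hG hCN Q hQ0
  have hLK : L ≤ fittingHallOf (Subgroup.normalizer ((Q : Subgroup G) : Set G)) := by
    apply hK.le_of_nilpotent hLQ hLn
    intro e
    apply hQL
    rw [eq_bot_iff, ← e]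
    exact le_inf inf_le_right (inf_le_left.trans hQK)
  have hKL := hmax _ hK.nil hLK
  exact ⟨q, hq, Q, hQ0, hKL ▸ hQK, hKL.symm⟩

/-- Every maximal subgroup is a Sylow normalizer. -/
theorem fht_coatom_eq (M : Subgroup G) (hM : IsCoatom M) :
    ∃ (q : ℕ) (_ : Fact q.Prime) (Q : Sylow q G), (Q : Subgroup G) ≠ ⊥ ∧
      M = Subgroup.normalizer ((Q : Subgroup G) : Set G) := by
  haveI := hG.2.1
  have hM0 : M ≠ ⊥ := by
    rintro rfl
    obtain ⟨x, hx⟩ := exists_ne (1 : G)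
    have h1 : Subgroup.zpowers x ≠ ⊤ := fht_ne_top_of_nilpotent hG (zpowers_nilpotent x)
    have h2 : (⊥ : Subgroup G) < Subgroup.zpowers x := by
      rw [bot_lt_iff_ne_bot]
      intro e
      have h3 : x ∈ Subgroup.zpowers x := Subgroup.mem_zpowers x
      rw [e, Subgroup.mem_bot] at h3
      exact hx h3
    exact h1 (hM.2 _ h2)
  obtain ⟨q, hq, Q, hQM, hMQ⟩ := fht_exists_sylow_normalizer hG hCN M hM0 hM.1
  haveI := hq
  have hQ0 : (Q : Subgroup G) ≠ ⊥ := fun e => hQM (by rw [e, bot_inf_eq])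
  have hQtop : Subgroup.normalizer ((Q : Subgroup G) : Set G) ≠ ⊤ :=
    fht_normalizer_ne_top hG hQ0 (fht_ne_top_of_pgroup hG Q.2)
  refine ⟨q, hq, Q, hQ0, ?_⟩
  by_contra hne
  exact hQtop (hM.2 _ (lt_of_le_of_ne hMQ hne))

end FHT5

end Cfsg.Agent.H31
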