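import Mathlib
import Cfsg.Agent.H31.FHT5

/-!
# Minimal simple CN-groups of odd order (Feit–Hall–Thompson), part 6

Assembly: maximal nilpotent subgroups and maximal subgroups (`fht_part1`, `fht_part2`), and the
partition of the primes by the classes of maximal subgroups (`fht_partition`).
-/

set_option autoImplicit false

namespace Cfsg.Agent.H31

open Cfsg
open scoped Pointwise

section Aux

theorem prod_dvd_of_pairwise_coprime {ι : Type*} (s : Finset ι) (f : ι → ℕ) (n : ℕ)
    (hc : ∀ i ∈ s, ∀ j ∈ s, i ≠ j → (f i).Coprime (f j)) (hd : ∀ i ∈ s, f i ∣ n) :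
    ∏ i ∈ s, f i ∣ n := by
  classical
  induction s using Finset.induction_on with
  | empty => simp
  | insert a s ha ih =>
    rw [Finset.prod_insert ha]
    apply Nat.Coprime.mul_dvd_of_dvd_of_dvd
    · rw [Nat.coprime_prod_right_iff]
      intro i hi
      exact hc a (Finset.mem_insert_self a s) i (Finset.mem_insert_of_mem hi)
        (fun e => ha (e ▸ hi))
    · exact hd a (Finset.mem_insert_self a s)
    · exact ih (fun i hi j hj hij => hc i (Finset.mem_insert_of_mem hi) j
        (Finset.mem_insert_of_mem hj) hij) (fun i hi => hd i (Finset.mem_insert_of_mem hi))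

variable {G : Type*} [Group G]

theorem sylow_smul_coe {r : ℕ} (g : G) (R : Sylow r G) :
    ((g • R : Sylow r G) : Subgroup G) = (R : Subgroup G).map (MulAut.conj g).toMonoidHom := by
  rw [Sylow.coe_subgroup_smul, Subgroup.pointwise_smul_def]; rfl

theorem normalizer_smul_sylow {r : ℕ} (g : G) (R : Sylow r G) :
    Subgroup.normalizer (((g • R : Sylow r G) : Subgroup G) : Set G) =
      (Subgroup.normalizer ((R : Subgroup G) : Set G)).map (MulAut.conj g).toMonoidHom := by
  rw [sylow_smul_coe]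
  exact (Subgroup.map_equiv_normalizer_eq (R : Subgroup G) (MulAut.conj g)).symm

end Aux

section FHT6

variable {G : Type*} [Group G] [Finite G] (hG : IsMinSimpleOddOrder G) (hCN : IsCNGroup G)

include hG hCN

/-- Maximal nilpotent subgroups: Hall, TI, with maximal normalizer of Frobenius type. -/
theorem fht_part1 (H : Subgroup G) (hHn : Group.IsNilpotent H)
    (hmax : ∀ L : Subgroup G, Group.IsNilpotent L → H ≤ L → L = H) :
    (Nat.card H).Coprime H.index ∧
      (∀ g : G, H.map (MulAut.conj g).toMonoidHom ≠ H →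
        H ⊓ H.map (MulAut.conj g).toMonoidHom = ⊥) ∧
      IsCoatom (Subgroup.normalizer (H : Set G)) ∧
      ∃ E : Subgroup G, IsComplIn H E (Subgroup.normalizer (H : Set G)) ∧ E ≠ ⊥ ∧
        ∀ e ∈ E, e ≠ 1 → H ⊓ Subgroup.centralizer ({e} : Set G) = ⊥ := by
  obtain ⟨p, hp, P, hP0, hPH, hHeq⟩ := fht_max_nilpotent hG hCN H hHn hmax
  haveI := hp
  obtain ⟨hK, -⟩ := fht_frobKer hG hCN P hP0
  rw [← hHeq] at hK
  have hco := fht_normalizer_coatom hG hCN P hP0
  have hHtop : H ≠ ⊤ := fht_ne_top_of_nilpotent hG hHn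
  have hNtop : Subgroup.normalizer (H : Set G) ≠ ⊤ := fht_normalizer_ne_top hG hK.ne_bot hHtop
  have hNH : Subgroup.normalizer (H : Set G) = Subgroup.normalizer ((P : Subgroup G) : Set G) := by
    by_contra hne
    exact hNtop (hco.2 _ (lt_of_le_of_ne hK.norm (fun e => hne e.symm)))
  have hsyl : ∀ r : ℕ, r.Prime → r ∣ Nat.card H → ∃ (_ : Fact r.Prime) (R : Sylow r G),
      (R : Subgroup G) ≤ H ∧
      Subgroup.normalizer ((R : Subgroup G) : Set G) = Subgroup.normalizer (H : Set G) ∧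
      ∀ u ∈ H, IsEl r u → u ∈ (R : Subgroup G) := by
    intro r hr hrH
    haveI : Fact r.Prime := ⟨hr⟩
    obtain ⟨R, -, hRK, heq, hel⟩ := fht_kernel_sylow hG hCN P hP0 (r := r) (hHeq ▸ hrH)
    exact ⟨⟨hr⟩, R, hHeq ▸ hRK, heq.trans hNH.symm, fun u hu hue => hel u (hK.le hu) hue⟩
  refine ⟨?_, ?_, hNH ▸ hco, ?_⟩
  · apply Nat.coprime_of_dvd
    intro r hr hrH hrI
    obtain ⟨hrf, R, hRH, -, -⟩ := hsyl r hr hrH
    exact R.not_dvd_index (hrI.trans (Subgroup.index_dvd_of_le hRH))
  · intro g hne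
    rw [eq_bot_iff]
    intro x hx
    obtain ⟨hx1, hx2⟩ := Subgroup.mem_inf.mp hx
    rw [Subgroup.mem_bot]
    by_contra hx1'
    apply hne
    obtain ⟨r, m, hr, hm1, hme, hrdvd⟩ := exists_prime_order_pow x hx1'
    have hrH : r ∣ Nat.card H := hrdvd.trans (Subgroup.orderOf_dvd_natCard H hx1)
    obtain ⟨hrf, R, hRH, hNR, hel⟩ := hsyl r hr hrH
    have h1 : x ^ m ∈ (R : Subgroup G) := hel _ (pow_mem hx1 m) hme
    obtain ⟨y, hy, hyx⟩ := hx2
    have hyx' : g * y * g⁻¹ = x := hyx
    have h2 : y ^ m ∈ (R : Subgroup G) := by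
      apply hel _ (pow_mem hy m)
      have e : y ^ m = g⁻¹ * x ^ m * g⁻¹⁻¹ := by
        rw [← hyx', conj_pow]; group
      rw [e]
      exact hme.conj g⁻¹
    have h3 : x ^ m ∈ ((g • R : Sylow r G) : Subgroup G) := by
      rw [sylow_smul_coe]
      refine ⟨y ^ m, h2, ?_⟩
      show g * y ^ m * g⁻¹ = x ^ m
      rw [← hyx', conj_pow]
    have h4 : (R : Subgroup G) ⊓ ((g • R : Sylow r G) : Subgroup G) ≠ ⊥ := by
      intro e
      have : x ^ m ∈ (R : Subgroup G) ⊓ ((g • R : Sylow r G) : Subgroup G) :=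
        Subgroup.mem_inf.mpr ⟨h1, h3⟩
      rw [e, Subgroup.mem_bot] at this
      exact hm1 this
    have h5 : R = g • R := fht_sylow_ti hG hCN R (g • R) h4
    have h6 : g ∈ Subgroup.normalizer ((R : Subgroup G) : Set G) :=
      Sylow.smul_eq_iff_mem_normalizer.mp h5.symm
    rw [hNR] at h6
    exact Subgroup.mem_normalizer_iff_map_conj_eq.mp h6
  · obtain ⟨E, hE, hE0⟩ := hK.compl
    refine ⟨E, hNH ▸ hE, hE0, ?_⟩
    intro e he he1
    rw [eq_bot_iff]
    intro x hx
    obtain ⟨hx1, hx2⟩ := Subgroup.mem_inf.mp hx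
    rw [Subgroup.mem_bot]
    have heH : e ∉ H := by
      intro h
      have : e ∈ H ⊓ E := Subgroup.mem_inf.mpr ⟨h, he⟩
      rw [hE.2.2.1, Subgroup.mem_bot] at this
      exact he1 this
    refine hK.fpf (hE.2.1 he) heH hx1 ?_
    rw [Subgroup.mem_centralizer_iff] at hx2
    exact (hx2 e rfl).symm

/-- Maximal subgroups are of Frobenius type with a maximal nilpotent kernel. -/
theorem fht_part2 (M : Subgroup G) (hM : IsCoatom M) :
    ∃ H E : Subgroup G, Group.IsNilpotent H ∧
      (∀ L : Subgroup G, Group.IsNilpotent L → H ≤ L → L = H) ∧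
      M ≤ Subgroup.normalizer (H : Set G) ∧ IsComplIn H E M ∧ H ≠ ⊥ ∧ E ≠ ⊥ ∧
      ∀ e ∈ E, e ≠ 1 → H ⊓ Subgroup.centralizer ({e} : Set G) = ⊥ := by
  obtain ⟨q, hq, Q, hQ0, hMQ⟩ := fht_coatom_eq hG hCN M hM
  haveI := hq
  obtain ⟨hK, hQK⟩ := fht_frobKer hG hCN Q hQ0
  rw [← hMQ] at hK hQK
  obtain ⟨E, hE, hE0⟩ := hK.compl
  refine ⟨fittingHallOf M, E, hK.nil, ?_, hK.norm, hE, hK.ne_bot, hE0, ?_⟩
  · intro L hL hKL
    have hLM : L ≤ M := by
      rw [hMQ]
      exact nilpotent_le_normalizer_sylow hL Q (hQK.trans hKL)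
    apply le_antisymm _ hKL
    apply hK.le_of_nilpotent hLM hL
    rw [inf_of_le_right hKL]
    exact hK.ne_bot
  · intro e he he1
    rw [eq_bot_iff]
    intro x hx
    obtain ⟨hx1, hx2⟩ := Subgroup.mem_inf.mp hx
    rw [Subgroup.mem_bot]
    have heH : e ∉ fittingHallOf M := by
      intro h
      have : e ∈ fittingHallOf M ⊓ E := Subgroup.mem_inf.mpr ⟨h, he⟩
      rw [hE.2.2.1, Subgroup.mem_bot] at this
      exact he1 this
    refine hK.fpf (hE.2.1 he) heH hx1 ?_
    rw [Subgroup.mem_centralizer_iff] at hx2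
    exact (hx2 e rfl).symm

/-- The kernels of representatives of the classes of maximal subgroups partition the primes. -/
theorem fht_partition (k : ℕ) (Mrep : Fin k → Subgroup G) (hmax : ∀ i, IsCoatom (Mrep i))
    (hnc : ∀ i j, i ≠ j → ∀ g : G, Mrep j ≠ (Mrep i).map (MulAut.conj g).toMonoidHom)
    (hall : ∀ M : Subgroup G, IsCoatom M →
      ∃ i, ∃ g : G, M = (Mrep i).map (MulAut.conj g).toMonoidHom) :
    (∀ i j, i ≠ j → (Nat.card (fittingHallOf (Mrep i))).Coprime
        (Nat.card (fittingHallOf (Mrep j)))) ∧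
      ∏ i, Nat.card (fittingHallOf (Mrep i)) = Nat.card G ∧
      ∀ x : G, ∃ i, ∃ g : G, g * x * g⁻¹ ∈ fittingHallOf (Mrep i) := by
  classical
  haveI := hG.2.1
  -- Sylow subgroups of the kernels
  have hsyl : ∀ i, ∀ r : ℕ, r.Prime → r ∣ Nat.card (fittingHallOf (Mrep i)) →
      ∃ (_ : Fact r.Prime) (R : Sylow r G),
        Subgroup.normalizer ((R : Subgroup G) : Set G) = Mrep i := by
    intro i r hr hri
    obtain ⟨q, hq, Q, hQ0, hMQ⟩ := fht_coatom_eq hG hCN (Mrep i) (hmax i)
    haveI := hq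
    haveI : Fact r.Prime := ⟨hr⟩
    obtain ⟨R, -, -, heq, -⟩ := fht_kernel_sylow hG hCN Q hQ0 (r := r) (hMQ ▸ hri)
    exact ⟨⟨hr⟩, R, heq.trans hMQ.symm⟩
  -- every Sylow subgroup has a conjugate whose normalizer is a representative
  have hrep : ∀ (r : ℕ) [Fact r.Prime] (R : Sylow r G), (R : Subgroup G) ≠ ⊥ →
      ∃ i, ∃ g : G, Subgroup.normalizer (((g • R : Sylow r G) : Subgroup G) : Set G) = Mrep i := by
    intro r _ R hR0
    obtain ⟨i, g, hig⟩ := hall _ (fht_normalizer_coatom hG hCN R hR0)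
    refine ⟨i, g⁻¹, ?_⟩
    rw [normalizer_smul_sylow, hig, Subgroup.map_map]
    have e : (MulAut.conj g⁻¹).toMonoidHom.comp (MulAut.conj g).toMonoidHom = MonoidHom.id G := by
      ext x
      simp only [MonoidHom.comp_apply, MulEquiv.coe_toMonoidHom, MulAut.conj_apply,
        MonoidHom.id_apply]
      group
    rw [e, Subgroup.map_id]
  have hcop : ∀ i j, i ≠ j → (Nat.card (fittingHallOf (Mrep i))).Coprime
      (Nat.card (fittingHallOf (Mrep j))) := by
    intro i j hij
    apply Nat.coprime_of_dvd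
    intro r hr hri hrj
    obtain ⟨hrf, Ri, hRi⟩ := hsyl i r hr hri
    obtain ⟨-, Rj, hRj⟩ := hsyl j r hr hrj
    obtain ⟨g, hg⟩ := MulAction.exists_smul_eq G Ri Rj
    apply hnc i j hij g
    rw [← hRj, ← hg, normalizer_smul_sylow, hRi]
  have hcard0 : Nat.card G ≠ 0 := Nat.card_pos.ne'
  have hprod0 : ∏ i, Nat.card (fittingHallOf (Mrep i)) ≠ 0 :=
    Finset.prod_ne_zero_iff.mpr (fun i _ => Nat.card_pos.ne')
  refine ⟨hcop, ?_, ?_⟩
  · apply Nat.dvd_antisymm
    · exact prod_dvd_of_pairwise_coprime _ _ _ (fun i _ j _ hij => hcop i j hij)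
        (fun i _ => Subgroup.card_subgroup_dvd_card _)
    · rw [← Nat.factorization_le_iff_dvd hcard0 hprod0]
      intro r
      by_cases hr : r.Prime
      · haveI : Fact r.Prime := ⟨hr⟩
        by_cases hrG : r ∣ Nat.card G
        · let R : Sylow r G := default
          have hR0 : (R : Subgroup G) ≠ ⊥ := Sylow.ne_bot_of_dvd_card R hrG
          obtain ⟨i, g, hig⟩ := hrep r R hR0
          have hR0' : ((g • R : Sylow r G) : Subgroup G) ≠ ⊥ :=
            Sylow.ne_bot_of_dvd_card _ hrG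
          obtain ⟨-, hRK⟩ := fht_frobKer hG hCN (g • R) hR0'
          rw [hig] at hRK
          have h1 : r ^ (Nat.card G).factorization r ∣ Nat.card (fittingHallOf (Mrep i)) := by
            rw [← Sylow.card_eq_multiplicity (g • R)]
            exact Subgroup.card_dvd_of_le hRK
          exact (hr.pow_dvd_iff_le_factorization hprod0).mp
            (h1.trans (Finset.dvd_prod_of_mem _ (Finset.mem_univ i)))
        · rw [Nat.factorization_eq_zero_of_not_dvd hrG]
          exact Nat.zero_le _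
      · rw [Nat.factorization_eq_zero_of_not_prime _ hr]
        exact Nat.zero_le _
  · intro x
    by_cases hx : x = 1
    · subst hx
      have hc1 : Nat.card G ≠ 1 := by
        intro e
        have := (Nat.card_eq_one_iff_unique.mp e).1
        obtain ⟨y, hy⟩ := exists_ne (1 : G)
        exact hy (Subsingleton.elim _ _)
      obtain ⟨q, hq, hqd⟩ := Nat.exists_prime_and_dvd hc1
      haveI : Fact q.Prime := ⟨hq⟩
      let Q : Sylow q G := default
      obtain ⟨i, g, -⟩ := hrep q Q (Sylow.ne_bot_of_dvd_card Q hqd)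
      exact ⟨i, 1, by simp [one_mem]⟩
    · have hX0 : Subgroup.zpowers x ≠ ⊥ := by
        intro e
        have h3 : x ∈ Subgroup.zpowers x := Subgroup.mem_zpowers x
        rw [e, Subgroup.mem_bot] at h3
        exact hx h3
      have hXtop : Subgroup.zpowers x ≠ ⊤ := fht_ne_top_of_nilpotent hG (zpowers_nilpotent x)
      obtain ⟨q, hq, Q, hQX, hXQ⟩ := fht_exists_sylow_normalizer hG hCN _ hX0 hXtop
      haveI := hq
      have hQ0 : (Q : Subgroup G) ≠ ⊥ := fun e => hQX (by rw [e, bot_inf_eq])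
      obtain ⟨i, g, hig⟩ := hrep q Q hQ0
      have hQ0' : ((g • Q : Sylow q G) : Subgroup G) ≠ ⊥ := by
        intro e
        apply hQ0
        rw [sylow_smul_coe] at e
        exact (Subgroup.map_eq_bot_iff_of_injective _ (MulAut.conj g).injective).mp e
      obtain ⟨hK, hQK⟩ := fht_frobKer hG hCN (g • Q) hQ0'
      rw [hig] at hK hQK
      refine ⟨i, g, ?_⟩
      have hxN : g * x * g⁻¹ ∈ Mrep i := by
        rw [← hig, normalizer_smul_sylow]
        exact ⟨x, hXQ (Subgroup.mem_zpowers x), rfl⟩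
      have hle : Subgroup.zpowers (g * x * g⁻¹) ≤ fittingHallOf (Mrep i) := by
        apply hK.le_of_nilpotent (Subgroup.zpowers_le.mpr hxN) (zpowers_nilpotent _)
        obtain ⟨y, hy, hy1⟩ : ∃ y ∈ (Q : Subgroup G) ⊓ Subgroup.zpowers x, y ≠ 1 := by
          by_contra hcon
          push Not at hcon
          exact hQX (eq_bot_iff.mpr (fun z hz => Subgroup.mem_bot.mpr (hcon z hz)))
        obtain ⟨hyQ, hyX⟩ := Subgroup.mem_inf.mp hy
        intro e
        have h1 : g * y * g⁻¹ ∈ Subgroup.zpowers (g * x * g⁻¹) ⊓ fittingHallOf (Mrep i) := by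
          refine Subgroup.mem_inf.mpr ⟨?_, hQK ?_⟩
          · obtain ⟨n, hn⟩ := Subgroup.mem_zpowers_iff.mp hyX
            rw [Subgroup.mem_zpowers_iff]
            exact ⟨n, by rw [← hn, conj_zpow]⟩
          · rw [sylow_smul_coe]
            exact ⟨y, hyQ, rfl⟩
        rw [e, Subgroup.mem_bot] at h1
        apply hy1
        have : y = g⁻¹ * (g * y * g⁻¹) * g := by group
        rw [this, h1]; group
      exact hle (Subgroup.mem_zpowers _)

end FHT6

end Cfsg.Agent.H31
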