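import Mathlib
import Cfsg.Prelude.Def_Characters
import Cfsg.Agent.H5.FrobKer
import Cfsg.Agent.H4.Exceptional
import Cfsg.Agent.H4.RealClasses
import Cfsg.Agent.H82.Extra

/-!
# Frobenius partitions, part 1 (helper31)

Generic facts on the class-function inner product (Bessel, a variance bound over linear
characters), conjugation of characters of a normal subgroup, induction from a Frobenius-type
kernel, and the set of linear characters.
-/

set_option autoImplicit false
set_option linter.style.haveILetI false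

namespace Cfsg.Agent.H31

open Cfsg Cfsg.Agent.H4 Cfsg.Agent.H5
open scoped ComplexConjugate
open Classical

universe u

section Basic

variable {K : Type u} [Group K] [Fintype K]

theorem classInner_self_eq (f : K → ℂ) :
    classInner f f = (((Nat.card K : ℝ)⁻¹ * ∑ y : K, Complex.normSq (f y) : ℝ) : ℂ) := by
  unfold classInner
  push_cast
  congr 1
  refine Finset.sum_congr rfl fun y _ => ?_
  rw [Complex.mul_conj]

theorem classInner_self_re (f : K → ℂ) :
    (classInner f f).re = (Nat.card K : ℝ)⁻¹ * ∑ y : K, Complex.normSq (f y) := by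
  rw [classInner_self_eq, Complex.ofReal_re]

/-- Bessel's inequality for class functions. -/
theorem bessel {ψ : K → ℂ} (hψ : IsClassFunction K ψ) (s : Finset (IrrCharacter K)) :
    ∑ χ ∈ s, Complex.normSq (classInner ψ χ.1) ≤ (classInner ψ ψ).re := by
  letI := fintypeIrr K
  have h1 : classInner ψ ψ =
      ∑ χ : IrrCharacter K, ((Complex.normSq (classInner ψ χ.1) : ℝ) : ℂ) := by
    have h0 : classInner ψ ψ = classInner ψ (∑ χ : IrrCharacter K, classInner ψ χ.1 • χ.1) := by
      conv_lhs => rhs; rw [classFunction_eq_finsum hψ, finsum_irr_eq_sum]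
    rw [h0, classInner_sum_right]
    refine Finset.sum_congr rfl fun χ _ => ?_
    rw [classInner_smul_right, Complex.normSq_eq_conj_mul_self]
  have h2 : (classInner ψ ψ).re = ∑ χ : IrrCharacter K, Complex.normSq (classInner ψ χ.1) := by
    rw [h1, ← Complex.ofReal_sum, Complex.ofReal_re]
  rw [h2]
  exact Finset.sum_le_sum_of_subset_of_nonneg (Finset.subset_univ s)
    (fun _ _ _ => Complex.normSq_nonneg _)

/-- A variance bound: the mass of `ψ` off the identity dominates the variance of its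
multiplicities over a set of linear characters. -/
theorem variance_bound (ψ : K → ℂ) (s : Finset (IrrCharacter K)) (hs1 : ∀ μ ∈ s, μ.1 1 = 1)
    (u : IrrCharacter K → ℝ) (hu : ∀ μ ∈ s, classInner ψ μ.1 = (u μ : ℂ)) (hk : 0 < s.card) :
    ∑ μ ∈ s, u μ ^ 2 - (∑ μ ∈ s, u μ) ^ 2 / s.card ≤
      (classInner ψ ψ).re - Complex.normSq (ψ 1) / Nat.card K := by
  have hkR : (0 : ℝ) < s.card := by exact_mod_cast hk
  set k : ℝ := (s.card : ℝ) with hkdef
  set m : ℝ := (∑ μ ∈ s, u μ) / k with hm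
  set φ : K → ℂ := ∑ μ ∈ s, ((u μ - m : ℝ) : ℂ) • μ.1 with hφ
  have hφ1 : φ 1 = 0 := by
    rw [hφ, Finset.sum_apply]
    have : ∀ μ ∈ s, (((u μ - m : ℝ) : ℂ) • μ.1) 1 = ((u μ - m : ℝ) : ℂ) := by
      intro μ hμ
      rw [Pi.smul_apply, hs1 μ hμ, smul_eq_mul, mul_one]
    rw [Finset.sum_congr rfl this, ← Complex.ofReal_sum, Finset.sum_sub_distrib,
      Finset.sum_const, nsmul_eq_mul, ← hkdef, hm]
    have : ∑ μ ∈ s, u μ - k * ((∑ μ ∈ s, u μ) / k) = 0 := by field_simp; ring
    rw [this, Complex.ofReal_zero]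
  have h1 : classInner ψ φ = ((∑ μ ∈ s, (u μ - m) * u μ : ℝ) : ℂ) := by
    rw [hφ, classInner_sum_right, Complex.ofReal_sum]
    refine Finset.sum_congr rfl fun μ hμ => ?_
    rw [classInner_smul_right, Complex.conj_ofReal, hu μ hμ, Complex.ofReal_mul]
  have h1' : classInner φ ψ = ((∑ μ ∈ s, (u μ - m) * u μ : ℝ) : ℂ) := by
    rw [← classInner_conj_symm, h1, Complex.conj_ofReal]
  have h2 : classInner φ φ = ((∑ μ ∈ s, (u μ - m) ^ 2 : ℝ) : ℂ) := by
    have hin : ∀ ν ∈ s, classInner φ ν.1 = ((u ν - m : ℝ) : ℂ) := by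
      intro ν hν
      rw [hφ, classInner_sum_left]
      simp only [classInner_smul_left, irr_inner]
      rw [Finset.sum_eq_single ν]
      · simp
      · intro χ _ hχ; simp [hχ]
      · intro h'; exact absurd hν h'
    conv_lhs => rhs; rw [hφ]
    rw [classInner_sum_right, Complex.ofReal_sum]
    refine Finset.sum_congr rfl fun μ hμ => ?_
    rw [classInner_smul_right, Complex.conj_ofReal, hin μ hμ, ← Complex.ofReal_mul, sq]
  have h3 : classInner (ψ - φ) (ψ - φ) =
      classInner ψ ψ - classInner ψ φ - classInner φ ψ + classInner φ φ := by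
    rw [classInner_sub_left, classInner_sub_right, classInner_sub_right]; ring
  have h4 : Complex.normSq (ψ 1) / Nat.card K ≤ (classInner (ψ - φ) (ψ - φ)).re := by
    rw [classInner_self_re]
    have hle : Complex.normSq ((ψ - φ) 1) ≤ ∑ y : K, Complex.normSq ((ψ - φ) y) :=
      Finset.single_le_sum (f := fun y => Complex.normSq ((ψ - φ) y))
        (fun _ _ => Complex.normSq_nonneg _) (Finset.mem_univ 1)
    rw [Pi.sub_apply, hφ1, sub_zero] at hle
    rw [div_eq_inv_mul]
    exact mul_le_mul_of_nonneg_left hle (inv_nonneg.mpr (Nat.cast_nonneg _))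
  have h5 : (classInner (ψ - φ) (ψ - φ)).re =
      (classInner ψ ψ).re - 2 * ∑ μ ∈ s, (u μ - m) * u μ + ∑ μ ∈ s, (u μ - m) ^ 2 := by
    rw [h3, h1, h1', h2]
    simp only [Complex.add_re, Complex.sub_re, Complex.ofReal_re]
    ring
  have h6 : 2 * ∑ μ ∈ s, (u μ - m) * u μ - ∑ μ ∈ s, (u μ - m) ^ 2 =
      ∑ μ ∈ s, u μ ^ 2 - (∑ μ ∈ s, u μ) ^ 2 / k := by
    have e1 : 2 * ∑ μ ∈ s, (u μ - m) * u μ - ∑ μ ∈ s, (u μ - m) ^ 2 =
        ∑ μ ∈ s, (u μ ^ 2 - m ^ 2) := by
      rw [Finset.mul_sum, ← Finset.sum_sub_distrib]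
      refine Finset.sum_congr rfl fun μ _ => by ring
    rw [e1, Finset.sum_sub_distrib, Finset.sum_const, nsmul_eq_mul, ← hkdef, hm]
    field_simp
  rw [h5] at h4
  rw [← h6]
  linarith

end Basic

section Conj

variable {L : Type u} [Group L] (K : Subgroup L) [K.Normal]

/-- The conjugate of an irreducible character of a normal subgroup. -/
noncomputable def irrConjBy (x : L) (μ : IrrCharacter K) : IrrCharacter K :=
  ⟨fun k => μ.1 (MulAut.conjNormal x k),
    isIrrCharacter_comp_surjective (MulAut.conjNormal x : K ≃* K).toMonoidHom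
      (MulEquiv.surjective _) μ.2⟩

theorem irrConjBy_apply (x : L) (μ : IrrCharacter K) (k : K) :
    (irrConjBy K x μ).1 k = μ.1 (MulAut.conjNormal x k) := rfl

theorem irrConjBy_one_apply (x : L) (μ : IrrCharacter K) : (irrConjBy K x μ).1 1 = μ.1 1 := by
  rw [irrConjBy_apply, map_one]

theorem irrConjBy_irrConjBy (x y : L) (μ : IrrCharacter K) :
    irrConjBy K x (irrConjBy K y μ) = irrConjBy K (y * x) μ := by
  apply Subtype.ext
  funext k
  rw [irrConjBy_apply, irrConjBy_apply, irrConjBy_apply, map_mul, MulAut.mul_apply]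

theorem irrConjBy_one (μ : IrrCharacter K) : irrConjBy K 1 μ = μ := by
  apply Subtype.ext
  funext k
  rw [irrConjBy_apply, map_one, MulAut.one_apply]

theorem irrConjBy_trivial (x : L) : irrConjBy K x (trivialIrr K) = trivialIrr K :=
  Subtype.ext rfl

theorem irrConjBy_ne_trivial (x : L) {μ : IrrCharacter K} (hμ : μ ≠ trivialIrr K) :
    irrConjBy K x μ ≠ trivialIrr K := by
  intro h
  apply hμ
  have := congrArg (irrConjBy K x⁻¹) h
  rw [irrConjBy_irrConjBy, mul_inv_cancel, irrConjBy_one, irrConjBy_trivial] at this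
  exact this

variable [Fintype L]

theorem res_indFun_normal (φ : K → ℂ) :
    (fun k : K => indFun K φ k) =
      (Nat.card K : ℂ)⁻¹ • ∑ x : L, (fun k : K => φ (MulAut.conjNormal x⁻¹ k)) := by
  funext k
  rw [indFun_apply, Pi.smul_apply, Finset.sum_apply, smul_eq_mul]
  congr 1
  refine Finset.sum_congr rfl fun x _ => ?_
  have : x⁻¹ * (k : L) * x = (MulAut.conjNormal x⁻¹ k : K) := by
    rw [MulAut.conjNormal_apply, inv_inv]
  rw [this, extendByZero_coe]

theorem classInner_indFun_indFun [Fintype K] (φ φ' : K → ℂ) :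
    classInner (indFun K φ) (indFun K φ') =
      (Nat.card K : ℂ)⁻¹ * ∑ x : L, classInner φ (fun k : K => φ' (MulAut.conjNormal x⁻¹ k)) := by
  rw [frobenius_reciprocity K φ (indFun K φ') (indFun_isClassFunction K φ'), res_indFun_normal,
    classInner_smul_right, classInner_sum_right, map_inv₀, Complex.conj_natCast]

theorem classInner_ind_irr [Fintype K] (μ ν : IrrCharacter K) :
    classInner (indFun K μ.1) (indFun K ν.1) =
      (Nat.card K : ℂ)⁻¹ * ∑ x : L, (if μ = irrConjBy K x⁻¹ ν then 1 else 0) := by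
  rw [classInner_indFun_indFun]
  congr 1
  refine Finset.sum_congr rfl fun x _ => ?_
  exact irr_inner μ (irrConjBy K x⁻¹ ν)

theorem card_div_card [Fintype K] :
    (Nat.card K : ℂ)⁻¹ * (Fintype.card L : ℂ) = (K.index : ℂ) := by
  rw [← Nat.card_eq_fintype_card, ← Subgroup.card_mul_index K]
  have hK : (Nat.card K : ℂ) ≠ 0 := by exact_mod_cast (Nat.card_pos (α := K)).ne'
  push_cast
  field_simp

theorem sum_fiber [Fintype K] (Λ : Finset (IrrCharacter K))
    (hΛ : ∀ x : L, ∀ ν ∈ Λ, irrConjBy K x ν ∈ Λ) (μ : IrrCharacter K) (hμ : μ ∈ Λ) :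
    ∑ ν ∈ Λ, classInner (indFun K ν.1) (indFun K μ.1) = (K.index : ℂ) := by
  simp only [classInner_ind_irr]
  rw [← Finset.mul_sum, Finset.sum_comm]
  have : ∀ x : L, ∑ ν ∈ Λ, (if ν = irrConjBy K x⁻¹ μ then (1 : ℂ) else 0) = 1 := by
    intro x
    rw [Finset.sum_ite_eq' Λ (irrConjBy K x⁻¹ μ) (fun _ => (1 : ℂ)), if_pos (hΛ x⁻¹ μ hμ)]
  simp only [this, Finset.sum_const, Finset.card_univ, nsmul_eq_mul, mul_one]
  exact card_div_card K

theorem card_fiber [Fintype K] (hfpf : ∀ x : L, x ∉ K → ∀ k ∈ K, x * k = k * x → k = 1)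
    (Λ : Finset (IrrCharacter K)) (hΛ : ∀ x : L, ∀ ν ∈ Λ, irrConjBy K x ν ∈ Λ)
    (hΛ1 : ∀ ν ∈ Λ, ν ≠ trivialIrr K) (μ : IrrCharacter K) (hμ : μ ∈ Λ) :
    (Λ.filter (fun ν => indFun K ν.1 = indFun K μ.1)).card = K.index := by
  have h := sum_fiber K Λ hΛ μ hμ
  have hirr : ∀ ν ∈ Λ, IsIrrCharacter L (indFun K ν.1) := fun ν hν =>
    fpf_indFun_irreducible K hfpf ν.1 ν.2 (fun h => hΛ1 ν hν (Subtype.ext h))
  have h2 : ∀ ν ∈ Λ, classInner (indFun K ν.1) (indFun K μ.1) =
      if indFun K ν.1 = indFun K μ.1 then 1 else 0 := by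
    intro ν hν
    have := irr_inner (⟨_, hirr ν hν⟩ : IrrCharacter L) ⟨_, hirr μ hμ⟩
    rw [this]
    by_cases hc : indFun K ν.1 = indFun K μ.1
    · rw [if_pos hc, if_pos (Subtype.ext hc)]
    · rw [if_neg hc, if_neg (fun h' => hc (congrArg Subtype.val h'))]
  rw [Finset.sum_congr rfl h2, Finset.sum_boole] at h
  exact_mod_cast h

theorem card_eq_index_mul [Fintype K] (hfpf : ∀ x : L, x ∉ K → ∀ k ∈ K, x * k = k * x → k = 1)
    (Λ : Finset (IrrCharacter K)) (hΛ : ∀ x : L, ∀ ν ∈ Λ, irrConjBy K x ν ∈ Λ)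
    (hΛ1 : ∀ ν ∈ Λ, ν ≠ trivialIrr K) :
    Λ.card = K.index * (Λ.image (fun ν : IrrCharacter K => indFun K ν.1)).card := by
  rw [Finset.card_eq_sum_card_image (fun ν : IrrCharacter K => indFun K ν.1) Λ]
  rw [Finset.sum_const_nat (m := K.index)]
  · ring
  · intro ζ hζ
    obtain ⟨μ, hμ, rfl⟩ := Finset.mem_image.mp hζ
    exact card_fiber K hfpf Λ hΛ hΛ1 μ hμ

end Conj

section Lin

variable (K : Type u) [Group K] [Finite K]

/-- The set of linear characters. -/
noncomputable def linSet : Finset (IrrCharacter K) :=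
  letI := fintypeIrr K
  Finset.univ.filter (fun χ : IrrCharacter K => χ.1 1 = 1)

variable {K}

theorem mem_linSet {χ : IrrCharacter K} : χ ∈ linSet K ↔ χ.1 1 = 1 := by
  letI := fintypeIrr K
  unfold linSet
  simp

variable (K)

theorem card_linSet : (linSet K).card = (commutator K).index := by
  letI := fintypeIrr K
  rw [← Cfsg.Agent.H82.card_filter_linear (G := K)]
  unfold linSet
  congr 1
  apply Finset.filter_congr
  intro χ _
  rw [Cfsg.Agent.H82.irr_one_eq_charDegree]
  exact_mod_cast Iff.rfl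

theorem trivial_mem_linSet : trivialIrr K ∈ linSet K := mem_linSet.mpr rfl

/-- The set of nonprincipal linear characters. -/
noncomputable def nlinSet : Finset (IrrCharacter K) := (linSet K).erase (trivialIrr K)

variable {K}

theorem mem_nlinSet {χ : IrrCharacter K} : χ ∈ nlinSet K ↔ χ ≠ trivialIrr K ∧ χ.1 1 = 1 := by
  unfold nlinSet
  rw [Finset.mem_erase, mem_linSet]

variable (K)

theorem card_nlinSet : (nlinSet K).card + 1 = (commutator K).index := by
  unfold nlinSet
  rw [Finset.card_erase_of_mem (trivial_mem_linSet K), card_linSet]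
  have : 0 < (commutator K).index := Nat.pos_of_ne_zero (Subgroup.index_ne_zero_of_finite)
  omega

theorem insert_nlinSet : insert (trivialIrr K) (nlinSet K) = linSet K :=
  Finset.insert_erase (trivial_mem_linSet K)

theorem card_linSet_eq : (linSet K).card = (nlinSet K).card + 1 := by
  rw [← insert_nlinSet K, Finset.card_insert_of_notMem]
  intro h
  exact (mem_nlinSet.mp h).1 rfl

theorem sum_linSet {M : Type*} [AddCommMonoid M] (f : IrrCharacter K → M) :
    ∑ ν ∈ linSet K, f ν = f (trivialIrr K) + ∑ ν ∈ nlinSet K, f ν := by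
  rw [← insert_nlinSet K, Finset.sum_insert]
  intro h
  exact (mem_nlinSet.mp h).1 rfl

theorem irrConj_mem_nlinSet {χ : IrrCharacter K} (h : χ ∈ nlinSet K) : irrConj χ ∈ nlinSet K := by
  rw [mem_nlinSet] at h ⊢
  refine ⟨fun h' => h.1 ?_, ?_⟩
  · apply Subtype.ext
    funext g
    have := congrFun (congrArg Subtype.val h') g
    change conj (χ.1 g) = 1 at this
    have h2 := congrArg conj this
    rw [Complex.conj_conj, map_one] at h2
    exact h2
  · change conj (χ.1 1) = 1
    rw [h.2, map_one]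

end Lin

section LinConj

variable {L : Type u} [Group L] [Finite L] (K : Subgroup L) [K.Normal]

theorem irrConjBy_mem_nlinSet (x : L) {ν : IrrCharacter K} (h : ν ∈ nlinSet K) :
    irrConjBy K x ν ∈ nlinSet K := by
  rw [mem_nlinSet] at h ⊢
  exact ⟨irrConjBy_ne_trivial K x h.1, by rw [irrConjBy_one_apply]; exact h.2⟩

end LinConj

end Cfsg.Agent.H31
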