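import Mathlib
import Cfsg.Prelude.Def_Characters
import Cfsg.Agent.H31.FP1
import Cfsg.Agent.H5.Coherent
import Cfsg.Agent.H82.IndDeg

/-!
# Frobenius partitions, part 2 (helper31)

Local theory of a TI Frobenius-type kernel `H` of `G` with normalizer `N`: the exceptional
characters attached to the nonprincipal linear characters of `H`, the generalized character
`β = Ind (1 - λ)`, and the bounds on the mass of irreducible characters of `G` on `H ∖ 1`.
-/

set_option autoImplicit false
set_option linter.style.haveILetI false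

namespace Cfsg.Agent.H31

open Cfsg Cfsg.Agent.H4 Cfsg.Agent.H5
open scoped ComplexConjugate
open Classical

universe u

section GLevel

variable {G : Type u} [Group G]

/-- The normalizer of `H`. -/
abbrev NN (H : Subgroup G) : Subgroup G := Subgroup.normalizer (H : Set G)

/-- `H` as a subgroup of its normalizer. -/
abbrev KK (H : Subgroup G) : Subgroup (NN H) := H.subgroupOf (NN H)

theorem card_KK (H : Subgroup G) : Nat.card (KK H) = Nat.card H :=
  Nat.card_congr (Subgroup.subgroupOfEquivOfLe Subgroup.le_normalizer).toEquiv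

/-- Restriction of a function on `G` to the kernel. -/
def resK (H : Subgroup G) (X : G → ℂ) : KK H → ℂ := fun y => X ((y : NN H) : G)

theorem resK_apply (H : Subgroup G) (X : G → ℂ) (y : KK H) : resK H X y = X ((y : NN H) : G) := rfl

theorem resK_one (H : Subgroup G) (X : G → ℂ) : resK H X 1 = X 1 := rfl

theorem isCharacter_resK (H : Subgroup G) {X : G → ℂ} (hX : IsCharacter G X) :
    IsCharacter (KK H) (resK H X) :=
  isCharacter_comp ((NN H).subtype.comp (KK H).subtype) hX

theorem irrConj_irrConj [Finite G] (χ : IrrCharacter G) : irrConj (irrConj χ) = χ := by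
  apply Subtype.ext
  funext g
  change conj (conj (χ.1 g)) = χ.1 g
  rw [Complex.conj_conj]

theorem irrConj_injective [Finite G] : Function.Injective (irrConj (G := G)) := by
  intro a b h
  rw [← irrConj_irrConj a, h, irrConj_irrConj]

theorem irrConj_trivial [Finite G] : irrConj (trivialIrr G) = trivialIrr G := by
  apply Subtype.ext
  funext g
  change conj (1 : ℂ) = 1
  rw [map_one]

theorem one_le_normSq_of_int {z : ℂ} (m : ℤ) (hz : z = m) (h0 : z ≠ 0) : 1 ≤ Complex.normSq z := by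
  subst hz
  have hm : m ≠ 0 := by rintro rfl; exact h0 (by simp)
  have h1 : (1 : ℤ) ≤ m ^ 2 := by
    have := sq_nonneg m
    have h2 : m ^ 2 ≠ 0 := pow_ne_zero 2 hm
    omega
  have : Complex.normSq (m : ℂ) = ((m ^ 2 : ℤ) : ℝ) := by
    rw [← Complex.ofReal_intCast, Complex.normSq_ofReal]; push_cast; ring
  rw [this]
  exact_mod_cast h1

variable [Fintype G] (H : Subgroup G)

theorem indFun_star (A : Subgroup G) (θ : A → ℂ) :
    (fun g => conj (indFun A θ g)) = indFun A (fun h => conj (θ h)) := by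
  funext g
  unfold indFun
  rw [map_mul, map_inv₀, Complex.conj_natCast, map_sum]
  congr 1
  refine Finset.sum_congr rfl fun x _ => ?_
  by_cases hx : x⁻¹ * g * x ∈ A
  · rw [extendByZero_of_mem A θ hx, extendByZero_of_mem A _ hx]
  · rw [extendByZero_of_not_mem A θ hx, extendByZero_of_not_mem A _ hx, map_zero]

/-- The mass of `X` on `H ∖ 1`. -/
noncomputable def offMass (X : G → ℂ) : ℝ :=
  (Nat.card H : ℝ)⁻¹ * ∑ x : G, if x ∈ H ∧ x ≠ 1 then Complex.normSq (X x) else 0

theorem offMass_eq [Fintype (KK H)] (X : G → ℂ) :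
    offMass H X =
      (classInner (resK H X) (resK H X)).re - Complex.normSq (X 1) / Nat.card (KK H) := by
  rw [classInner_self_re, card_KK]
  unfold offMass
  have h1 : ∑ y : KK H, Complex.normSq (resK H X y) =
      ∑ x : G, if x ∈ H then Complex.normSq (X x) else 0 := by
    rw [← Finset.sum_filter,
      Finset.sum_subtype (Finset.univ.filter (· ∈ H)) (p := (· ∈ H)) (by simp)
        (fun x => Complex.normSq (X x))]
    exact Fintype.sum_equiv (Subgroup.subgroupOfEquivOfLe Subgroup.le_normalizer).toEquiv _ _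
      (fun y => rfl)
  have h2 : ∑ x : G, (if x ∈ H then Complex.normSq (X x) else 0) =
      (∑ x : G, if x ∈ H ∧ x ≠ 1 then Complex.normSq (X x) else 0) + Complex.normSq (X 1) := by
    have : ∀ x : G, (if x ∈ H then Complex.normSq (X x) else 0) =
        (if x ∈ H ∧ x ≠ 1 then Complex.normSq (X x) else 0) +
          (if x = 1 then Complex.normSq (X 1) else 0) := by
      intro x
      by_cases hx : x = 1
      · subst hx
        simp [H.one_mem]
      · by_cases hxH : x ∈ H
        · simp [hx, hxH]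
        · simp [hx, hxH]
    rw [Finset.sum_congr rfl (fun x _ => this x), Finset.sum_add_distrib,
      Finset.sum_ite_eq' Finset.univ (1 : G) (fun _ => Complex.normSq (X 1)),
      if_pos (Finset.mem_univ _)]
  rw [h1, h2]
  ring

theorem isClassFunction_resN {X : G → ℂ} (hX : IsClassFunction G X) :
    IsClassFunction (NN H) (fun n : NN H => X n) :=
  fun g h => hX (g : G) (h : G)

theorem frob2 [Fintype (NN H)] [Fintype (KK H)] (φ : KK H → ℂ) {X : G → ℂ}
    (hX : IsClassFunction G X) :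
    classInner (indFun (NN H) (indFun (KK H) φ)) X = classInner φ (resK H X) := by
  rw [frobenius_reciprocity (NN H) _ X hX,
    frobenius_reciprocity (KK H) φ _ (isClassFunction_resN H hX)]
  rfl

theorem indFun_support [Fintype (NN H)] (γ : NN H → ℂ)
    (hγ : ∀ x : NN H, (x : G) ∉ H → γ x = 0) (h1 : γ 1 = 0) (x : G)
    (hx : indFun (NN H) γ x ≠ 0) : x ≠ 1 ∧ ∃ z : G, z⁻¹ * x * z ∈ H := by
  constructor
  · rintro rfl
    exact hx (indFun_one_eq_zero _ γ h1)
  · by_contra hne
    push Not at hne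
    apply hx
    rw [indFun_apply, Finset.sum_eq_zero, mul_zero]
    intro z _
    by_cases hm : z⁻¹ * x * z ∈ NN H
    · rw [extendByZero_of_mem _ _ hm]
      exact hγ _ (hne z)
    · exact extendByZero_of_not_mem _ _ hm

theorem indK_vanish [Fintype (NN H)] (φ : KK H → ℂ) (x : NN H) (hx : (x : G) ∉ H) :
    indFun (KK H) φ x = 0 :=
  indFun_normal_vanish (KK H) φ (fun hmem => hx (Subgroup.mem_subgroupOf.mp hmem))

theorem indK_one [Fintype (NN H)] (φ : KK H → ℂ) (h1 : φ 1 = 0) : indFun (KK H) φ 1 = 0 := by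
  rw [Cfsg.Agent.H82.indFun_one, h1, mul_zero]

variable (hTI : ∀ g : G, g ∉ NN H → ∀ k ∈ H, g * k * g⁻¹ ∈ H → k = 1)
  (hC : ∀ k ∈ H, k ≠ 1 → Subgroup.centralizer ({k} : Set G) ≤ H)

include hTI in
theorem inner_ind2 [Fintype (NN H)] [Fintype (KK H)] (φ φ' : KK H → ℂ) (h1 : φ 1 = 0) :
    classInner (indFun (NN H) (indFun (KK H) φ)) (indFun (NN H) (indFun (KK H) φ')) =
      classInner (indFun (KK H) φ) (indFun (KK H) φ') :=
  classInner_indFun_TI (H : Set G) hTI _ _ (indFun_isClassFunction _ _)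
    (fun x hx => indK_vanish H φ x hx) (fun x hx => indK_vanish H φ' x hx) (indK_one H φ h1)

include hTI hC in
theorem exists_Theta [Fintype (NN H)] [Fintype (KK H)]
    (Λ : Finset (IrrCharacter (KK H))) (hΛ1 : ∀ ν ∈ Λ, ν ≠ trivialIrr (KK H))
    (hΛlin : ∀ ν ∈ Λ, ν.1 1 = 1)
    (h2 : 2 ≤ (Λ.image (fun ν : IrrCharacter (KK H) => indFun (KK H) ν.1)).card) :
    ∃ (ε : ℤ) (Θ : IrrCharacter (KK H) → IrrCharacter G), (ε = 1 ∨ ε = -1) ∧
      (∀ μ ∈ Λ, ∀ ν ∈ Λ,
        indFun (NN H) (indFun (KK H) μ.1) - indFun (NN H) (indFun (KK H) ν.1) =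
          (ε : ℂ) • ((Θ μ).1 - (Θ ν).1)) ∧
      (∀ μ ∈ Λ, ∀ ν ∈ Λ, Θ μ = Θ ν ↔ indFun (KK H) μ.1 = indFun (KK H) ν.1) := by
  have hfpf := normalizer_fpf H hC
  set Z := Λ.image (fun ν : IrrCharacter (KK H) => indFun (KK H) ν.1) with hZ
  set t := Z.card with ht
  let eqv : Fin t ≃ Z := (Z.equivFin).symm
  let χ : Fin t → (NN H → ℂ) := fun a => (eqv a).1
  have hχmem : ∀ a, ∃ μ ∈ Λ, indFun (KK H) μ.1 = χ a := fun a => Finset.mem_image.mp (eqv a).2
  have hχinj : Function.Injective χ := fun a b h => eqv.injective (Subtype.ext h)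
  obtain ⟨ε, hε, θ, hθirr, hθinj, hθ⟩ := exceptional_characters (H : Set G) hTI t h2 χ
    (fun a => by
      obtain ⟨μ, hμ, h⟩ := hχmem a
      rw [← h]
      exact fpf_indFun_irreducible (KK H) hfpf μ.1 μ.2 (fun h' => hΛ1 μ hμ (Subtype.ext h')))
    hχinj
    (fun a x hx => by
      obtain ⟨μ, hμ, h⟩ := hχmem a
      rw [← h]
      exact indK_vanish H μ.1 x hx)
    (fun a b => by
      obtain ⟨μ, hμ, h⟩ := hχmem a
      obtain ⟨ν, hν, h'⟩ := hχmem b
      rw [← h, ← h', Cfsg.Agent.H82.indFun_one, Cfsg.Agent.H82.indFun_one, hΛlin μ hμ,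
        hΛlin ν hν])
  obtain ⟨ε', hε'⟩ : ∃ ε' : ℤ, (ε' = 1 ∨ ε' = -1) ∧ (ε' : ℂ) = ε := by
    rcases hε with h | h
    · exact ⟨1, Or.inl rfl, by rw [h]; simp⟩
    · exact ⟨-1, Or.inr rfl, by rw [h]; simp⟩
  have ht0 : 0 < t := by omega
  let idx : IrrCharacter (KK H) → Fin t := fun μ =>
    if h : μ ∈ Λ then eqv.symm ⟨indFun (KK H) μ.1, Finset.mem_image_of_mem _ h⟩ else ⟨0, ht0⟩
  have hidx : ∀ μ ∈ Λ, χ (idx μ) = indFun (KK H) μ.1 := by
    intro μ hμ
    simp only [idx, dif_pos hμ, χ, Equiv.apply_symm_apply]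
  refine ⟨ε', fun μ => ⟨θ (idx μ), hθirr _⟩, hε'.1, ?_, ?_⟩
  · intro μ hμ ν hν
    rw [hε'.2, ← hidx μ hμ, ← hidx ν hν]
    exact hθ _ _
  · intro μ hμ ν hν
    constructor
    · intro h
      have := hθinj (congrArg Subtype.val h)
      rw [← hidx μ hμ, ← hidx ν hν, this]
    · intro h
      apply Subtype.ext
      show θ (idx μ) = θ (idx ν)
      congr 1
      apply hχinj
      rw [hidx μ hμ, hidx ν hν, h]

end GLevel

end Cfsg.Agent.H31
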