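import Mathlib
import Cfsg.Prelude.Def_Characters
import Cfsg.Agent.H31.FP2

/-!
# Frobenius partitions, part 3 (helper31)

Consequences of the exceptional-character correspondence `Θ` for a TI Frobenius-type kernel.
-/

set_option autoImplicit false
set_option linter.style.haveILetI false

namespace Cfsg.Agent.H31

open Cfsg Cfsg.Agent.H4 Cfsg.Agent.H5
open scoped ComplexConjugate
open Classical

universe u

theorem own_arith (e t k : ℕ) (hk : k = e * t + 1) (ht : 2 ≤ t) (ε ρ : ℤ) (hε : ε = 1 ∨ ε = -1)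
    (r a : ℝ) (hρ : r - a = ρ) :
    (e : ℝ) * (k - e) / k ≤
      r ^ 2 + ((e * t : ℕ) : ℝ) * a ^ 2 + 2 * a * ε * e + e -
        (r + ((e * t : ℕ) : ℝ) * a + ε * e) ^ 2 / k := by
  have hkpos : (0 : ℝ) < k := by rw [hk]; positivity
  have hkR : (k : ℝ) = e * t + 1 := by rw [hk]; push_cast; ring
  have hr : r = a + ρ := by linarith
  have ht' : (2 : ℤ) ≤ t := by exact_mod_cast ht
  have hint : 0 ≤ (t : ℤ) * ρ ^ 2 - 2 * ε * ρ := by
    rcases hε with h | h <;> subst h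
    · rcases le_or_gt ρ 0 with h0 | h0
      · nlinarith [sq_nonneg ρ]
      · nlinarith [sq_nonneg ρ]
    · rcases le_or_gt 0 ρ with h0 | h0
      · nlinarith [sq_nonneg ρ]
      · nlinarith [sq_nonneg ρ]
  have hreal : (0 : ℝ) ≤ (t : ℝ) * (ρ : ℝ) ^ 2 - 2 * ε * ρ := by exact_mod_cast hint
  have he0 : (0 : ℝ) ≤ e := Nat.cast_nonneg e
  rw [div_le_iff₀ hkpos]
  have key : (r ^ 2 + ((e * t : ℕ) : ℝ) * a ^ 2 + 2 * a * ε * e + e -
      (r + ((e * t : ℕ) : ℝ) * a + ε * e) ^ 2 / k) * k =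
      (e : ℝ) * (k - e) + e * ((t : ℝ) * (ρ : ℝ) ^ 2 - 2 * ε * ρ) := by
    rcases hε with h | h <;> subst h
    · field_simp
      rw [hr, hkR]; push_cast; ring
    · field_simp
      rw [hr, hkR]; push_cast; ring
  rw [key]
  nlinarith [mul_nonneg he0 hreal]

theorem cross_arith (m k : ℕ) (hk : k = m + 1) (r a : ℝ) :
    (r - a) ^ 2 * m / k = r ^ 2 + (m : ℝ) * a ^ 2 - (r + (m : ℝ) * a) ^ 2 / k := by
  have hkR : (k : ℝ) = m + 1 := by rw [hk]; push_cast; ring
  have hkpos : (k : ℝ) ≠ 0 := by rw [hkR]; positivity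
  field_simp
  rw [hkR]; ring

section Ctx

variable {G : Type u} [Group G] [Fintype G] (H : Subgroup G)
  (hTI : ∀ g : G, g ∉ NN H → ∀ k ∈ H, g * k * g⁻¹ ∈ H → k = 1)
  (hC : ∀ k ∈ H, k ≠ 1 → Subgroup.centralizer ({k} : Set G) ≤ H)
  [Fintype (NN H)] [Fintype (KK H)]
  (ε : ℤ) (Θ : IrrCharacter (KK H) → IrrCharacter G) (hε : ε = 1 ∨ ε = -1)
  (hΘ : ∀ μ ∈ nlinSet (KK H), ∀ ν ∈ nlinSet (KK H),
    indFun (NN H) (indFun (KK H) μ.1) - indFun (NN H) (indFun (KK H) ν.1) =
      (ε : ℂ) • ((Θ μ).1 - (Θ ν).1))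
  (hΘeq : ∀ μ ∈ nlinSet (KK H), ∀ ν ∈ nlinSet (KK H),
    Θ μ = Θ ν ↔ indFun (KK H) μ.1 = indFun (KK H) ν.1)

include hΘ in
theorem inner_diff (X : IrrCharacter G) (μ ν : IrrCharacter (KK H))
    (hμ : μ ∈ nlinSet (KK H)) (hν : ν ∈ nlinSet (KK H)) :
    classInner (resK H X.1) μ.1 - classInner (resK H X.1) ν.1 =
      (ε : ℂ) * ((if Θ μ = X then 1 else 0) - (if Θ ν = X then 1 else 0)) := by
  rw [← classInner_sub_right, ← classInner_conj_symm,
    ← frob2 H (μ.1 - ν.1) (irr_isClassFunction X), indFun_sub, indFun_sub, hΘ μ hμ ν hν,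
    classInner_smul_left, classInner_sub_left, irr_inner, irr_inner]
  simp only [map_mul, map_sub, map_intCast]
  split_ifs <;> simp

include hC hΘeq in
theorem card_fiber_Theta (μ : IrrCharacter (KK H)) (hμ : μ ∈ nlinSet (KK H)) :
    ((nlinSet (KK H)).filter (fun ν => Θ ν = Θ μ)).card = (KK H).index := by
  rw [← card_fiber (KK H) (normalizer_fpf H hC) (nlinSet (KK H))
    (fun x ν hν => irrConjBy_mem_nlinSet (KK H) x hν) (fun ν hν => (mem_nlinSet.mp hν).1) μ hμ]
  congr 1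
  apply Finset.filter_congr
  intro ν hν
  exact hΘeq ν hν μ hμ

include hC hΘeq in
theorem card_nlin_eq :
    (nlinSet (KK H)).card = (KK H).index * ((nlinSet (KK H)).image Θ).card := by
  rw [Finset.card_eq_sum_card_image Θ (nlinSet (KK H)),
    Finset.sum_const_nat (m := (KK H).index)]
  · ring
  · intro X hX
    obtain ⟨μ, hμ, rfl⟩ := Finset.mem_image.mp hX
    exact card_fiber_Theta H hC Θ hΘeq μ hμ

theorem card_lin_eq' : (linSet (KK H)).card = (nlinSet (KK H)).card + 1 :=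
  card_linSet_eq (KK H)

theorem exists_other (h2 : 2 ≤ ((nlinSet (KK H)).image Θ).card) (μ : IrrCharacter (KK H)) :
    ∃ ν ∈ nlinSet (KK H), Θ ν ≠ Θ μ := by
  by_contra hcon
  push Not at hcon
  have hsub : ((nlinSet (KK H)).image Θ) ⊆ {Θ μ} := by
    intro X hX
    obtain ⟨ν, hν, rfl⟩ := Finset.mem_image.mp hX
    exact Finset.mem_singleton.mpr (hcon ν hν)
  have := Finset.card_le_card hsub
  rw [Finset.card_singleton] at this
  omega

theorem indind_conj (ξ : IrrCharacter (KK H)) :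
    indFun (NN H) (indFun (KK H) (irrConj ξ).1) =
      fun g => conj (indFun (NN H) (indFun (KK H) ξ.1) g) := by
  calc indFun (NN H) (indFun (KK H) (irrConj ξ).1)
      = indFun (NN H) (indFun (KK H) (fun h => conj (ξ.1 h))) := rfl
    _ = indFun (NN H) (fun n => conj (indFun (KK H) ξ.1 n)) := by rw [← indFun_star]
    _ = fun g => conj (indFun (NN H) (indFun (KK H) ξ.1) g) := by rw [← indFun_star]

include hε hΘ in
theorem Theta_conj (h2 : 2 ≤ ((nlinSet (KK H)).image Θ).card) (μ : IrrCharacter (KK H))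
    (hμ : μ ∈ nlinSet (KK H)) : Θ (irrConj μ) = irrConj (Θ μ) := by
  obtain ⟨ν, hν, hne⟩ := exists_other H Θ h2 μ
  have hμ' := irrConj_mem_nlinSet (KK H) hμ
  have hν' := irrConj_mem_nlinSet (KK H) hν
  have h1 := hΘ μ hμ ν hν
  have h2' := hΘ (irrConj μ) hμ' (irrConj ν) hν'
  have h3 : indFun (NN H) (indFun (KK H) (irrConj μ).1) -
      indFun (NN H) (indFun (KK H) (irrConj ν).1) =
        (ε : ℂ) • ((irrConj (Θ μ)).1 - (irrConj (Θ ν)).1) := by
    rw [indind_conj, indind_conj]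
    funext g
    have := congrArg conj (congrFun h1 g)
    simp only [Pi.sub_apply, Pi.smul_apply, smul_eq_mul, map_sub, map_mul,
      map_intCast] at this ⊢
    exact this
  have h4 : (ε : ℂ) • ((Θ (irrConj μ)).1 - (Θ (irrConj ν)).1) =
      (ε : ℂ) • ((irrConj (Θ μ)).1 - (irrConj (Θ ν)).1) := by rw [← h2', h3]
  have hε0 : (ε : ℂ) ≠ 0 := by rcases hε with h | h <;> simp [h]
  have h5 : (Θ (irrConj μ)).1 - (Θ (irrConj ν)).1 =
      (irrConj (Θ μ)).1 - (irrConj (Θ ν)).1 := smul_right_injective _ hε0 h4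
  have h6 := congrArg (fun f => classInner f (irrConj (Θ μ)).1) h5
  simp only [classInner_sub_left, irr_inner] at h6
  have hne' : irrConj (Θ ν) ≠ irrConj (Θ μ) := fun h => hne (irrConj_injective h)
  rw [if_pos trivial, if_neg hne'] at h6
  by_contra hcon
  rw [if_neg hcon] at h6
  split_ifs at h6 <;> norm_num at h6

include hC hε hΘ hΘeq in
theorem own_bound (h2 : 2 ≤ ((nlinSet (KK H)).image Θ).card) (X : IrrCharacter G)
    (hX : X ∈ (nlinSet (KK H)).image Θ) :
    ((KK H).index : ℝ) * (((linSet (KK H)).card : ℝ) - (KK H).index) / (linSet (KK H)).card ≤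
      offMass H X.1 := by
  obtain ⟨μ₀, hμ₀, rfl⟩ := Finset.mem_image.mp hX
  set ψ := resK H (Θ μ₀).1 with hψ
  have hψc : IsCharacter (KK H) ψ := isCharacter_resK H (isCharacter_of_isIrrCharacter (Θ μ₀).2)
  choose n hn using fun ν : IrrCharacter (KK H) =>
    classInner_isCharacter_nat hψc (isCharacter_of_isIrrCharacter ν.2)
  set a : ℝ := (n μ₀ : ℝ) - ε with ha
  have hdiff : ∀ ν ∈ nlinSet (KK H),
      (n ν : ℝ) = a + ε * (if Θ ν = Θ μ₀ then 1 else 0) := by
    intro ν hν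
    have h := inner_diff H ε Θ hΘ (Θ μ₀) ν μ₀ hν hμ₀
    rw [← hψ, hn, hn, if_pos rfl] at h
    have h' : ((n ν : ℝ) : ℂ) =
        ((a + ε * (if Θ ν = Θ μ₀ then 1 else 0) : ℝ) : ℂ) := by
      rw [ha]
      split_ifs with hc
      · rw [if_pos hc] at h; push_cast; linear_combination h
      · rw [if_neg hc] at h; push_cast; linear_combination h
    exact_mod_cast h'
  have hvar := variance_bound ψ (linSet (KK H)) (fun μ hμ => mem_linSet.mp hμ)
    (fun ν => (n ν : ℝ)) (fun ν _ => by rw [hn]; norm_cast)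
    (Finset.card_pos.mpr ⟨_, trivial_mem_linSet _⟩)
  rw [offMass_eq]
  refine le_trans ?_ hvar
  have hnot : trivialIrr (KK H) ∉ nlinSet (KK H) := fun h => (mem_nlinSet.mp h).1 rfl
  have hfib := card_fiber_Theta H hC Θ hΘeq μ₀ hμ₀
  have hS1 : ∑ ν ∈ nlinSet (KK H), (n ν : ℝ) =
      ((nlinSet (KK H)).card : ℝ) * a + ε * (KK H).index := by
    rw [Finset.sum_congr rfl hdiff, Finset.sum_add_distrib, Finset.sum_const, nsmul_eq_mul,
      ← Finset.mul_sum, Finset.sum_boole, hfib]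
  have hε2 : (ε : ℝ) ^ 2 = 1 := by rcases hε with h | h <;> simp [h]
  have hS2 : ∑ ν ∈ nlinSet (KK H), (n ν : ℝ) ^ 2 =
      ((nlinSet (KK H)).card : ℝ) * a ^ 2 + 2 * a * ε * (KK H).index + (KK H).index := by
    have hterm : ∀ ν ∈ nlinSet (KK H), (n ν : ℝ) ^ 2 =
        a ^ 2 + (2 * a * ε + 1) * (if Θ ν = Θ μ₀ then 1 else 0) := by
      intro ν hν
      rw [hdiff ν hν]
      split_ifs
      · linear_combination hε2
      · ring
    rw [Finset.sum_congr rfl hterm, Finset.sum_add_distrib, Finset.sum_const, nsmul_eq_mul,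
      ← Finset.mul_sum, Finset.sum_boole, hfib]
    ring
  rw [sum_linSet, sum_linSet, hS1, hS2]
  have hcard := card_nlin_eq H hC Θ hΘeq
  have hk := card_lin_eq' H
  rw [hcard] at hk
  have hρ : (n (trivialIrr (KK H)) : ℝ) - a = ((n (trivialIrr (KK H)) : ℤ) - n μ₀ + ε : ℤ) := by
    rw [ha]; push_cast; ring
  have := own_arith (KK H).index ((nlinSet (KK H)).image Θ).card (linSet (KK H)).card hk h2 ε
    _ hε (n (trivialIrr (KK H)) : ℝ) a hρ
  rw [hcard]
  refine le_trans this (le_of_eq ?_)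
  ring

include hC hΘ hΘeq in
theorem cross_bound (X : IrrCharacter G) (hX : X ∉ (nlinSet (KK H)).image Θ)
    (lam : IrrCharacter (KK H)) (hlam : lam ∈ nlinSet (KK H)) :
    ∃ c : ℤ, classInner X.1
        (indFun (NN H) (indFun (KK H) ((trivialIrr (KK H)).1 - lam.1))) = c ∧
      (c : ℝ) ^ 2 * ((nlinSet (KK H)).card : ℝ) / (linSet (KK H)).card ≤ offMass H X.1 := by
  set ψ := resK H X.1 with hψ
  have hψc : IsCharacter (KK H) ψ := isCharacter_resK H (isCharacter_of_isIrrCharacter X.2)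
  choose n hn using fun ν : IrrCharacter (KK H) =>
    classInner_isCharacter_nat hψc (isCharacter_of_isIrrCharacter ν.2)
  have hconst : ∀ ν ∈ nlinSet (KK H), (n ν : ℝ) = n lam := by
    intro ν hν
    have h := inner_diff H ε Θ hΘ X ν lam hν hlam
    rw [if_neg (fun h' => hX (Finset.mem_image.mpr ⟨ν, hν, h'⟩)),
      if_neg (fun h' => hX (Finset.mem_image.mpr ⟨lam, hlam, h'⟩)), sub_self, mul_zero, ← hψ,
      hn, hn] at h
    have : (n ν : ℂ) = n lam := sub_eq_zero.mp h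
    exact_mod_cast this
  refine ⟨(n (trivialIrr (KK H)) : ℤ) - n lam, ?_, ?_⟩
  · rw [← classInner_conj_symm, frob2 H _ (irr_isClassFunction X), classInner_conj_symm, ← hψ,
      classInner_sub_right, hn, hn]
    push_cast
    rfl
  · have hvar := variance_bound ψ (linSet (KK H)) (fun μ hμ => mem_linSet.mp hμ)
      (fun ν => (n ν : ℝ)) (fun ν _ => by rw [hn]; norm_cast)
      (Finset.card_pos.mpr ⟨_, trivial_mem_linSet _⟩)
    rw [offMass_eq]
    refine le_trans ?_ hvar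
    have hnot : trivialIrr (KK H) ∉ nlinSet (KK H) := fun h => (mem_nlinSet.mp h).1 rfl
    have hS1 : ∑ ν ∈ nlinSet (KK H), (n ν : ℝ) = ((nlinSet (KK H)).card : ℝ) * n lam := by
      rw [Finset.sum_congr rfl hconst, Finset.sum_const, nsmul_eq_mul]
    have hS2 : ∑ ν ∈ nlinSet (KK H), (n ν : ℝ) ^ 2 =
        ((nlinSet (KK H)).card : ℝ) * (n lam : ℝ) ^ 2 := by
      rw [Finset.sum_congr rfl (fun ν hν => by rw [hconst ν hν]), Finset.sum_const, nsmul_eq_mul]
    rw [sum_linSet, sum_linSet, hS1, hS2]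
    have := cross_arith (nlinSet (KK H)).card (linSet (KK H)).card (card_lin_eq' H)
      (n (trivialIrr (KK H)) : ℝ) (n lam : ℝ)
    push_cast
    rw [this]

end Ctx

end Cfsg.Agent.H31
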