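import Mathlib
import Cfsg.Prelude.Def_Characters
import Cfsg.Agent.H31.FP3

/-!
# Frobenius partitions, part 4 (helper31)

The generalized character `β = Ind (1 - λ)` and the package of local data attached to a TI
Frobenius-type kernel.
-/

set_option autoImplicit false
set_option linter.style.haveILetI false

namespace Cfsg.Agent.H31

open Cfsg Cfsg.Agent.H4 Cfsg.Agent.H5
open scoped ComplexConjugate
open Classical

universe u

/-- The local data attached to a TI Frobenius-type kernel `H` of `G`. -/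
structure FrobPkg {G : Type u} [Group G] [Fintype G] (H : Subgroup G) where
  e : ℕ
  t : ℕ
  k : ℕ
  fam : Finset (IrrCharacter G)
  ε : ℤ
  β : G → ℂ
  X₀ : IrrCharacter G
  card_norm : Nat.card (NN H) = Nat.card H * e
  hk : k = e * t + 1
  k_dvd : k ∣ Nat.card H
  ht : 2 ≤ t
  card_fam : fam.card = t
  X₀_mem : X₀ ∈ fam
  hε : ε = 1 ∨ ε = -1
  triv_not_mem : trivialIrr G ∉ fam
  supp_fam : ∀ X ∈ fam, ∀ X' ∈ fam, ∀ x, X.1 x - X'.1 x ≠ 0 → x ≠ 1 ∧ ∃ z : G, z⁻¹ * x * z ∈ H
  supp_β : ∀ x, β x ≠ 0 → x ≠ 1 ∧ ∃ z : G, z⁻¹ * x * z ∈ H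
  gen_β : ∃ Φ Ψ : G → ℂ, IsCharacter G Φ ∧ IsCharacter G Ψ ∧ β = Φ - Ψ
  β_triv : classInner β (trivialIrr G).1 = 1
  β_norm : classInner β β = (e : ℂ) + 1
  β_fam : ∃ X ∈ fam, 1 ≤ Complex.normSq (classInner β X.1)
  own : ∀ X ∈ fam, (e : ℝ) * ((k : ℝ) - e) / k ≤ offMass H X.1
  cross : ∀ X : IrrCharacter G, X ∉ fam → ∃ c : ℤ, classInner X.1 β = c ∧
    (c : ℝ) ^ 2 * ((e * t : ℕ) : ℝ) / k ≤ offMass H X.1
  real : ∀ x, conj (β x + (ε : ℂ) * X₀.1 x) = β x + (ε : ℂ) * X₀.1 x

section Ctx2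

variable {G : Type u} [Group G] [Fintype G] (H : Subgroup G)
  (hTI : ∀ g : G, g ∉ NN H → ∀ k ∈ H, g * k * g⁻¹ ∈ H → k = 1)
  (hC : ∀ k ∈ H, k ≠ 1 → Subgroup.centralizer ({k} : Set G) ≤ H)
  [Fintype (NN H)] [Fintype (KK H)]
  (ε : ℤ) (Θ : IrrCharacter (KK H) → IrrCharacter G) (hε : ε = 1 ∨ ε = -1)
  (hΘ : ∀ μ ∈ nlinSet (KK H), ∀ ν ∈ nlinSet (KK H),
    indFun (NN H) (indFun (KK H) μ.1) - indFun (NN H) (indFun (KK H) ν.1) =
      (ε : ℂ) • ((Θ μ).1 - (Θ ν).1))
  (hΘeq : ∀ μ ∈ nlinSet (KK H), ∀ ν ∈ nlinSet (KK H),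
    Θ μ = Θ ν ↔ indFun (KK H) μ.1 = indFun (KK H) ν.1)
  (lam : IrrCharacter (KK H)) (hlam : lam ∈ nlinSet (KK H))

/-- The generalized character `Ind (1 - λ)`. -/
noncomputable def betaF : G → ℂ :=
  indFun (NN H) (indFun (KK H) ((trivialIrr (KK H)).1 - lam.1))

theorem betaF_eq : betaF H lam = indFun (NN H) (indFun (KK H) (trivialIrr (KK H)).1) -
    indFun (NN H) (indFun (KK H) lam.1) := by
  unfold betaF
  rw [indFun_sub, indFun_sub]

theorem betaF_gen : ∃ Φ Ψ : G → ℂ, IsCharacter G Φ ∧ IsCharacter G Ψ ∧ betaF H lam = Φ - Ψ :=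
  ⟨_, _, isCharacter_indFun _ _ (isCharacter_indFun _ _
      (isCharacter_of_isIrrCharacter (trivialIrr (KK H)).2)),
    isCharacter_indFun _ _ (isCharacter_indFun _ _ (isCharacter_of_isIrrCharacter lam.2)),
    betaF_eq H lam⟩

include hlam in
theorem sub_lam_one : ((trivialIrr (KK H)).1 - lam.1) 1 = 0 := by
  rw [Pi.sub_apply, (mem_nlinSet.mp hlam).2]
  exact sub_self 1

include hlam in
theorem betaF_triv : classInner (betaF H lam) (trivialIrr G).1 = 1 := by
  unfold betaF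
  rw [frob2 H _ (irr_isClassFunction (trivialIrr G))]
  have : resK H (trivialIrr G).1 = (trivialIrr (KK H)).1 := rfl
  rw [this, classInner_sub_left, irr_inner_self, irr_inner_ne (mem_nlinSet.mp hlam).1, sub_zero]

theorem ind_triv_triv : classInner (indFun (KK H) (trivialIrr (KK H)).1)
    (indFun (KK H) (trivialIrr (KK H)).1) = ((KK H).index : ℂ) := by
  rw [classInner_ind_irr]
  simp only [irrConjBy_trivial, if_true, Finset.sum_const, Finset.card_univ, nsmul_eq_mul,
    mul_one]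
  exact card_div_card (KK H)

theorem ind_triv_nlin (ν : IrrCharacter (KK H)) (hν : ν ∈ nlinSet (KK H)) :
    classInner (indFun (KK H) (trivialIrr (KK H)).1) (indFun (KK H) ν.1) = 0 := by
  rw [classInner_ind_irr]
  have : ∀ x : NN H,
      (if trivialIrr (KK H) = irrConjBy (KK H) x⁻¹ ν then (1 : ℂ) else 0) = 0 := by
    intro x
    rw [if_neg]
    intro h
    exact irrConjBy_ne_trivial (KK H) x⁻¹ (mem_nlinSet.mp hν).1 h.symm
  simp only [this, Finset.sum_const_zero, mul_zero]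

theorem ind_nlin_triv (ν : IrrCharacter (KK H)) (hν : ν ∈ nlinSet (KK H)) :
    classInner (indFun (KK H) ν.1) (indFun (KK H) (trivialIrr (KK H)).1) = 0 := by
  rw [← classInner_conj_symm, ind_triv_nlin H ν hν, map_zero]

include hC in
theorem ind_nlin_irr (ν : IrrCharacter (KK H)) (hν : ν ∈ nlinSet (KK H)) :
    IsIrrCharacter (NN H) (indFun (KK H) ν.1) :=
  fpf_indFun_irreducible (KK H) (normalizer_fpf H hC) ν.1 ν.2
    (fun h => (mem_nlinSet.mp hν).1 (Subtype.ext h))

include hTI hC hlam in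
theorem betaF_norm : classInner (betaF H lam) (betaF H lam) = ((KK H).index : ℂ) + 1 := by
  unfold betaF
  rw [inner_ind2 H hTI _ _ (sub_lam_one H lam hlam), indFun_sub, classInner_sub_left,
    classInner_sub_right, classInner_sub_right, ind_triv_triv, ind_triv_nlin H lam hlam,
    ind_nlin_triv H lam hlam]
  have := irr_inner_self (⟨_, ind_nlin_irr H hC lam hlam⟩ : IrrCharacter (NN H))
  rw [this]
  ring

include hTI hC hΘ hΘeq hlam in
theorem betaF_fam (h2 : 2 ≤ ((nlinSet (KK H)).image Θ).card) :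
    ∃ X ∈ (nlinSet (KK H)).image Θ, 1 ≤ Complex.normSq (classInner (betaF H lam) X.1) := by
  obtain ⟨ν, hν, hne⟩ := exists_other H Θ h2 lam
  have hint : ∀ X : IrrCharacter G, ∃ m : ℤ, classInner (betaF H lam) X.1 = m := by
    intro X
    obtain ⟨Φ, Ψ, hΦ, hΨ, he⟩ := betaF_gen H lam
    obtain ⟨n1, h1⟩ := classInner_isCharacter_nat hΦ (isCharacter_of_isIrrCharacter X.2)
    obtain ⟨n2, h2⟩ := classInner_isCharacter_nat hΨ (isCharacter_of_isIrrCharacter X.2)
    exact ⟨(n1 : ℤ) - n2, by rw [he, classInner_sub_left, h1, h2]; push_cast; rfl⟩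
  have hkey : classInner (betaF H lam) ((ε : ℂ) • ((Θ lam).1 - (Θ ν).1)) = -1 := by
    rw [← hΘ lam hlam ν hν, ← indFun_sub, ← indFun_sub]
    unfold betaF
    rw [inner_ind2 H hTI _ _ (sub_lam_one H lam hlam), indFun_sub, indFun_sub,
      classInner_sub_left, classInner_sub_right, classInner_sub_right,
      ind_triv_nlin H lam hlam, ind_triv_nlin H ν hν]
    have h1 := irr_inner_self (⟨_, ind_nlin_irr H hC lam hlam⟩ : IrrCharacter (NN H))
    have h2 := irr_inner_ne (χ := (⟨_, ind_nlin_irr H hC lam hlam⟩ : IrrCharacter (NN H)))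
      (ψ := ⟨_, ind_nlin_irr H hC ν hν⟩)
      (fun h => hne ((hΘeq ν hν lam hlam).mpr (congrArg Subtype.val h).symm))
    rw [h1, h2]
    ring
  rw [classInner_smul_right, classInner_sub_right] at hkey
  by_contra hcon
  push Not at hcon
  have z1 : classInner (betaF H lam) (Θ lam).1 = 0 := by
    by_contra h0
    obtain ⟨m, hm⟩ := hint (Θ lam)
    exact absurd (one_le_normSq_of_int m hm h0)
      (not_le.mpr (hcon _ (Finset.mem_image_of_mem _ hlam)))
  have z2 : classInner (betaF H lam) (Θ ν).1 = 0 := by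
    by_contra h0
    obtain ⟨m, hm⟩ := hint (Θ ν)
    exact absurd (one_le_normSq_of_int m hm h0)
      (not_le.mpr (hcon _ (Finset.mem_image_of_mem _ hν)))
  rw [z1, z2, sub_zero, mul_zero] at hkey
  norm_num at hkey

include hlam in
theorem betaF_supp (x : G) (hx : betaF H lam x ≠ 0) : x ≠ 1 ∧ ∃ z : G, z⁻¹ * x * z ∈ H :=
  indFun_support H _ (fun y hy => indK_vanish H _ y hy) (indK_one H _ (sub_lam_one H lam hlam))
    x hx

include hε hΘ in
theorem fam_supp (μ ν : IrrCharacter (KK H)) (hμ : μ ∈ nlinSet (KK H))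
    (hν : ν ∈ nlinSet (KK H)) (x : G) (hx : (Θ μ).1 x - (Θ ν).1 x ≠ 0) :
    x ≠ 1 ∧ ∃ z : G, z⁻¹ * x * z ∈ H := by
  have h := hΘ μ hμ ν hν
  rw [← indFun_sub, ← indFun_sub] at h
  have hε0 : (ε : ℂ) ≠ 0 := by rcases hε with h | h <;> simp [h]
  apply indFun_support H (indFun (KK H) (μ.1 - ν.1)) (fun y hy => indK_vanish H _ y hy)
    (indK_one H _ (by
      rw [Pi.sub_apply, (mem_nlinSet.mp hμ).2, (mem_nlinSet.mp hν).2, sub_self])) x
  rw [h, Pi.smul_apply, Pi.sub_apply, smul_eq_mul]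
  exact mul_ne_zero hε0 hx

include hε hΘ in
theorem triv_not_mem_fam (h2 : 2 ≤ ((nlinSet (KK H)).image Θ).card) :
    trivialIrr G ∉ (nlinSet (KK H)).image Θ := by
  intro hmem
  obtain ⟨μ, hμ, hμe⟩ := Finset.mem_image.mp hmem
  obtain ⟨ν, hν, hne⟩ := exists_other H Θ h2 μ
  have h := hΘ μ hμ ν hν
  have h' : classInner (indFun (NN H) (indFun (KK H) μ.1) - indFun (NN H) (indFun (KK H) ν.1))
      (trivialIrr G).1 = classInner ((ε : ℂ) • ((Θ μ).1 - (Θ ν).1)) (trivialIrr G).1 := by rw [h]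
  rw [← indFun_sub, ← indFun_sub, frob2 H _ (irr_isClassFunction (trivialIrr G))] at h'
  have hres : resK H (trivialIrr G).1 = (trivialIrr (KK H)).1 := rfl
  have hne' : Θ ν ≠ trivialIrr G := fun h => hne (h.trans hμe.symm)
  rw [hres, classInner_sub_left, irr_inner_ne (mem_nlinSet.mp hμ).1,
    irr_inner_ne (mem_nlinSet.mp hν).1, sub_zero, classInner_smul_left, classInner_sub_left,
    irr_inner, irr_inner, if_pos hμe, if_neg hne'] at h'
  rcases hε with h | h <;> simp [h] at h'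

include hε hΘ hlam in
theorem betaF_real (h2 : 2 ≤ ((nlinSet (KK H)).image Θ).card) (x : G) :
    conj (betaF H lam x + (ε : ℂ) * (Θ lam).1 x) = betaF H lam x + (ε : ℂ) * (Θ lam).1 x := by
  have hc := Theta_conj H ε Θ hε hΘ h2 lam hlam
  have hlam' := irrConj_mem_nlinSet (KK H) hlam
  have h := hΘ (irrConj lam) hlam' lam hlam
  rw [hc] at h
  have hβc : conj (betaF H lam x) = indFun (NN H) (indFun (KK H) (trivialIrr (KK H)).1) x -
      indFun (NN H) (indFun (KK H) (irrConj lam).1) x := by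
    rw [betaF_eq, Pi.sub_apply, map_sub]
    have e1 := congrFun (indind_conj H (trivialIrr (KK H))) x
    have e2 := congrFun (indind_conj H lam) x
    rw [irrConj_trivial] at e1
    rw [← e1, ← e2]
  have hx := congrFun h x
  simp only [Pi.sub_apply, Pi.smul_apply, smul_eq_mul] at hx
  have hcx : (irrConj (Θ lam)).1 x = conj ((Θ lam).1 x) := rfl
  rw [map_add, map_mul, map_intCast, hβc, ← hcx, betaF_eq, Pi.sub_apply]
  linear_combination (-1 : ℂ) * hx

end Ctx2

theorem exists_frobPkg {G : Type u} [Group G] [Fintype G] (hodd : Odd (Nat.card G))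
    (H : Subgroup G)
    (hTI : ∀ g : G, g ∉ NN H → ∀ k ∈ H, g * k * g⁻¹ ∈ H → k = 1)
    (hC : ∀ k ∈ H, k ≠ 1 → Subgroup.centralizer ({k} : Set G) ≤ H)
    (hcomm : commutator (KK H) ≠ ⊤) : Nonempty (FrobPkg H) := by
  haveI : Fintype (NN H) := Fintype.ofFinite _
  haveI : Fintype (KK H) := Fintype.ofFinite _
  have hcardN : Nat.card (NN H) = Nat.card H * (KK H).index := by
    rw [← card_KK H]
    exact (Subgroup.card_mul_index (KK H)).symm
  have hk1 : (nlinSet (KK H)).card + 1 = (commutator (KK H)).index := card_nlinSet (KK H)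
  have hkdvd : (commutator (KK H)).index ∣ Nat.card H := by
    rw [← card_KK H]
    exact Subgroup.index_dvd_card _
  have hHdvd : Nat.card H ∣ Nat.card G := Subgroup.card_subgroup_dvd_card H
  have hkodd : Odd (commutator (KK H)).index := hodd.of_dvd_nat (hkdvd.trans hHdvd)
  have heodd : Odd (KK H).index := by
    apply hodd.of_dvd_nat
    have h1 : (KK H).index ∣ Nat.card (NN H) := Subgroup.index_dvd_card _
    exact h1.trans (Subgroup.card_subgroup_dvd_card (NN H))
  have hkne1 : (commutator (KK H)).index ≠ 1 := by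
    rw [Ne, Subgroup.index_eq_one]
    exact hcomm
  have hZ := card_eq_index_mul (KK H) (normalizer_fpf H hC) (nlinSet (KK H))
    (fun x ν hν => irrConjBy_mem_nlinSet (KK H) x hν) (fun ν hν => (mem_nlinSet.mp hν).1)
  have hΛpos : 0 < (nlinSet (KK H)).card := by
    have : 0 < (commutator (KK H)).index := Nat.pos_of_ne_zero Subgroup.index_ne_zero_of_finite
    omega
  have hΛeven : Even (nlinSet (KK H)).card := by
    rcases hkodd with ⟨m, hm⟩
    exact ⟨m, by omega⟩
  have he0 : 0 < (KK H).index := heodd.pos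
  have h2Z : 2 ≤ ((nlinSet (KK H)).image
      (fun ν : IrrCharacter (KK H) => indFun (KK H) ν.1)).card := by
    rw [hZ] at hΛeven hΛpos
    have hev : Even ((nlinSet (KK H)).image
        (fun ν : IrrCharacter (KK H) => indFun (KK H) ν.1)).card := by
      rcases Nat.even_mul.mp hΛeven with h | h
      · exact absurd h (Nat.not_even_iff_odd.mpr heodd)
      · exact h
    have htpos := Nat.pos_of_mul_pos_left hΛpos
    rcases hev with ⟨m, hm⟩
    omega
  obtain ⟨ε, Θ, hε, hΘ, hΘeq⟩ := exists_Theta H hTI hC (nlinSet (KK H))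
    (fun ν hν => (mem_nlinSet.mp hν).1) (fun ν hν => (mem_nlinSet.mp hν).2) h2Z
  have hcardΛ := card_nlin_eq H hC Θ hΘeq
  have h2 : 2 ≤ ((nlinSet (KK H)).image Θ).card := by
    have h3 : (KK H).index * ((nlinSet (KK H)).image Θ).card = (KK H).index *
        ((nlinSet (KK H)).image (fun ν : IrrCharacter (KK H) => indFun (KK H) ν.1)).card := by
      rw [← hcardΛ, ← hZ]
    have := Nat.eq_of_mul_eq_mul_left he0 h3
    omega
  obtain ⟨lam, hlam⟩ : ∃ lam, lam ∈ nlinSet (KK H) := Finset.card_pos.mp hΛpos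
  exact ⟨{
    e := (KK H).index
    t := ((nlinSet (KK H)).image Θ).card
    k := (linSet (KK H)).card
    fam := (nlinSet (KK H)).image Θ
    ε := ε
    β := betaF H lam
    X₀ := Θ lam
    card_norm := hcardN
    hk := by rw [card_lin_eq' H, hcardΛ]
    k_dvd := by rw [card_linSet]; exact hkdvd
    ht := h2
    card_fam := rfl
    X₀_mem := Finset.mem_image_of_mem _ hlam
    hε := hε
    triv_not_mem := triv_not_mem_fam H ε Θ hε hΘ h2
    supp_fam := by
      intro X hX X' hX' x hx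
      obtain ⟨μ, hμ, rfl⟩ := Finset.mem_image.mp hX
      obtain ⟨ν, hν, rfl⟩ := Finset.mem_image.mp hX'
      exact fam_supp H ε Θ hε hΘ μ ν hμ hν x hx
    supp_β := betaF_supp H lam hlam
    gen_β := betaF_gen H lam
    β_triv := betaF_triv H lam hlam
    β_norm := betaF_norm H hTI hC lam hlam
    β_fam := betaF_fam H hTI hC ε Θ hΘ hΘeq lam hlam h2
    own := fun X hX => own_bound H hC ε Θ hε hΘ hΘeq h2 X hX
    cross := fun X hX => by
      obtain ⟨c, hc1, hc2⟩ := cross_bound H hC ε Θ hΘ hΘeq X hX lam hlam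
      exact ⟨c, hc1, by rw [← hcardΛ]; exact hc2⟩
    real := betaF_real H ε Θ hε hΘ lam hlam h2 }⟩

end Cfsg.Agent.H31
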