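import Mathlib

/-!
# Frobenius partitions, part 5 (helper31): the arithmetic endgame
-/

set_option autoImplicit false

namespace Cfsg.Agent.H31

theorem frob_numeric_aux {ι : Type*} [Fintype ι] [DecidableEq ι] (e t k : ι → ℕ)
    (c : ι → ι → ℤ) (hk : ∀ i, k i = e i * t i + 1) (he : ∀ i, 0 < e i) (ht : ∀ i, 0 < t i)
    (hpar : ∀ i j, i ≠ j → c i j = 0 → c j i ≠ 0) (i : ι)
    (hrow : ∑ j ∈ Finset.univ.erase i, ((c i j : ℝ)) ^ 2 * (t j : ℝ) / (k j : ℝ) ≤
      (e i : ℝ) / (k i : ℝ))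
    (hcol : ∑ j ∈ Finset.univ.erase i, (t j : ℝ) * (c j i : ℝ) ^ 2 ≤ (e i : ℝ) - 1)
    (M M' : ℝ) (hM : 0 < M) (hM' : 0 < M')
    (hZ : ∀ j, j ≠ i → c i j ≠ 0 → M ≤ (e j : ℝ) * t j)
    (hO : ∀ j, j ≠ i → c i j = 0 → M' ≤ (e j : ℝ) * t j) :
    ∑ j ∈ Finset.univ.erase i, (1 : ℝ) / (e j : ℝ) ≤
      (1 + 1 / M) * ((e i : ℝ) / (k i : ℝ)) + ((e i : ℝ) - 1) / M' := by
  classical
  set S := Finset.univ.erase i with hS
  have hsplit : ∑ j ∈ S, (1 : ℝ) / e j =
      ∑ j ∈ S.filter (fun j => c i j ≠ 0), (1 : ℝ) / e j +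
        ∑ j ∈ S.filter (fun j => ¬ c i j ≠ 0), (1 : ℝ) / e j :=
    (Finset.sum_filter_add_sum_filter_not S _ _).symm
  have hsq : ∀ z : ℤ, z ≠ 0 → (1 : ℝ) ≤ (z : ℝ) ^ 2 := by
    intro z hz
    have h1 : (1 : ℤ) ≤ z ^ 2 := by
      have := sq_nonneg z
      have := pow_ne_zero 2 hz
      omega
    exact_mod_cast h1
  have hEpos : ∀ j, (0 : ℝ) < e j := fun j => by exact_mod_cast he j
  have hTpos : ∀ j, (0 : ℝ) < t j := fun j => by exact_mod_cast ht j
  have hKeq : ∀ j, (k j : ℝ) = e j * t j + 1 := fun j => by rw [hk j]; push_cast; ring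
  have hKpos : ∀ j, (0 : ℝ) < k j := fun j => by
    rw [hKeq j]
    have := mul_pos (hEpos j) (hTpos j)
    linarith
  have hM1 : (0 : ℝ) ≤ 1 + 1 / M := by positivity
  have hZsum : ∑ j ∈ S.filter (fun j => c i j ≠ 0), (1 : ℝ) / e j ≤
      (1 + 1 / M) * ∑ j ∈ S, ((c i j : ℝ)) ^ 2 * t j / k j := by
    rw [Finset.mul_sum]
    have hterm : ∀ j ∈ S.filter (fun j => c i j ≠ 0), (1 : ℝ) / e j ≤
        (1 + 1 / M) * ((c i j : ℝ) ^ 2 * t j / k j) := by
      intro j hj
      obtain ⟨hjS, hcj⟩ := Finset.mem_filter.mp hj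
      have hji : j ≠ i := Finset.ne_of_mem_erase hjS
      have hm := hZ j hji hcj
      have hc1 := hsq (c i j) hcj
      have hE := hEpos j
      have hT := hTpos j
      have hKj := hKpos j
      have hET : (0 : ℝ) < e j * t j := mul_pos hE hT
      have h1 : (1 : ℝ) / e j = (1 + 1 / ((e j : ℝ) * t j)) * ((t j : ℝ) / k j) := by
        rw [hKeq j]
        field_simp
      have h2 : 1 + 1 / ((e j : ℝ) * t j) ≤ 1 + 1 / M := by
        have := one_div_le_one_div_of_le hM hm
        linarith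
      have h3 : (t j : ℝ) / k j ≤ (c i j : ℝ) ^ 2 * t j / k j := by
        rw [mul_div_assoc]
        have : (0 : ℝ) ≤ (t j : ℝ) / k j := by positivity
        nlinarith
      rw [h1]
      exact mul_le_mul h2 h3 (by positivity) hM1
    calc ∑ j ∈ S.filter (fun j => c i j ≠ 0), (1 : ℝ) / e j
        ≤ ∑ j ∈ S.filter (fun j => c i j ≠ 0), (1 + 1 / M) * ((c i j : ℝ) ^ 2 * t j / k j) :=
          Finset.sum_le_sum hterm
      _ ≤ ∑ j ∈ S, (1 + 1 / M) * ((c i j : ℝ) ^ 2 * t j / k j) :=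
          Finset.sum_le_sum_of_subset_of_nonneg (Finset.filter_subset _ _) (fun j _ _ => by
            have := hKpos j
            positivity)
  have hOsum : ∑ j ∈ S.filter (fun j => ¬ c i j ≠ 0), (1 : ℝ) / e j ≤
      (1 / M') * ∑ j ∈ S, (t j : ℝ) * (c j i : ℝ) ^ 2 := by
    rw [Finset.mul_sum]
    have hterm : ∀ j ∈ S.filter (fun j => ¬ c i j ≠ 0), (1 : ℝ) / e j ≤
        (1 / M') * ((t j : ℝ) * (c j i : ℝ) ^ 2) := by
      intro j hj
      obtain ⟨hjS, hcj⟩ := Finset.mem_filter.mp hj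
      have hcj0 : c i j = 0 := not_not.mp hcj
      have hji : j ≠ i := Finset.ne_of_mem_erase hjS
      have hm := hO j hji hcj0
      have hc1 := hsq (c j i) (hpar i j (Ne.symm hji) hcj0)
      have hE := hEpos j
      have hT := hTpos j
      have hET : (0 : ℝ) < e j * t j := mul_pos hE hT
      have h1 : (1 : ℝ) / e j = (1 / ((e j : ℝ) * t j)) * (t j : ℝ) := by
        field_simp
      have h2 : 1 / ((e j : ℝ) * t j) ≤ 1 / M' := one_div_le_one_div_of_le hM' hm
      have h3 : (t j : ℝ) ≤ (t j : ℝ) * (c j i : ℝ) ^ 2 := by nlinarith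
      rw [h1]
      exact mul_le_mul h2 h3 hT.le (by positivity)
    calc ∑ j ∈ S.filter (fun j => ¬ c i j ≠ 0), (1 : ℝ) / e j
        ≤ ∑ j ∈ S.filter (fun j => ¬ c i j ≠ 0), (1 / M') * ((t j : ℝ) * (c j i : ℝ) ^ 2) :=
          Finset.sum_le_sum hterm
      _ ≤ ∑ j ∈ S, (1 / M') * ((t j : ℝ) * (c j i : ℝ) ^ 2) :=
          Finset.sum_le_sum_of_subset_of_nonneg (Finset.filter_subset _ _) (fun j _ _ => by
            positivity)
  rw [hsplit]
  have h1 : (1 + 1 / M) * ∑ j ∈ S, ((c i j : ℝ)) ^ 2 * t j / k j ≤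
      (1 + 1 / M) * ((e i : ℝ) / (k i : ℝ)) := mul_le_mul_of_nonneg_left hrow hM1
  have h2 : (1 / M') * ∑ j ∈ S, (t j : ℝ) * (c j i : ℝ) ^ 2 ≤ ((e i : ℝ) - 1) / M' := by
    have h3 : ((e i : ℝ) - 1) / M' = (1 / M') * ((e i : ℝ) - 1) := by ring
    rw [h3]
    exact mul_le_mul_of_nonneg_left hcol (by positivity)
  linarith

theorem frob_numeric {ι : Type*} [Fintype ι] [DecidableEq ι] (e t k : ι → ℕ) (c : ι → ι → ℤ)
    (hk : ∀ i, k i = e i * t i + 1)
    (he3 : ∀ i, 3 ≤ e i) (heodd : ∀ i, Odd (e i))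
    (ht2 : ∀ i, 2 ≤ t i) (hteven : ∀ i, Even (t i))
    (hkinj : ∀ i j, i ≠ j → k i ≠ k j)
    (hpar : ∀ i j, i ≠ j → c i j = 0 → c j i ≠ 0)
    (hrow : ∀ i, ∑ j ∈ Finset.univ.erase i, ((c i j : ℝ)) ^ 2 * (t j : ℝ) / (k j : ℝ) ≤
      (e i : ℝ) / (k i : ℝ))
    (hcol : ∀ i, ∑ j ∈ Finset.univ.erase i, (t j : ℝ) * (c j i : ℝ) ^ 2 ≤ (e i : ℝ) - 1)
    (i : ι) (hmin : ∀ j, e i ≤ e j) :
    ∑ j ∈ Finset.univ.erase i, (1 : ℝ) / (e j : ℝ) < 1 - 1 / (e i : ℝ) := by
  have he : ∀ j, 0 < e j := fun j => by have := he3 j; omega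
  have ht : ∀ j, 0 < t j := fun j => by have := ht2 j; omega
  have hm_ge : ∀ j, 2 * e i ≤ e j * t j := fun j => by
    have h1 := hmin j
    have h2 := ht2 j
    calc 2 * e i = e i * 2 := by ring
      _ ≤ e j * t j := Nat.mul_le_mul h1 h2
  have hE3 : (3 : ℝ) ≤ e i := by exact_mod_cast he3 i
  have hmeven : ∀ j, Even (e j * t j) := fun j => (hteven j).mul_left _
  rcases Nat.lt_or_ge (t i) 4 with hti | hti
  · have hti2 : t i = 2 := by
      obtain ⟨m, hm⟩ := hteven i
      have := ht2 i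
      omega
    have hki : k i = 2 * e i + 1 := by rw [hk i, hti2]; ring
    have hm4 : ∀ j, j ≠ i → 2 * e i + 4 ≤ e j * t j := by
      intro j hji
      have hkne := hkinj j i hji
      rw [hk j, hki] at hkne
      have h1 := hm_ge j
      have h3 := hmin j
      have h4 := ht2 j
      have h5 := he3 i
      rcases Nat.lt_or_ge (t j) 4 with h6 | h6
      · have htj2 : t j = 2 := by
          obtain ⟨m, hm⟩ := hteven j
          omega
        rw [htj2] at hkne ⊢
        obtain ⟨b, hb⟩ := heodd j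
        obtain ⟨b', hb'⟩ := heodd i
        omega
      · calc 2 * e i + 4 ≤ e i * 4 := by omega
          _ ≤ e j * t j := Nat.mul_le_mul h3 h6
    have hkiR : (k i : ℝ) = 2 * e i + 1 := by rw [hki]; push_cast; ring
    rcases Nat.lt_or_ge (e i) 5 with hei | hei
    · have hei3 : e i = 3 := by
        obtain ⟨b, hb⟩ := heodd i
        have := he3 i
        omega
      have hei3R : (e i : ℝ) = 3 := by rw [hei3]; norm_num
      have hkiR' : (k i : ℝ) = 7 := by rw [hkiR, hei3R]; norm_num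
      by_cases hα : ∀ j, j ≠ i → c i j = 0 → 14 ≤ e j * t j
      · have h := frob_numeric_aux e t k c hk he ht hpar i (hrow i) (hcol i) 10 14
          (by norm_num) (by norm_num)
          (fun j hji _ => by
            have := hm4 j hji
            rw [hei3] at this
            have h' : (10 : ℕ) ≤ e j * t j := by omega
            exact_mod_cast h')
          (fun j hji hc => by exact_mod_cast hα j hji hc)
        rw [hei3R, hkiR'] at h
        rw [hei3R]
        norm_num at h ⊢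
        linarith
      · push Not at hα
        obtain ⟨j0, hj0i, hcj0, hlt⟩ := hα
        have hcji : c j0 i ≠ 0 := hpar i j0 (Ne.symm hj0i) hcj0
        have hcol' := hcol i
        rw [hei3R] at hcol'
        have hle : (t j0 : ℝ) * (c j0 i : ℝ) ^ 2 ≤ 3 - 1 :=
          le_trans (Finset.single_le_sum (f := fun j => (t j : ℝ) * (c j i : ℝ) ^ 2)
            (fun _ _ => by positivity) (Finset.mem_erase.mpr ⟨hj0i, Finset.mem_univ _⟩)) hcol'
        have hc1 : (1 : ℝ) ≤ (c j0 i : ℝ) ^ 2 := by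
          have h1 : (1 : ℤ) ≤ (c j0 i) ^ 2 := by
            have := sq_nonneg (c j0 i)
            have := pow_ne_zero 2 hcji
            omega
          exact_mod_cast h1
        have htj0R : (t j0 : ℝ) ≤ 2 := by
          have : (0 : ℝ) ≤ t j0 := Nat.cast_nonneg _
          nlinarith
        have htj0 : t j0 = 2 := by
          have h1 : t j0 ≤ 2 := by exact_mod_cast htj0R
          have := ht2 j0
          omega
        have hej0 : e j0 = 5 := by
          have h1 := hm4 j0 hj0i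
          rw [htj0, hei3] at h1
          rw [htj0] at hlt
          obtain ⟨b, hb⟩ := heodd j0
          omega
        have hkj0 : k j0 = 11 := by rw [hk j0, hej0, htj0]
        have hm12 : ∀ j, j ≠ i → c i j ≠ 0 → 12 ≤ e j * t j := by
          intro j hji hcj
          have hjj0 : j ≠ j0 := fun h => hcj (h ▸ hcj0)
          have hkne := hkinj j j0 hjj0
          rw [hk j, hkj0] at hkne
          have h1 := hm4 j hji
          rw [hei3] at h1
          obtain ⟨q, hq⟩ := hmeven j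
          omega
        have h := frob_numeric_aux e t k c hk he ht hpar i (hrow i) (hcol i) 12 10
          (by norm_num) (by norm_num)
          (fun j hji hc => by exact_mod_cast hm12 j hji hc)
          (fun j hji _ => by
            have := hm4 j hji
            rw [hei3] at this
            have h' : (10 : ℕ) ≤ e j * t j := by omega
            exact_mod_cast h')
        rw [hei3R, hkiR'] at h
        rw [hei3R]
        norm_num at h ⊢
        linarith
    · have hE5 : (5 : ℝ) ≤ e i := by exact_mod_cast hei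
      have hMpos : (0 : ℝ) < 2 * (e i : ℝ) + 4 := by linarith
      have hcast : ∀ j, j ≠ i → 2 * (e i : ℝ) + 4 ≤ (e j : ℝ) * t j := fun j hji => by
        have := hm4 j hji
        exact_mod_cast this
      have h := frob_numeric_aux e t k c hk he ht hpar i (hrow i) (hcol i)
        (2 * (e i : ℝ) + 4) (2 * (e i : ℝ) + 4) hMpos hMpos
        (fun j hji _ => hcast j hji) (fun j hji _ => hcast j hji)
      rw [hkiR] at h
      refine lt_of_le_of_lt h ?_
      set E : ℝ := (e i : ℝ) with hE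
      have hEpos : (0 : ℝ) < E := by linarith
      have e1 : (1 + 1 / (2 * E + 4)) * (E / (2 * E + 1)) + (E - 1) / (2 * E + 4) =
          (4 * E ^ 2 + 4 * E - 1) / ((2 * E + 1) * (2 * E + 4)) := by
        field_simp
        ring
      have e2 : 1 - 1 / E = (E - 1) / E := by field_simp
      rw [e1, e2, div_lt_div_iff₀ (by positivity) hEpos]
      nlinarith [mul_nonneg (sub_nonneg.mpr hE5) (sub_nonneg.mpr hE5)]
  · have hkiR : (4 : ℝ) * e i + 1 ≤ (k i : ℝ) := by
      have h1 : 4 * e i + 1 ≤ k i := by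
        rw [hk i]
        have := Nat.mul_le_mul_left (e i) hti
        omega
      exact_mod_cast h1
    set E : ℝ := (e i : ℝ) with hE
    have hEpos : (0 : ℝ) < E := by linarith
    have hMpos : (0 : ℝ) < 2 * E := by linarith
    have hcast : ∀ j, 2 * E ≤ (e j : ℝ) * t j := fun j => by
      have := hm_ge j
      rw [hE]
      exact_mod_cast this
    have h := frob_numeric_aux e t k c hk he ht hpar i (hrow i) (hcol i)
      (2 * E) (2 * E) hMpos hMpos (fun j _ _ => hcast j) (fun j _ _ => hcast j)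
    refine lt_of_le_of_lt h ?_
    have h1 : E / (k i : ℝ) ≤ E / (4 * E + 1) :=
      div_le_div_of_nonneg_left hEpos.le (by linarith) hkiR
    have h2 : (1 + 1 / (2 * E)) * (E / (k i : ℝ)) ≤ (1 + 1 / (2 * E)) * (E / (4 * E + 1)) :=
      mul_le_mul_of_nonneg_left h1 (by positivity)
    have e1 : (1 + 1 / (2 * E)) * (E / (4 * E + 1)) = (2 * E + 1) / (2 * (4 * E + 1)) := by
      field_simp
    have h3 : (2 * E + 1) / (2 * (4 * E + 1)) < (E - 1) / (2 * E) := by
      rw [div_lt_div_iff₀ (by positivity) hMpos]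
      nlinarith [mul_nonneg (sub_nonneg.mpr hE3) (sub_nonneg.mpr hE3)]
    have e2 : (E - 1) / (2 * E) + (E - 1) / (2 * E) = 1 - 1 / E := by
      field_simp
      ring
    linarith

end Cfsg.Agent.H31
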