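import Mathlib
import Cfsg.Prelude.Def_Characters
import Cfsg.Agent.H4.Irr

/-!
# Frobenius partitions, part 6 (helper31)

A parity lemma for real-valued generalized characters of groups of odd order, and the counting
formula for a TI-subgroup.
-/

set_option autoImplicit false

namespace Cfsg.Agent.H31

open Cfsg Cfsg.Agent.H4
open scoped ComplexConjugate
open Classical

theorem int_dvd_of_isIntegral {a p : ℤ} (hp : p ≠ 0) (z : ℂ) (hz : IsIntegral ℤ z)
    (h : (a : ℂ) = p * z) : p ∣ a := by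
  have hp' : (p : ℂ) ≠ 0 := by exact_mod_cast hp
  have hz' : z = algebraMap ℚ ℂ ((a : ℚ) / p) := by
    rw [map_div₀]
    simp only [map_intCast]
    rw [h]
    field_simp
  rw [hz'] at hz
  have h1 : IsIntegral ℤ ((a : ℚ) / p) :=
    (isIntegral_algebraMap_iff (algebraMap ℚ ℂ).injective).1 hz
  obtain ⟨n, hn⟩ := IsIntegrallyClosed.isIntegral_iff.1 h1
  have hpq : (p : ℚ) ≠ 0 := by exact_mod_cast hp
  have h2 : (a : ℚ) = p * n := by
    have : (n : ℚ) = (a : ℚ) / p := by simpa using hn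
    rw [this]; field_simp
  exact ⟨n, by exact_mod_cast h2⟩

theorem inv_ne_self_of_odd {G : Type*} [Group G] [Finite G] (hodd : Odd (Nat.card G)) (x : G)
    (hx : x ≠ 1) : x⁻¹ ≠ x := by
  intro h
  have h2 : x ^ 2 = 1 := by
    rw [pow_two]
    nth_rewrite 1 [← h]
    exact inv_mul_cancel x
  have hd : orderOf x ∣ 2 := orderOf_dvd_of_pow_eq_one h2
  have hd' : orderOf x ∣ Nat.card G := orderOf_dvd_natCard x
  have h1 : orderOf x = 1 := by
    rcases (Nat.dvd_prime Nat.prime_two).mp hd with h1 | h1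
    · exact h1
    · exfalso
      rw [h1] at hd'
      exact (Nat.not_even_iff_odd.mpr hodd) (even_iff_two_dvd.mpr hd')
  exact hx (orderOf_eq_one_iff.mp h1)

theorem sum_inv_invariant {G : Type*} [Group G] [Fintype G] (hodd : Odd (Nat.card G))
    (F : G → ℂ) (hF : ∀ x, F x⁻¹ = F x) :
    ∃ T : Finset G, ∑ x : G, F x = F 1 + 2 * ∑ x ∈ T, F x := by
  let en := Fintype.equivFin G
  refine ⟨Finset.univ.filter (fun x => en x < en x⁻¹), ?_⟩
  have h1 : ∑ x : G, F x = F 1 + ∑ x ∈ Finset.univ.erase 1, F x :=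
    (Finset.add_sum_erase _ _ (Finset.mem_univ 1)).symm
  have h2 : Finset.univ.erase (1 : G) = (Finset.univ.filter (fun x => en x < en x⁻¹)) ∪
      (Finset.univ.filter (fun x => en x⁻¹ < en x)) := by
    ext x
    simp only [Finset.mem_erase, Finset.mem_univ, and_true, Finset.mem_union, Finset.mem_filter,
      true_and]
    constructor
    · intro hx
      have hne' : en x⁻¹ ≠ en x := fun h => inv_ne_self_of_odd hodd x hx (en.injective h)
      rcases lt_or_gt_of_ne hne' with h | h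
      · right; exact h
      · left; exact h
    · rintro (h | h) <;> (rintro rfl; simp at h)
  have hdisj : Disjoint (Finset.univ.filter (fun x : G => en x < en x⁻¹))
      (Finset.univ.filter (fun x : G => en x⁻¹ < en x)) := by
    rw [Finset.disjoint_left]
    intro x h1 h2
    simp only [Finset.mem_filter, Finset.mem_univ, true_and] at h1 h2
    exact absurd h1 (not_lt.mpr h2.le)
  have h3 : ∑ x ∈ Finset.univ.filter (fun x : G => en x⁻¹ < en x), F x =
      ∑ x ∈ Finset.univ.filter (fun x : G => en x < en x⁻¹), F x := by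
    apply Finset.sum_nbij' (fun x => x⁻¹) (fun x => x⁻¹)
    · intro x hx
      simp only [Finset.mem_filter, Finset.mem_univ, true_and, inv_inv] at hx ⊢
      exact hx
    · intro x hx
      simp only [Finset.mem_filter, Finset.mem_univ, true_and, inv_inv] at hx ⊢
      exact hx
    · intro x _; simp
    · intro x _; simp
    · intro x _; exact (hF x).symm
  rw [h1, h2, Finset.sum_union hdisj, h3]
  ring

/-- Parity of the inner product of two real-valued, algebraic-integer-valued, inverse-invariant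
functions on a group of odd order. -/
theorem parity_lemma {G : Type*} [Group G] [Fintype G] (hodd : Odd (Nat.card G)) (A B : G → ℂ)
    (hA : ∀ x, A x⁻¹ = A x) (hB : ∀ x, B x⁻¹ = B x) (hBreal : ∀ x, conj (B x) = B x)
    (hAint : ∀ x, IsIntegral ℤ (A x)) (hBint : ∀ x, IsIntegral ℤ (B x))
    (m ab : ℤ) (hm : classInner A B = m) (hab : A 1 * B 1 = ab) : Even (m - ab) := by
  obtain ⟨T, hT⟩ := sum_inv_invariant hodd (fun x => A x * B x) (fun x => by
    show A x⁻¹ * B x⁻¹ = A x * B x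
    rw [hA, hB])
  have hg : (Nat.card G : ℂ) ≠ 0 := (neZero_card_complex G).out
  have h1 : (Nat.card G : ℂ) * m = ∑ x : G, A x * B x := by
    rw [← hm]
    unfold classInner
    rw [← mul_assoc, mul_inv_cancel₀ hg, one_mul]
    refine Finset.sum_congr rfl fun x _ => by rw [hBreal]
  rw [hT, hab] at h1
  have hS : IsIntegral ℤ (∑ x ∈ T, A x * B x) :=
    IsIntegral.sum _ (fun x _ => (hAint x).mul (hBint x))
  have hdvd : (2 : ℤ) ∣ (Nat.card G : ℤ) * m - ab :=
    int_dvd_of_isIntegral (by norm_num) _ hS (by push_cast; linear_combination h1)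
  obtain ⟨q, hq⟩ := hodd
  obtain ⟨r, hr⟩ := hdvd
  refine ⟨r - q * m, ?_⟩
  rw [hq] at hr
  push_cast at hr
  linarith

section TI

variable {G : Type*} [Group G] [Fintype G]

theorem ti_count (H L : Subgroup G)
    (hTI : ∀ g : G, g ∉ Subgroup.normalizer (H : Set G) → ∀ k ∈ H, g * k * g⁻¹ ∈ H → k = 1)
    (hN : Subgroup.normalizer (H : Set G) = L) (hHn : ∀ x ∈ L, ∀ h ∈ H, x * h * x⁻¹ ∈ H)
    (x z₀ : G) (hx : x ≠ 1) (hz₀ : z₀⁻¹ * x * z₀ ∈ H) :
    (Finset.univ.filter (fun z : G => z⁻¹ * x * z ∈ H)).card = Nat.card L := by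
  rw [Nat.card_eq_fintype_card, Fintype.card_subtype]
  apply Finset.card_bij (fun z _ => z₀⁻¹ * z)
  · intro z hz
    simp only [Finset.mem_filter, Finset.mem_univ, true_and] at hz ⊢
    by_contra hnot
    have hw : (z₀⁻¹ * z)⁻¹ ∉ Subgroup.normalizer (H : Set G) := by
      rw [hN]
      intro h
      exact hnot (by simpa using L.inv_mem h)
    have h1 := hTI _ hw (z₀⁻¹ * x * z₀) hz₀ (by
      have e : (z₀⁻¹ * z)⁻¹ * (z₀⁻¹ * x * z₀) * (z₀⁻¹ * z)⁻¹⁻¹ = z⁻¹ * x * z := by group
      rw [e]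
      exact hz)
    apply hx
    have e2 : x = z₀ * (z₀⁻¹ * x * z₀) * z₀⁻¹ := by group
    rw [e2, h1]
    group
  · intro a _ b _ h
    exact mul_left_cancel h
  · intro w hw
    simp only [Finset.mem_filter, Finset.mem_univ, true_and] at hw
    refine ⟨z₀ * w, ?_, by group⟩
    simp only [Finset.mem_filter, Finset.mem_univ, true_and]
    have h1 := hHn w⁻¹ (L.inv_mem hw) _ hz₀
    have e : (z₀ * w)⁻¹ * x * (z₀ * w) = w⁻¹ * (z₀⁻¹ * x * z₀) * w⁻¹⁻¹ := by group
    rw [e]
    exact h1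

theorem class_sum (H : Subgroup G) (f : G → ℝ) (hf : ∀ z x : G, f (z * x * z⁻¹) = f x) :
    ∑ x : G, ((Finset.univ.filter (fun z : G => z⁻¹ * x * z ∈ H ∧ x ≠ 1)).card : ℝ) * f x =
      (Fintype.card G : ℝ) * ∑ y : G, if y ∈ H ∧ y ≠ 1 then f y else 0 := by
  have h1 : ∀ x : G,
      ((Finset.univ.filter (fun z : G => z⁻¹ * x * z ∈ H ∧ x ≠ 1)).card : ℝ) * f x =
        ∑ z : G, if z⁻¹ * x * z ∈ H ∧ x ≠ 1 then f x else 0 := by
    intro x
    rw [← Finset.sum_filter, Finset.sum_const, nsmul_eq_mul]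
  rw [Finset.sum_congr rfl (fun x _ => h1 x), Finset.sum_comm]
  have h2 : ∀ z : G, ∑ x : G, (if z⁻¹ * x * z ∈ H ∧ x ≠ 1 then f x else 0) =
      ∑ y : G, if y ∈ H ∧ y ≠ 1 then f y else 0 := by
    intro z
    rw [← Equiv.sum_comp (MulAut.conj z).toEquiv]
    refine Finset.sum_congr rfl fun y _ => ?_
    have e0 : (MulAut.conj z).toEquiv y = z * y * z⁻¹ := rfl
    have e1 : z⁻¹ * (z * y * z⁻¹) * z = y := by group
    have e2 : z * y * z⁻¹ ≠ 1 ↔ y ≠ 1 := by rw [Ne, Ne, conj_eq_one_iff]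
    have e3 : (z⁻¹ * (MulAut.conj z).toEquiv y * z ∈ H ∧ (MulAut.conj z).toEquiv y ≠ 1) ↔
        (y ∈ H ∧ y ≠ 1) := by rw [e0, e1, e2]
    by_cases hc : y ∈ H ∧ y ≠ 1
    · rw [if_pos hc, if_pos (e3.mpr hc), e0, hf]
    · rw [if_neg hc, if_neg (fun h => hc (e3.mp h))]
  rw [Finset.sum_congr rfl (fun z _ => h2 z), Finset.sum_const, Finset.card_univ, nsmul_eq_mul]

theorem card_off_one (H : Subgroup G) :
    ∑ y : G, (if y ∈ H ∧ y ≠ 1 then (1 : ℝ) else 0) = (Nat.card H : ℝ) - 1 := by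
  have h1 : ∑ y : G, (if y ∈ H then (1 : ℝ) else 0) = (Nat.card H : ℝ) := by
    rw [Finset.sum_boole, Nat.card_eq_fintype_card, Fintype.card_subtype]
  have h2 : ∑ y : G, (if y ∈ H then (1 : ℝ) else 0) =
      ∑ y : G, (if y ∈ H ∧ y ≠ 1 then (1 : ℝ) else 0) + 1 := by
    have : ∀ x : G, (if x ∈ H then (1 : ℝ) else 0) =
        (if x ∈ H ∧ x ≠ 1 then (1 : ℝ) else 0) + (if x = 1 then (1 : ℝ) else 0) := by
      intro x
      by_cases hx : x = 1
      · subst hx
        simp [H.one_mem]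
      · by_cases hxH : x ∈ H
        · simp [hx, hxH]
        · simp [hx, hxH]
    rw [Finset.sum_congr rfl (fun x _ => this x), Finset.sum_add_distrib,
      Finset.sum_ite_eq' Finset.univ (1 : G) (fun _ => (1 : ℝ)), if_pos (Finset.mem_univ _)]
  linarith

end TI

end Cfsg.Agent.H31
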