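import Mathlib
import Cfsg.Prelude.Def_Characters
import Cfsg.Prelude.Def_OddOrderLocal
import Cfsg.Agent.H31.FP4
import Cfsg.Agent.H31.FP5
import Cfsg.Agent.H31.FP6
import Cfsg.Agent.S0033

/-!
# Frobenius partitions, part 7 (helper31)

A group of odd order cannot be partitioned by the conjugates of TI Frobenius kernels of pairwise
coprime orders.
-/

set_option autoImplicit false
set_option linter.style.haveILetI false

namespace Cfsg.Agent.H31

open Cfsg Cfsg.Agent.H4 Cfsg.Agent.H5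
open scoped ComplexConjugate
open Classical

universe u

/-- A Frobenius kernel is not perfect (Thompson). -/
theorem frob_kernel_comm {G : Type u} [Group G] [Finite G] (H L : Subgroup G) (hHL : H < L)
    (hH1 : H ≠ ⊥) (hN : Subgroup.normalizer (H : Set G) = L)
    (hfrob : ∀ h ∈ H, h ≠ 1 → L ⊓ Subgroup.centralizer ({h} : Set G) ≤ H) :
    commutator (KK H) ≠ ⊤ := by
  obtain ⟨x, hxL, hxH⟩ := SetLike.exists_of_lt hHL
  have hx1 : x ≠ 1 := fun h => hxH (h ▸ H.one_mem)
  have hox : orderOf x ≠ 1 := fun h => hx1 (orderOf_eq_one_iff.mp h)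
  have hox0 : orderOf x ≠ 0 := (orderOf_pos x).ne'
  set p := (orderOf x).minFac with hp
  have hpp : p.Prime := Nat.minFac_prime hox
  have hpd : p ∣ orderOf x := Nat.minFac_dvd _
  set y := x ^ (orderOf x / p) with hy
  have hyo : orderOf y = p := orderOf_pow_orderOf_div hox0 hpd
  have hy1 : y ≠ 1 := by
    intro h
    rw [h, orderOf_one] at hyo
    exact hpp.one_lt.ne hyo
  have hyL : y ∈ L := L.pow_mem hxL _
  have hyH : y ∉ H := by
    intro hyH
    apply hxH
    apply hfrob y hyH hy1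
    refine Subgroup.mem_inf.mpr ⟨hxL, ?_⟩
    rw [Subgroup.mem_centralizer_iff]
    intro h hh
    rw [Set.mem_singleton_iff] at hh
    subst hh
    exact (Commute.pow_self x _).eq
  have hyN : y ∈ NN H := by
    show y ∈ Subgroup.normalizer (H : Set G)
    rw [hN]
    exact hyL
  let yN : NN H := ⟨y, hyN⟩
  let φ : KK H ≃* KK H := MulAut.conjNormal yN
  have hfpf : MonoidHom.FixedPointFree (φ : KK H →* KK H) := by
    intro k hk
    by_contra hk1
    apply hyH
    have hkH : ((k : NN H) : G) ∈ H := Subgroup.mem_subgroupOf.mp k.2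
    have hk1' : ((k : NN H) : G) ≠ 1 := fun h => hk1 (Subtype.ext (Subtype.ext h))
    apply hfrob _ hkH hk1'
    refine Subgroup.mem_inf.mpr ⟨hyL, ?_⟩
    rw [Subgroup.mem_centralizer_iff]
    intro h hh
    rw [Set.mem_singleton_iff] at hh
    subst hh
    have h2 : y * ((k : NN H) : G) * y⁻¹ = ((k : NN H) : G) := by
      have := congrArg (fun z : KK H => ((z : NN H) : G)) hk
      simpa [φ, yN, MulAut.conjNormal_apply] using this
    calc ((k : NN H) : G) * y = (y * ((k : NN H) : G) * y⁻¹) * y := by rw [h2]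
      _ = y * ((k : NN H) : G) := by group
  have hφp : φ ^ p = 1 := by
    show (MulAut.conjNormal yN) ^ p = 1
    rw [← map_pow]
    have : yN ^ p = 1 := by
      apply Subtype.ext
      show y ^ p = 1
      rw [← hyo]
      exact pow_orderOf_eq_one y
    rw [this, map_one]
  haveI : Nontrivial (KK H) := by
    obtain ⟨a, ha⟩ := Subgroup.ne_bot_iff_exists_ne_one.mp hH1
    have hh : (a : G) ∈ H := a.2
    have hh1 : (a : G) ≠ 1 := fun h => ha (Subtype.ext h)
    exact ⟨⟨⟨⟨(a : G), Subgroup.le_normalizer hh⟩, Subgroup.mem_subgroupOf.mpr hh⟩, 1, fun e =>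
      hh1 (congrArg (fun z : KK H => ((z : NN H) : G)) e)⟩⟩
  have hφ1 : φ ≠ 1 := by
    intro h
    obtain ⟨k, hk⟩ := exists_ne (1 : KK H)
    exact hk (hfpf k (by rw [h]; rfl))
  haveI : Fact p.Prime := ⟨hpp⟩
  have hord : orderOf φ = p := orderOf_eq_prime hφp hφ1
  haveI : Group.IsNilpotent (KK H) := Cfsg.Agent.S0033.result φ hfpf p hpp hord
  exact (IsSolvable.commutator_lt_top_of_nontrivial (KK H)).ne

theorem isCharacter_inv_apply {G : Type u} [Group G] [Finite G] {Φ : G → ℂ} (h : IsCharacter G Φ)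
    (x : G) : Φ x⁻¹ = conj (Φ x) := by
  obtain ⟨n, ρ, rfl⟩ := h
  exact character_inv ρ x

theorem isCharacter_isIntegral {G : Type u} [Group G] [Finite G] {Φ : G → ℂ}
    (h : IsCharacter G Φ) (x : G) : IsIntegral ℤ (Φ x) := by
  obtain ⟨n, ρ, rfl⟩ := h
  exact character_isIntegral ρ x

section Global

variable {G : Type u} [Group G] [Fintype G] {ι : Type*} [Fintype ι] (L H : ι → Subgroup G)
  (hHn : ∀ i, ∀ x ∈ L i, ∀ h ∈ H i, x * h * x⁻¹ ∈ H i)
  (hcop : ∀ i j, i ≠ j → Nat.Coprime (Nat.card (H i)) (Nat.card (H j)))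
  (hTI : ∀ i, Cfsg.IsTISubset (H i : Set G) ∧ Subgroup.normalizer (H i : Set G) = L i)
  (hcover : ∀ g : G, g ≠ 1 → ∃ i, ∃ x : G, x * g * x⁻¹ ∈ H i)
  (P : ∀ i, FrobPkg (H i))

include hcop in
theorem supp_disj (i j : ι) (hij : i ≠ j) (x : G) (hx : x ≠ 1)
    (hi : ∃ z : G, z⁻¹ * x * z ∈ H i) (hj : ∃ z : G, z⁻¹ * x * z ∈ H j) : False := by
  obtain ⟨z, hz⟩ := hi
  obtain ⟨w, hw⟩ := hj
  have h1 : orderOf (z⁻¹ * x * z) = orderOf x := by
    have := MulEquiv.orderOf_eq (MulAut.conj z⁻¹) x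
    simpa [MulAut.conj_apply] using this
  have h2 : orderOf (w⁻¹ * x * w) = orderOf x := by
    have := MulEquiv.orderOf_eq (MulAut.conj w⁻¹) x
    simpa [MulAut.conj_apply] using this
  have d1 : orderOf x ∣ Nat.card (H i) := h1 ▸ Subgroup.orderOf_dvd_natCard (H i) hz
  have d2 : orderOf x ∣ Nat.card (H j) := h2 ▸ Subgroup.orderOf_dvd_natCard (H j) hw
  have d3 : orderOf x ∣ 1 := by
    have := Nat.dvd_gcd d1 d2
    rwa [(hcop i j hij)] at this
  exact hx (orderOf_eq_one_iff.mp (Nat.dvd_one.mp d3))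

include hcop in
theorem inner_zero_supp (i j : ι) (hij : i ≠ j) (A B : G → ℂ)
    (hA : ∀ x, A x ≠ 0 → x ≠ 1 ∧ ∃ z : G, z⁻¹ * x * z ∈ H i)
    (hB : ∀ x, B x ≠ 0 → x ≠ 1 ∧ ∃ z : G, z⁻¹ * x * z ∈ H j) : classInner A B = 0 := by
  unfold classInner
  rw [Finset.sum_eq_zero, mul_zero]
  intro x _
  by_cases hAx : A x = 0
  · rw [hAx, zero_mul]
  · by_cases hBx : B x = 0
    · rw [hBx, map_zero, mul_zero]
    · exact (supp_disj H hcop i j hij x (hA x hAx).1 (hA x hAx).2 (hB x hBx).2).elim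

include hcop in
theorem fam_disj (i j : ι) (hij : i ≠ j) (X : IrrCharacter G) (hXi : X ∈ (P i).fam)
    (hXj : X ∈ (P j).fam) : False := by
  obtain ⟨X', hX', hne⟩ := Finset.exists_mem_ne (by
    rw [(P i).card_fam]
    have := (P i).ht
    omega) X
  obtain ⟨Y', hY', hne'⟩ := Finset.exists_mem_ne (by
    rw [(P j).card_fam]
    have := (P j).ht
    omega) X
  have h0 := inner_zero_supp H hcop i j hij (X.1 - X'.1) (X.1 - Y'.1)
    (fun x hx => (P i).supp_fam X hXi X' hX' x hx)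
    (fun x hx => (P j).supp_fam X hXj Y' hY' x hx)
  rw [classInner_sub_left, classInner_sub_right, classInner_sub_right, irr_inner_self,
    irr_inner_ne hne'.symm, irr_inner_ne hne, irr_inner] at h0
  split_ifs at h0 <;> norm_num at h0

include hHn hcop hTI hcover in
theorem count_sum (x : G) (hx : x ≠ 1) :
    ∑ i, ((Finset.univ.filter (fun z : G => z⁻¹ * x * z ∈ H i ∧ x ≠ 1)).card : ℝ) /
      Nat.card (L i) = 1 := by
  obtain ⟨i₀, z, hz⟩ := hcover x hx
  have hz' : (z⁻¹)⁻¹ * x * z⁻¹ ∈ H i₀ := by simpa using hz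
  rw [Finset.sum_eq_single i₀]
  · have : (Finset.univ.filter (fun w : G => w⁻¹ * x * w ∈ H i₀ ∧ x ≠ 1)) =
        Finset.univ.filter (fun w : G => w⁻¹ * x * w ∈ H i₀) := by
      apply Finset.filter_congr
      intro w _
      simp [hx]
    rw [this, ti_count (H i₀) (L i₀) (hTI i₀).1 (hTI i₀).2 (hHn i₀) x z⁻¹ hx hz']
    exact div_self (Nat.cast_ne_zero.mpr Nat.card_pos.ne')
  · intro j _ hj
    have : (Finset.univ.filter (fun w : G => w⁻¹ * x * w ∈ H j ∧ x ≠ 1)) = ∅ := by
      apply Finset.filter_eq_empty_iff.mpr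
      intro w _ hw
      exact supp_disj H hcop i₀ j (Ne.symm hj) x hx ⟨z⁻¹, hz'⟩ ⟨w, hw.1⟩
    rw [this]
    simp
  · intro h
    exact absurd (Finset.mem_univ _) h

include hHn hcop hTI hcover in
theorem partition_formula (f : G → ℝ) (hf : ∀ z x : G, f (z * x * z⁻¹) = f x) :
    ∑ x : G, f x = f 1 + ∑ i, ((Nat.card G : ℝ) / Nat.card (L i)) *
      ∑ y : G, if y ∈ H i ∧ y ≠ 1 then f y else 0 := by
  have h1 : ∀ x : G, f x = (if x = 1 then f 1 else 0) +
      ∑ i, (((Finset.univ.filter (fun z : G => z⁻¹ * x * z ∈ H i ∧ x ≠ 1)).card : ℝ) * f x) /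
        Nat.card (L i) := by
    intro x
    by_cases hx : x = 1
    · subst hx
      simp
    · rw [if_neg hx, zero_add]
      have := count_sum L H hHn hcop hTI hcover x hx
      simp_rw [mul_div_right_comm]
      rw [← Finset.sum_mul, this, one_mul]
  calc ∑ x : G, f x = ∑ x : G, ((if x = 1 then f 1 else 0) +
        ∑ i, (((Finset.univ.filter (fun z : G => z⁻¹ * x * z ∈ H i ∧ x ≠ 1)).card : ℝ) * f x) /
          Nat.card (L i)) := Finset.sum_congr rfl (fun x _ => h1 x)
    _ = f 1 + ∑ i, ∑ x : G,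
        (((Finset.univ.filter (fun z : G => z⁻¹ * x * z ∈ H i ∧ x ≠ 1)).card : ℝ) * f x) /
          Nat.card (L i) := by
      rw [Finset.sum_add_distrib, Finset.sum_ite_eq' Finset.univ (1 : G) (fun _ => f 1),
        if_pos (Finset.mem_univ _), Finset.sum_comm]
    _ = f 1 + ∑ i, ((Nat.card G : ℝ) / Nat.card (L i)) *
        ∑ y : G, if y ∈ H i ∧ y ≠ 1 then f y else 0 := by
      congr 1
      refine Finset.sum_congr rfl fun i _ => ?_
      rw [← Finset.sum_div, class_sum (H i) f hf, ← Nat.card_eq_fintype_card]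
      ring

include hTI in
theorem card_L (i : ι) : Nat.card (L i) = Nat.card (H i) * (P i).e := by
  rw [← (hTI i).2]
  exact (P i).card_norm

include hHn hcop hTI hcover in
theorem norm_formula (X : G → ℂ) (hX : IsClassFunction G X) :
    (classInner X X).re = Complex.normSq (X 1) / Nat.card G +
      ∑ i, offMass (H i) X / (P i).e := by
  rw [classInner_self_re]
  have h := partition_formula L H hHn hcop hTI hcover (fun x => Complex.normSq (X x))
    (fun z x => by show Complex.normSq (X (z * x * z⁻¹)) = Complex.normSq (X x); rw [hX x z])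
  rw [h]
  have hg : (Nat.card G : ℝ) ≠ 0 := Nat.cast_ne_zero.mpr Nat.card_pos.ne'
  rw [mul_add, Finset.mul_sum]
  congr 1
  · rw [div_eq_inv_mul]
  · refine Finset.sum_congr rfl fun i _ => ?_
    have hHi : (Nat.card (H i) : ℝ) ≠ 0 := Nat.cast_ne_zero.mpr Nat.card_pos.ne'
    have hLi : (Nat.card (L i) : ℝ) = (Nat.card (H i) : ℝ) * (P i).e := by
      rw [card_L L H hTI P i]; push_cast; ring
    have hei : ((P i).e : ℝ) ≠ 0 := by
      intro h0
      have : (Nat.card (L i) : ℝ) ≠ 0 := Nat.cast_ne_zero.mpr Nat.card_pos.ne'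
      rw [hLi, h0, mul_zero] at this
      exact this rfl
    unfold offMass
    rw [hLi]
    field_simp

include hHn hcop hTI hcover in
theorem unity_formula :
    (1 : ℝ) = 1 / Nat.card G +
      ∑ i, ((Nat.card (H i) : ℝ) - 1) / ((Nat.card (H i) : ℝ) * (P i).e) := by
  have h := partition_formula L H hHn hcop hTI hcover (fun _ => (1 : ℝ)) (fun _ _ => rfl)
  have hg : (Nat.card G : ℝ) ≠ 0 := Nat.cast_ne_zero.mpr Nat.card_pos.ne'
  rw [Finset.sum_const, Finset.card_univ, nsmul_eq_mul, mul_one, ← Nat.card_eq_fintype_card] at h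
  have h3 : (Nat.card G : ℝ) = 1 + (Nat.card G : ℝ) *
      ∑ i, ((Nat.card (H i) : ℝ) - 1) / ((Nat.card (H i) : ℝ) * (P i).e) := by
    calc (Nat.card G : ℝ) = 1 + ∑ i, ((Nat.card G : ℝ) / Nat.card (L i)) *
          ∑ y : G, if y ∈ H i ∧ y ≠ 1 then (1 : ℝ) else 0 := h
      _ = 1 + (Nat.card G : ℝ) *
          ∑ i, ((Nat.card (H i) : ℝ) - 1) / ((Nat.card (H i) : ℝ) * (P i).e) := by
        congr 1
        rw [Finset.mul_sum]
        refine Finset.sum_congr rfl fun i _ => ?_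
        have hLi : (Nat.card (L i) : ℝ) = (Nat.card (H i) : ℝ) * (P i).e := by
          rw [card_L L H hTI P i]; push_cast; ring
        rw [card_off_one, ← hLi]
        ring
  have h4 : (1 : ℝ) = (Nat.card G : ℝ)⁻¹ * (Nat.card G : ℝ) := (inv_mul_cancel₀ hg).symm
  rw [one_div]
  calc (1 : ℝ) = (Nat.card G : ℝ)⁻¹ * (Nat.card G : ℝ) := h4
    _ = (Nat.card G : ℝ)⁻¹ * (1 + (Nat.card G : ℝ) *
          ∑ i, ((Nat.card (H i) : ℝ) - 1) / ((Nat.card (H i) : ℝ) * (P i).e)) := by rw [← h3]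
    _ = (Nat.card G : ℝ)⁻¹ +
          ∑ i, ((Nat.card (H i) : ℝ) - 1) / ((Nat.card (H i) : ℝ) * (P i).e) := by
        rw [mul_add, mul_one, ← mul_assoc, inv_mul_cancel₀ hg, one_mul]

end Global

end Cfsg.Agent.H31
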