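import Mathlib
import Cfsg.Prelude.Def_Characters
import Cfsg.Prelude.Def_OddOrderLocal
import Cfsg.Agent.H31.FP7

/-!
# Frobenius partitions, part 8 (helper31)

The final contradiction: a group of odd order cannot be partitioned by the conjugates of TI
Frobenius kernels of pairwise coprime orders.
-/

set_option autoImplicit false
set_option linter.style.haveILetI false

namespace Cfsg.Agent.H31

open Cfsg Cfsg.Agent.H4 Cfsg.Agent.H5
open scoped ComplexConjugate
open Classical

universe u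

section One

variable {G : Type u} [Group G] [Fintype G] {H : Subgroup G} (P : FrobPkg H)

/-- The real generalized character `β + ε X₀`. -/
noncomputable def Bfun : G → ℂ := fun x => P.β x + (P.ε : ℂ) * P.X₀.1 x

theorem Bfun_eq : Bfun P = P.β + (P.ε : ℂ) • P.X₀.1 := rfl

theorem Bfun_real (x : G) : conj (Bfun P x) = Bfun P x := P.real x

theorem Bfun_inv (x : G) : Bfun P x⁻¹ = Bfun P x := by
  obtain ⟨Φ, Ψ, hΦ, hΨ, hβ⟩ := P.gen_β
  have h1 : P.β x⁻¹ = conj (P.β x) := by
    rw [hβ, Pi.sub_apply, Pi.sub_apply, isCharacter_inv_apply hΦ, isCharacter_inv_apply hΨ,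
      map_sub]
  have h2 : P.X₀.1 x⁻¹ = conj (P.X₀.1 x) := irr_inv P.X₀ x
  have h3 := P.real x
  unfold Bfun
  rw [h1, h2, ← h3, map_add, map_mul, map_intCast]

theorem Bfun_int (x : G) : IsIntegral ℤ (Bfun P x) := by
  obtain ⟨Φ, Ψ, hΦ, hΨ, hβ⟩ := P.gen_β
  unfold Bfun
  rw [hβ]
  have hε : IsIntegral ℤ ((P.ε : ℤ) : ℂ) := by
    simpa using (isIntegral_algebraMap (R := ℤ) (A := ℂ) (x := P.ε))
  exact ((isCharacter_isIntegral hΦ x).sub (isCharacter_isIntegral hΨ x)).add
    (hε.mul (Cfsg.Agent.H82.irr_isIntegral P.X₀ x))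

theorem Bfun_one : ∃ b : ℤ, Bfun P 1 = b := by
  obtain ⟨Φ, Ψ, hΦ, hΨ, hβ⟩ := P.gen_β
  obtain ⟨n1, h1, -⟩ := Cfsg.Agent.H82.isCharacter_one_nat hΦ
  obtain ⟨n2, h2, -⟩ := Cfsg.Agent.H82.isCharacter_one_nat hΨ
  obtain ⟨n3, -, h3⟩ := irr_one_eq_natCast P.X₀
  refine ⟨(n1 : ℤ) - n2 + P.ε * n3, ?_⟩
  unfold Bfun
  rw [hβ, Pi.sub_apply, h1, h2, h3]
  push_cast
  ring

theorem Bfun_triv : classInner (Bfun P) (trivialIrr G).1 = 1 := by
  have hne : P.X₀ ≠ trivialIrr G := fun h => P.triv_not_mem (h ▸ P.X₀_mem)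
  rw [Bfun_eq, classInner_add_left, classInner_smul_left, P.β_triv, irr_inner_ne hne, mul_zero,
    add_zero]

theorem Bfun_odd (hodd : Odd (Nat.card G)) (b : ℤ) (hb : Bfun P 1 = b) : Odd b := by
  have h := parity_lemma hodd (Bfun P) (trivialIrr G).1 (Bfun_inv P) (fun x => rfl)
    (fun x => by show conj (1 : ℂ) = 1; simp) (Bfun_int P)
    (fun x => by show IsIntegral ℤ (1 : ℂ); exact isIntegral_one) 1 b
    (by rw [Bfun_triv]; simp) (by rw [hb]; show (b : ℂ) * 1 = b; ring)
  obtain ⟨r, hr⟩ := h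
  exact ⟨-r, by omega⟩

end One

section Global2

variable {G : Type u} [Group G] [Fintype G] {ι : Type*} [Fintype ι] (L H : ι → Subgroup G)
  (hodd : Odd (Nat.card G))
  (hHn : ∀ i, ∀ x ∈ L i, ∀ h ∈ H i, x * h * x⁻¹ ∈ H i)
  (hcop : ∀ i j, i ≠ j → Nat.Coprime (Nat.card (H i)) (Nat.card (H j)))
  (hTI : ∀ i, Cfsg.IsTISubset (H i : Set G) ∧ Subgroup.normalizer (H i : Set G) = L i)
  (hcover : ∀ g : G, g ≠ 1 → ∃ i, ∃ x : G, x * g * x⁻¹ ∈ H i)
  (P : ∀ i, FrobPkg (H i))
  (c : ι → ι → ℤ)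
  (hc : ∀ i j, i ≠ j → classInner (P i).X₀.1 (P j).β = c i j ∧
    (c i j : ℝ) ^ 2 * (((P j).e * (P j).t : ℕ) : ℝ) / (P j).k ≤ offMass (H j) (P i).X₀.1)

include hTI in
theorem e_pos (j : ι) : (0 : ℝ) < (P j).e := by
  have h := card_L L H hTI P j
  have hpos : 0 < Nat.card (L j) := Nat.card_pos
  rw [h] at hpos
  have : 0 < (P j).e := Nat.pos_of_mul_pos_left hpos
  exact_mod_cast this

theorem k_pos (j : ι) : (0 : ℝ) < (P j).k := by
  have h := (P j).hk
  have : 0 < (P j).k := by omega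
  exact_mod_cast this

include hHn hcop hTI hcover hc in
theorem row_bound (i : ι) :
    ∑ j ∈ Finset.univ.erase i, ((c i j : ℝ)) ^ 2 * ((P j).t : ℝ) / ((P j).k : ℝ) ≤
      ((P i).e : ℝ) / ((P i).k : ℝ) := by
  have h := norm_formula L H hHn hcop hTI hcover P (P i).X₀.1 (irr_isClassFunction _)
  rw [irr_inner_self, Complex.one_re] at h
  rw [← Finset.add_sum_erase _ _ (Finset.mem_univ i)] at h
  have hown := (P i).own (P i).X₀ (P i).X₀_mem
  have hepos := e_pos L H hTI P
  have hkpos := k_pos H P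
  have h1 : 1 - ((P i).e : ℝ) / (P i).k ≤ offMass (H i) (P i).X₀.1 / (P i).e := by
    rw [le_div_iff₀ (hepos i)]
    have hk0 := (hkpos i).ne'
    calc (1 - ((P i).e : ℝ) / (P i).k) * (P i).e
        = ((P i).e : ℝ) * (((P i).k : ℝ) - (P i).e) / (P i).k := by field_simp
      _ ≤ offMass (H i) (P i).X₀.1 := hown
  have h2 : ∀ j ∈ Finset.univ.erase i, (c i j : ℝ) ^ 2 * (P j).t / (P j).k ≤
      offMass (H j) (P i).X₀.1 / (P j).e := by
    intro j hj
    have hji : i ≠ j := (Finset.ne_of_mem_erase hj).symm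
    have h3 := (hc i j hji).2
    rw [le_div_iff₀ (hepos j)]
    calc (c i j : ℝ) ^ 2 * (P j).t / (P j).k * (P j).e
        = (c i j : ℝ) ^ 2 * (((P j).e * (P j).t : ℕ) : ℝ) / (P j).k := by push_cast; ring
      _ ≤ offMass (H j) (P i).X₀.1 := h3
  have h3 := Finset.sum_le_sum h2
  have h4 : 0 ≤ Complex.normSq ((P i).X₀.1 1) / Nat.card G :=
    div_nonneg (Complex.normSq_nonneg _) (Nat.cast_nonneg _)
  linarith

include hcop hc in
theorem col_bound (i : ι) :
    ∑ j ∈ Finset.univ.erase i, ((P j).t : ℝ) * (c j i : ℝ) ^ 2 ≤ ((P i).e : ℝ) - 1 := by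
  obtain ⟨Φ, Ψ, hΦ, hΨ, hβ⟩ := (P i).gen_β
  have hcf : IsClassFunction G (P i).β := by
    rw [hβ]
    exact isClassFunction_sub (isClassFunction_of_isCharacter hΦ)
      (isClassFunction_of_isCharacter hΨ)
  have hb := bessel hcf (insert (trivialIrr G) (Finset.univ.biUnion (fun j => (P j).fam)))
  rw [(P i).β_norm] at hb
  have hre : ((((P i).e : ℂ) + 1).re) = (P i).e + 1 := by simp
  rw [hre] at hb
  have hnot : trivialIrr G ∉ Finset.univ.biUnion (fun j => (P j).fam) := by
    intro h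
    obtain ⟨j, -, hj⟩ := Finset.mem_biUnion.mp h
    exact (P j).triv_not_mem hj
  have hdisj : (↑(Finset.univ : Finset ι) : Set ι).PairwiseDisjoint (fun j => (P j).fam) := by
    intro j _ j' _ hjj'
    exact Finset.disjoint_left.mpr (fun X h1 h2 => fam_disj H hcop P j j' hjj' X h1 h2)
  rw [Finset.sum_insert hnot, Finset.sum_biUnion hdisj, (P i).β_triv, Complex.normSq_one,
    ← Finset.add_sum_erase _ _ (Finset.mem_univ i)] at hb
  have h1 : 1 ≤ ∑ X ∈ (P i).fam, Complex.normSq (classInner (P i).β X.1) := by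
    obtain ⟨X, hX, h⟩ := (P i).β_fam
    exact le_trans h (Finset.single_le_sum
      (f := fun X : IrrCharacter G => Complex.normSq (classInner (P i).β X.1))
      (fun _ _ => Complex.normSq_nonneg _) hX)
  have h2 : ∀ j ∈ Finset.univ.erase i,
      ∑ X ∈ (P j).fam, Complex.normSq (classInner (P i).β X.1) =
        ((P j).t : ℝ) * (c j i : ℝ) ^ 2 := by
    intro j hj
    have hji : j ≠ i := Finset.ne_of_mem_erase hj
    have hval : ∀ X ∈ (P j).fam, classInner (P i).β X.1 = (c j i : ℂ) := by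
      intro X hX
      have h0 := inner_zero_supp H hcop j i hji (X.1 - (P j).X₀.1) (P i).β
        (fun x hx => (P j).supp_fam X hX _ (P j).X₀_mem x hx) (P i).supp_β
      rw [classInner_sub_left, (hc j i hji).1, sub_eq_zero] at h0
      rw [← classInner_conj_symm, h0, map_intCast]
    rw [Finset.sum_congr rfl (fun X hX => by rw [hval X hX]), Finset.sum_const, (P j).card_fam,
      nsmul_eq_mul]
    congr 1
    rw [← Complex.ofReal_intCast, Complex.normSq_ofReal]
    ring
  rw [Finset.sum_congr rfl h2] at hb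
  linarith

include hodd hcop hc in
theorem parity_c (i j : ι) (hij : i ≠ j) (h0 : c i j = 0) : c j i ≠ 0 := by
  intro h0'
  obtain ⟨bi, hbi⟩ := Bfun_one (P i)
  obtain ⟨bj, hbj⟩ := Bfun_one (P j)
  have hoi := Bfun_odd (P i) hodd bi hbi
  have hoj := Bfun_odd (P j) hodd bj hbj
  have hinner : classInner (Bfun (P i)) (Bfun (P j)) =
      (((P j).ε * c j i + (P i).ε * c i j : ℤ) : ℂ) := by
    rw [Bfun_eq, Bfun_eq, classInner_add_left, classInner_add_right, classInner_add_right,
      classInner_smul_left, classInner_smul_right, classInner_smul_right,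
      inner_zero_supp H hcop i j hij _ _ (P i).supp_β (P j).supp_β, (hc i j hij).1]
    have h1 : classInner (P i).β (P j).X₀.1 = (c j i : ℂ) := by
      rw [← classInner_conj_symm, (hc j i hij.symm).1, map_intCast]
    have h2 : classInner (P i).X₀.1 (P j).X₀.1 = 0 :=
      irr_inner_ne (fun h => fam_disj H hcop P i j hij _ (P i).X₀_mem (h ▸ (P j).X₀_mem))
    rw [h1, classInner_smul_left, h2, map_intCast]
    push_cast
    ring
  have hpar := parity_lemma hodd (Bfun (P i)) (Bfun (P j)) (Bfun_inv _) (Bfun_inv _)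
    (Bfun_real _) (Bfun_int _) (Bfun_int _) _ (bi * bj) hinner (by
      rw [hbi, hbj]; push_cast; ring)
  rw [h0, h0'] at hpar
  have hodd' : Odd (bi * bj) := hoi.mul hoj
  simp only [mul_zero, add_zero, zero_sub, even_neg] at hpar
  exact (Int.not_even_iff_odd.mpr hodd') hpar

end Global2

/-- A group of odd order cannot be partitioned by the conjugates of TI Frobenius kernels of
pairwise coprime orders. -/
theorem frob_partition_false {G : Type u} [Group G] [Finite G] (hodd : Odd (Nat.card G))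
    {ι : Type*} [Fintype ι] [Nonempty ι] (L H : ι → Subgroup G)
    (hHL : ∀ i, H i < L i) (hH1 : ∀ i, H i ≠ ⊥)
    (hHn : ∀ i, ∀ x ∈ L i, ∀ h ∈ H i, x * h * x⁻¹ ∈ H i)
    (hfrob : ∀ i, ∀ h ∈ H i, h ≠ 1 → L i ⊓ Subgroup.centralizer ({h} : Set G) ≤ H i)
    (hcop : ∀ i j, i ≠ j → Nat.Coprime (Nat.card (H i)) (Nat.card (H j)))
    (hTI : ∀ i, Cfsg.IsTISubset (H i : Set G) ∧ Subgroup.normalizer (H i : Set G) = L i)
    (hcover : ∀ g : G, g ≠ 1 → ∃ i, ∃ x : G, x * g * x⁻¹ ∈ H i) : False := by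
  haveI : Fintype G := Fintype.ofFinite G
  have hC : ∀ i, ∀ k ∈ H i, k ≠ 1 → Subgroup.centralizer ({k} : Set G) ≤ H i := by
    intro i k hk hk1 x hx
    have hxk : x * k * x⁻¹ = k := by
      have := Subgroup.mem_centralizer_iff.mp hx k (Set.mem_singleton k)
      rw [← this]
      group
    have hxN : x ∈ Subgroup.normalizer (H i : Set G) := by
      by_contra hxN
      exact hk1 ((hTI i).1 x hxN k hk (by rw [hxk]; exact hk))
    rw [(hTI i).2] at hxN
    exact hfrob i k hk hk1 (Subgroup.mem_inf.mpr ⟨hxN, hx⟩)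
  have hcomm : ∀ i, commutator (KK (H i)) ≠ ⊤ := fun i =>
    frob_kernel_comm (H i) (L i) (hHL i) (hH1 i) (hTI i).2 (hfrob i)
  have hP : ∀ i, Nonempty (FrobPkg (H i)) := fun i =>
    exists_frobPkg hodd (H i) (hTI i).1 (hC i) (hcomm i)
  let P : ∀ i, FrobPkg (H i) := fun i => Classical.choice (hP i)
  have hcross : ∀ i j, ∃ cc : ℤ, i ≠ j → (classInner (P i).X₀.1 (P j).β = cc ∧
      (cc : ℝ) ^ 2 * (((P j).e * (P j).t : ℕ) : ℝ) / (P j).k ≤ offMass (H j) (P i).X₀.1) := by
    intro i j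
    by_cases hij : i = j
    · exact ⟨0, fun h => absurd hij h⟩
    · obtain ⟨cc, hcc⟩ := (P j).cross (P i).X₀
        (fun hmem => fam_disj H hcop P i j hij _ (P i).X₀_mem hmem)
      exact ⟨cc, fun _ => hcc⟩
  choose c hc using hcross
  have hrow := fun i => row_bound L H hHn hcop hTI hcover P c hc i
  have hcol := fun i => col_bound H hcop P c hc i
  have hpar := fun i j hij h0 => parity_c H hodd hcop P c hc i j hij h0
  have hcardL := fun i => card_L L H hTI P i
  have hLdvd : ∀ i, Nat.card (L i) ∣ Nat.card G := fun i => Subgroup.card_subgroup_dvd_card (L i)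
  have hHdvd : ∀ i, Nat.card (H i) ∣ Nat.card G := fun i => Subgroup.card_subgroup_dvd_card (H i)
  have heodd : ∀ i, Odd (P i).e := fun i =>
    hodd.of_dvd_nat ((Dvd.intro_left _ (hcardL i).symm).trans (hLdvd i))
  have he3 : ∀ i, 3 ≤ (P i).e := by
    intro i
    have h1 : (P i).e ≠ 1 := by
      intro h1
      have hc' := hcardL i
      rw [h1, mul_one] at hc'
      exact (hHL i).ne (Subgroup.eq_of_le_of_card_ge (hHL i).le hc'.le)
    obtain ⟨b, hb⟩ := heodd i
    omega
  have hkodd : ∀ i, Odd (P i).k := fun i => hodd.of_dvd_nat (((P i).k_dvd).trans (hHdvd i))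
  have hteven : ∀ i, Even (P i).t := by
    intro i
    have h1 := hkodd i
    rw [(P i).hk] at h1
    have h2 : Even ((P i).e * (P i).t) := by
      rcases Nat.even_or_odd ((P i).e * (P i).t) with h | h
      · exact h
      · exfalso
        exact (Nat.not_even_iff_odd.mpr h1) h.add_one
    rcases Nat.even_mul.mp h2 with h | h
    · exact absurd h (Nat.not_even_iff_odd.mpr (heodd i))
    · exact h
  have hkinj : ∀ i j, i ≠ j → (P i).k ≠ (P j).k := by
    intro i j hij h
    have d1 := (P i).k_dvd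
    have d2 := (P j).k_dvd
    rw [← h] at d2
    have d3 : (P i).k ∣ 1 := by
      have := Nat.dvd_gcd d1 d2
      rwa [hcop i j hij] at this
    have h1 : (P i).k = 1 := Nat.dvd_one.mp d3
    have h2 := (P i).hk
    have h3 := he3 i
    have h4 := (P i).ht
    have h5 : 0 < (P i).e * (P i).t := Nat.mul_pos (by omega) (by omega)
    omega
  obtain ⟨i, -, hmin⟩ := Finset.exists_min_image Finset.univ (fun i => (P i).e)
    Finset.univ_nonempty
  have hnum : ∑ j ∈ Finset.univ.erase i, (1 : ℝ) / ((P j).e : ℝ) < 1 - 1 / ((P i).e : ℝ) :=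
    frob_numeric (fun i => (P i).e) (fun i => (P i).t) (fun i => (P i).k) c (fun i => (P i).hk)
      he3 heodd (fun i => (P i).ht) hteven hkinj hpar hrow hcol i
      (fun j => hmin j (Finset.mem_univ j))
  have hunity := unity_formula L H hHn hcop hTI hcover P
  rw [← Finset.add_sum_erase _ _ (Finset.mem_univ i)] at hunity
  have hEpos : ∀ j, (0 : ℝ) < (P j).e := fun j => by
    have := he3 j
    exact_mod_cast (by omega : 0 < (P j).e)
  have hHpos : ∀ j, (0 : ℝ) < Nat.card (H j) := fun j => by exact_mod_cast Nat.card_pos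
  have hterm : ∀ j ∈ Finset.univ.erase i,
      ((Nat.card (H j) : ℝ) - 1) / ((Nat.card (H j) : ℝ) * (P j).e) ≤ 1 / ((P j).e : ℝ) := by
    intro j _
    have hH := hHpos j
    have hE := hEpos j
    rw [div_le_div_iff₀ (by positivity) hE]
    nlinarith
  have hsum := Finset.sum_le_sum hterm
  have hH := hHpos i
  have hE := hEpos i
  have hi_term : ((Nat.card (H i) : ℝ) - 1) / ((Nat.card (H i) : ℝ) * (P i).e) =
      1 / ((P i).e : ℝ) - 1 / ((Nat.card (H i) : ℝ) * (P i).e) := by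
    field_simp
  have hle : (Nat.card (L i) : ℝ) ≤ Nat.card G := by
    exact_mod_cast Nat.le_of_dvd Nat.card_pos (hLdvd i)
  rw [hcardL i] at hle
  push_cast at hle
  have h6 := one_div_le_one_div_of_le (by positivity) hle
  linarith

end Cfsg.Agent.H31
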