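import Mathlib
import Cfsg.Agent.H31.FP8
import Cfsg.Agent.H31.FHT6
import Cfsg.Agent.S1473

/-!
# The CN-theorem for odd order (helper31)

A finite CN-group of odd order is solvable (Feit--Hall--Thompson).  The minimal counterexample is
a minimal simple CN-group of odd order; by `fht_partition` and `fht_part1` its non-identity
elements are partitioned by the conjugates of the Frobenius kernels of representatives of the
classes of maximal subgroups, which contradicts `frob_partition_false`.
-/

set_option autoImplicit false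
set_option linter.style.haveILetI false

namespace Cfsg.Agent.H31

open Cfsg

universe u

section Reps

variable {G : Type u} [Group G]

theorem cnt_map_conj_mul (A : Subgroup G) (g h : G) :
    (A.map (MulAut.conj g).toMonoidHom).map (MulAut.conj h).toMonoidHom =
      A.map (MulAut.conj (h * g)).toMonoidHom := by
  rw [Subgroup.map_map]
  congr 1
  ext x
  simp [mul_assoc]

theorem cnt_map_conj_one (A : Subgroup G) :
    A.map (MulAut.conj (1 : G)).toMonoidHom = A := by
  ext x
  simp [Subgroup.mem_map]

/-- Representatives of the conjugacy classes of maximal subgroups. -/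
theorem exists_coatom_reps (G : Type u) [Group G] [Finite G] :
    ∃ (k : ℕ) (Mrep : Fin k → Subgroup G), (∀ i, IsCoatom (Mrep i)) ∧
      (∀ i j, i ≠ j → ∀ g : G, Mrep j ≠ (Mrep i).map (MulAut.conj g).toMonoidHom) ∧
      (∀ M : Subgroup G, IsCoatom M →
        ∃ i, ∃ g : G, M = (Mrep i).map (MulAut.conj g).toMonoidHom) := by
  classical
  let S : Setoid {M : Subgroup G // IsCoatom M} :=
    { r := fun A B => ∃ g : G, B.1 = A.1.map (MulAut.conj g).toMonoidHom
      iseqv :=
        ⟨fun A => ⟨1, (cnt_map_conj_one A.1).symm⟩,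
         fun {A B} h => by
           obtain ⟨g, hg⟩ := h
           refine ⟨g⁻¹, ?_⟩
           rw [hg, cnt_map_conj_mul, inv_mul_cancel, cnt_map_conj_one],
         fun {A B C} h1 h2 => by
           obtain ⟨g, hg⟩ := h1
           obtain ⟨h, hh⟩ := h2
           refine ⟨h * g, ?_⟩
           rw [hh, hg, cnt_map_conj_mul]⟩ }
  haveI : Finite (Quotient S) := Quotient.finite S
  let e := Finite.equivFin (Quotient S)
  refine ⟨Nat.card (Quotient S), fun i => (Quotient.out (e.symm i)).1,
    fun i => (Quotient.out (e.symm i)).2, ?_, ?_⟩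
  · intro i j hij g hg
    apply hij
    have h1 : S.r (Quotient.out (e.symm i)) (Quotient.out (e.symm j)) := ⟨g, hg⟩
    have h2 : (⟦Quotient.out (e.symm i)⟧ : Quotient S) = ⟦Quotient.out (e.symm j)⟧ :=
      Quotient.sound h1
    rw [Quotient.out_eq, Quotient.out_eq] at h2
    exact e.symm.injective h2
  · intro M hM
    refine ⟨e (⟦⟨M, hM⟩⟧ : Quotient S), ?_⟩
    have h1 : S.r (Quotient.out (e.symm (e (⟦⟨M, hM⟩⟧ : Quotient S)))) ⟨M, hM⟩ := by
      rw [Equiv.symm_apply_apply]
      exact Quotient.exact (Quotient.out_eq _)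
    exact h1

end Reps

section Simple

variable {G : Type u} [Group G] [Finite G]

/-- There is no minimal simple CN-group of odd order. -/
theorem cn_simple_false (hG : IsMinSimpleOddOrder G) (hCN : IsCNGroup G) : False := by
  obtain ⟨k, Mrep, hmax, hnc, hall⟩ := exists_coatom_reps G
  obtain ⟨hcop, -, hcov⟩ := fht_partition hG hCN k Mrep hmax hnc hall
  have hK : ∀ i, FrobKer (Mrep i) (fittingHallOf (Mrep i)) ∧
      (∀ L : Subgroup G, Group.IsNilpotent L → fittingHallOf (Mrep i) ≤ L →
        L = fittingHallOf (Mrep i)) := by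
    intro i
    obtain ⟨q, hq, Q, hQ0, hMQ⟩ := fht_coatom_eq hG hCN (Mrep i) (hmax i)
    haveI := hq
    obtain ⟨hK, hQK⟩ := fht_frobKer hG hCN Q hQ0
    rw [← hMQ] at hK hQK
    refine ⟨hK, ?_⟩
    intro L hL hKL
    have hLM : L ≤ Mrep i := by
      rw [hMQ]
      exact nilpotent_le_normalizer_sylow hL Q (hQK.trans hKL)
    apply le_antisymm _ hKL
    apply hK.le_of_nilpotent hLM hL
    rw [inf_of_le_right hKL]
    exact hK.ne_bot
  haveI : Nonempty (Fin k) := by
    obtain ⟨i, -⟩ := hcov 1
    exact ⟨i⟩
  refine frob_partition_false hG.1 Mrep (fun i => fittingHallOf (Mrep i)) ?_ ?_ ?_ ?_ hcop ?_ ?_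
  · intro i
    obtain ⟨hKi, -⟩ := hK i
    refine lt_of_le_of_ne hKi.le ?_
    intro heq
    obtain ⟨E, hE, hE0⟩ := hKi.compl
    apply hE0
    rw [eq_bot_iff]
    intro e he
    have h1 : e ∈ fittingHallOf (Mrep i) ⊓ E := by
      refine Subgroup.mem_inf.mpr ⟨?_, he⟩
      rw [heq]
      exact hE.2.1 he
    rw [hE.2.2.1] at h1
    exact h1
  · intro i
    exact (hK i).1.ne_bot
  · intro i x hx h hh
    have h1 := (hK i).1.norm hx
    rw [Subgroup.mem_normalizer_iff] at h1
    exact (h1 h).mp hh
  · intro i h hh h1 u hu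
    obtain ⟨hu1, hu2⟩ := Subgroup.mem_inf.mp hu
    by_contra huK
    apply h1
    refine (hK i).1.fpf hu1 huK hh ?_
    rw [Subgroup.mem_centralizer_iff] at hu2
    exact hu2 h rfl
  · intro i
    obtain ⟨hKi, hmaxi⟩ := hK i
    obtain ⟨-, hTI, -, -⟩ := fht_part1 hG hCN _ hKi.nil hmaxi
    have hN : Subgroup.normalizer (fittingHallOf (Mrep i) : Set G) = Mrep i := by
      by_contra hne
      have hlt : Mrep i < Subgroup.normalizer (fittingHallOf (Mrep i) : Set G) :=
        lt_of_le_of_ne hKi.norm (Ne.symm hne)
      exact fht_normalizer_ne_top hG hKi.ne_bot (fht_ne_top_of_nilpotent hG hKi.nil)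
        ((hmax i).2 _ hlt)
    refine ⟨?_, hN⟩
    intro g hg x hx hgx
    by_contra hx1
    have hne : (fittingHallOf (Mrep i)).map (MulAut.conj g⁻¹).toMonoidHom ≠
        fittingHallOf (Mrep i) := by
      intro heq
      apply hg
      have h1 : g⁻¹ ∈ Subgroup.normalizer (fittingHallOf (Mrep i) : Set G) :=
        Subgroup.mem_normalizer_iff_map_conj_eq.mpr heq
      have h2 := inv_mem h1
      rwa [inv_inv] at h2
    have h3 := hTI g⁻¹ hne
    have hmem : x ∈ fittingHallOf (Mrep i) ⊓
        (fittingHallOf (Mrep i)).map (MulAut.conj g⁻¹).toMonoidHom := by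
      refine Subgroup.mem_inf.mpr ⟨hx, ?_⟩
      refine ⟨g * x * g⁻¹, hgx, ?_⟩
      simp [mul_assoc]
    rw [h3] at hmem
    exact hx1 hmem
  · intro g _
    obtain ⟨i, x, hx⟩ := hcov g
    exact ⟨i, x, hx⟩

end Simple

section Solvable

/-- The CN-theorem for odd order, by induction on the order. -/
theorem cn_solvable : ∀ (n : ℕ) (G : Type u) [Group G] [Finite G], Nat.card G = n →
    Odd (Nat.card G) → IsCNGroup G → Group.IsSolvable G := by
  intro n
  induction n using Nat.strong_induction_on with
  | _ n ih =>
    intro G _ _ hn hodd hCN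
    -- proper subgroups are solvable
    have hsub : ∀ X : Subgroup G, X ≠ ⊤ → Group.IsSolvable X := by
      intro X hX
      have hlt : Nat.card X < n := by
        rw [← hn]
        apply lt_of_le_of_ne (Subgroup.card_le_card_group X)
        intro h
        exact hX (Subgroup.card_eq_iff_eq_top X |>.mp h)
      exact ih _ hlt X rfl (Odd.of_dvd_nat hodd (Subgroup.card_subgroup_dvd_card X))
        (fht_cn_sub hCN X)
    by_cases hsimple : IsSimpleGroup G
    · by_cases hcomm : IsMulCommutative G
      · haveI := hsimple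
        exact (IsSimpleGroup.comm_iff_isSolvable (G := G)).mp (fun a b => hcomm.is_comm.comm a b)
      · exact (cn_simple_false ⟨hodd, hsimple, hcomm, hsub⟩ hCN).elim
    · by_cases hnt : Nontrivial G
      · -- a proper nontrivial normal subgroup
        have hex : ∃ N : Subgroup G, N.Normal ∧ N ≠ ⊥ ∧ N ≠ ⊤ := by
          by_contra hcon
          push Not at hcon
          apply hsimple
          haveI := hnt
          refine ⟨fun N hN => ?_⟩
          by_cases h0 : N = ⊥
          · exact Or.inl h0
          · exact Or.inr (hcon N hN h0)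
        obtain ⟨N, hNn, hN0, hNtop⟩ := hex
        haveI := hNn
        have hNs : Group.IsSolvable N := hsub N hNtop
        have hq : IsCNGroup (G ⧸ N) := Cfsg.Agent.S1473.result hCN N hNs
        have hcard : Nat.card G = Nat.card (G ⧸ N) * Nat.card N :=
          Subgroup.card_eq_card_quotient_mul_card_subgroup N
        have hN1 : 1 < Nat.card N := by
          rw [Subgroup.one_lt_card_iff_ne_bot]
          exact hN0
        have hqlt : Nat.card (G ⧸ N) < n := by
          rw [← hn, hcard]
          have hpos : 0 < Nat.card (G ⧸ N) := Nat.card_pos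
          nlinarith
        have hqodd : Odd (Nat.card (G ⧸ N)) :=
          Odd.of_dvd_nat hodd (Dvd.intro _ hcard.symm)
        have hqs : Group.IsSolvable (G ⧸ N) := ih _ hqlt (G ⧸ N) rfl hqodd hq
        exact solvable_of_ker_le_range N.subtype (QuotientGroup.mk' N) (by simp)
      · rw [not_nontrivial_iff_subsingleton] at hnt
        haveI := hnt
        infer_instance

end Solvable

end Cfsg.Agent.H31
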