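import Mathlib
import Cfsg.Agent.H87.CenDefs
import Cfsg.Agent.H88.Puig
import Cfsg.Agent.H88.Ess

set_option autoImplicit false
set_option maxHeartbeats 400000

/-!
In the configuration `CCfg` (a normal subsystem `E` over `T` inside `F` over `S`, and a saturated
subsystem `D` over `T C_S(T)`): if `C_S(T)` is abelian modulo `T` and the automorphisms of order
prime to `p` in `Aut_F(R)` (`T ≤ R ≤ T C_S(T)`) that are trivial on `T` are trivial, then every
map of `D` acts trivially modulo `T`.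
-/

namespace Cfsg.Agent.H31.Cen

open Cfsg Cfsg.FusionSystem Cfsg.Agent.H86 Cfsg.Agent.H87 Cfsg.Agent.H88

universe u

variable {Ω : Type u} [Group Ω] {S T : Subgroup Ω}

/-- An element two coprime powers of which lie in a subgroup lies in that subgroup. -/
lemma mem_of_pow_mem_of_coprime {G : Type*} [Group G] (N : Subgroup G) (g : G) {m n : ℕ}
    (hm : g ^ m ∈ N) (hn : g ^ n ∈ N) (hc : m.Coprime n) : g ∈ N := by
  have h1 : (1 : ℤ) = (m : ℤ) * Nat.gcdA m n + (n : ℤ) * Nat.gcdB m n := by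
    rw [← Nat.gcd_eq_gcd_ab, hc]
    simp
  have h2 : g = (g ^ m) ^ (Nat.gcdA m n) * (g ^ n) ^ (Nat.gcdB m n) := by
    rw [← zpow_natCast, ← zpow_natCast, ← zpow_mul, ← zpow_mul, ← zpow_add, ← h1, zpow_one]
  rw [h2]
  exact N.mul_mem (N.zpow_mem hm _) (N.zpow_mem hn _)

/-- Raising an element of finite order to the `p`-part of its order gives an element of order
prime to `p`. -/
lemma orderOf_pow_ordProj_coprime {G : Type*} [Group G] (g : G) (hg : orderOf g ≠ 0) (p : ℕ)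
    [hp : Fact p.Prime] : (orderOf (g ^ (p ^ (orderOf g).factorization p))).Coprime p := by
  have hne : p ^ (orderOf g).factorization p ≠ 0 := pow_ne_zero _ hp.out.ne_zero
  rw [orderOf_pow' g hne, Nat.gcd_eq_right (Nat.ordProj_dvd _ _)]
  exact (Nat.coprime_ordCompl hp.out hg).symm

/-- Elements of `T C_S(T)` factor as `c * t`. -/
lemma exists_mul_of_mem_sup (hnorm : S ≤ Subgroup.normalizer (T : Set Ω)) {x : Ω}
    (hx : x ∈ T ⊔ centralizerIn S T) : ∃ c ∈ centralizerIn S T, ∃ t ∈ T, x = c * t := by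
  have hle : centralizerIn S T ≤ Subgroup.normalizer (T : Set Ω) :=
    (inf_le_left : centralizerIn S T ≤ S).trans hnorm
  have hcoe := Subgroup.coe_mul_of_left_le_normalizer_right (centralizerIn S T) T hle
  have hx' : x ∈ ((centralizerIn S T ⊔ T : Subgroup Ω) : Set Ω) := by
    rw [sup_comm]; exact hx
  rw [hcoe] at hx'
  obtain ⟨c, hc, t, ht, rfl⟩ := Set.mem_mul.1 hx'
  exact ⟨c, hc, t, ht, rfl⟩

/-- `T C_S(T)` is abelian modulo `T` as soon as `C_S(T)` is. -/
lemma comm_mem_of_mem_sup {F : FusionSystem S} (hT : F.StronglyClosed T)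
    (hComm : ∀ c ∈ centralizerIn S T, ∀ c' ∈ centralizerIn S T, c * c' * c⁻¹ * c'⁻¹ ∈ T)
    {x g : Ω} (hx : x ∈ T ⊔ centralizerIn S T) (hg : g ∈ T ⊔ centralizerIn S T) :
    x⁻¹ * (g * x * g⁻¹) ∈ T := by
  have hnorm := stronglyClosed_le_normalizer hT
  obtain ⟨c, hc, t, ht, rfl⟩ := exists_mul_of_mem_sup hnorm hx
  obtain ⟨c', hc', t', ht', rfl⟩ := exists_mul_of_mem_sup hnorm hg
  have hcS : c ∈ S := (inf_le_left : centralizerIn S T ≤ S) hc
  have hc'S : c' ∈ S := (inf_le_left : centralizerIn S T ≤ S) hc'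
  have e : (c * t)⁻¹ * (c' * t' * (c * t) * (c' * t')⁻¹) =
      t⁻¹ * ((c⁻¹ * c') * t' * (c⁻¹ * c')⁻¹) * (c⁻¹ * c' * c⁻¹⁻¹ * c'⁻¹) *
        (c' * (t * t'⁻¹) * c'⁻¹) := by group
  rw [e]
  refine T.mul_mem (T.mul_mem (T.mul_mem (T.inv_mem ht) ?_) ?_) ?_
  · exact stronglyClosed_conj_mem hT (S.mul_mem (S.inv_mem hcS) hc'S) ht'
  · exact hComm c⁻¹ ((centralizerIn S T).inv_mem hc) c' hc'
  · exact stronglyClosed_conj_mem hT hc'S (T.mul_mem ht (T.inv_mem ht'))

/-- A map on `T C_S(T)` preserving `T` and trivial modulo `T` on `C_S(T)` is trivial modulo `T`. -/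
lemma mod_of_ext {F : FusionSystem S} (hT : F.StronglyClosed T) {b : Ω → Ω}
    (hb : Mor F (T ⊔ centralizerIn S T) b) (hbT : ∀ x ∈ T, b x ∈ T)
    (hbC : ∀ c ∈ centralizerIn S T, c⁻¹ * b c ∈ T) :
    ∀ x ∈ T ⊔ centralizerIn S T, x⁻¹ * b x ∈ T := by
  intro x hx
  have hnorm := stronglyClosed_le_normalizer hT
  obtain ⟨c, hc, t, ht, rfl⟩ := exists_mul_of_mem_sup hnorm hx
  rw [hb.map_mul (Subgroup.mem_sup_right hc) (Subgroup.mem_sup_left ht)]
  have e : (c * t)⁻¹ * (b c * b t) = t⁻¹ * (c⁻¹ * b c) * b t := by group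
  rw [e]
  exact T.mul_mem (T.mul_mem (T.inv_mem ht) (hbC c hc)) (hbT t ht)

/-- Powers of an automorphism fixing `T` pointwise fix `T` pointwise. -/
lemma autFun_pow_fix {R : Subgroup Ω} (hTR : T ≤ R) (h : MulAut R)
    (hh : ∀ x ∈ T, autFun R h x = x) (n : ℕ) : ∀ x ∈ T, autFun R (h ^ n) x = x := by
  induction n with
  | zero =>
    intro x hx
    rw [pow_zero, autFun_one (hTR hx)]
  | succ n ih =>
    intro x hx
    rw [pow_succ, autFun_mul _ _ (hTR hx), hh x hx, ih x hx]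

/-- The automorphisms of order prime to `p` in `Aut_D(R)`, `T ≤ R`, are trivial modulo `T`. -/
lemma mod_of_coprime [Finite S] {p : ℕ} [Fact p.Prime] {F : FusionSystem S}
    {E : FusionSystem T} {D : FusionSystem (T ⊔ centralizerIn S T)} (hC : CCfg p F E D)
    (hP : ∀ R : Subgroup Ω, T ≤ R → R ≤ T ⊔ centralizerIn S T → ∀ h : MulAut R,
      h ∈ F.autGroup R → (∀ x ∈ T, autFun R h x = x) → (orderOf h).Coprime p → h = 1)
    {R : Subgroup Ω} (hTR : T ≤ R) (hR : R ≤ T ⊔ centralizerIn S T) (α : MulAut R)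
    (hα : α ∈ D.autGroup R) (hcop : (orderOf α).Coprime p) :
    ∀ x : R, (x : Ω)⁻¹ * ((α x : R) : Ω) ∈ T := by
  have hTS : T ≤ S := hC.sc.1
  have hS0S : T ⊔ centralizerIn S T ≤ S := sup_le hTS inf_le_left
  have hRS : R ≤ S := hR.trans hS0S
  haveI : Finite R := finite_of_le hRS
  haveI : Finite T := finite_of_le hTS
  have hαD : Mor D R (autFun R α) := (mem_autGroup_iff hR α).1 hα
  have hαF : Mor F R (autFun R α) := hC.leDF _ _ hαD
  have hαFmem : α ∈ F.autGroup R := (mem_autGroup_iff hRS α).2 hαF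
  have hαE : Mor E T (autFun R α) := hC.res T _ le_rfl (hαD.restrict hTR)
  have hαT : ∀ x ∈ T, autFun R α x ∈ T := fun x hx =>
    (stronglyClosed_iff.1 hC.sc).2 T _ le_rfl (hαF.restrict hTR) x hx
  have himgT : imgS T (autFun R α) = T := imgS_eq_of_maps hαE hαT
  obtain ⟨b, hb, hbT, hbC⟩ := hC.ext (mkAut hαE himgT) (mkAut_mem hαE himgT)
  have hbT' : ∀ x ∈ T, b x = autFun R α x := fun x hx => by
    rw [hbT x hx, autFun_mkAut hαE himgT hx]
  have hbmod : ∀ x ∈ T ⊔ centralizerIn S T, x⁻¹ * b x ∈ T :=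
    mod_of_ext hC.sc hb (fun x hx => by rw [hbT' x hx]; exact hαT x hx) hbC
  have hbR : Mor F R b := hb.restrict hR
  have hbRmaps : ∀ x ∈ R, b x ∈ R := by
    intro x hx
    have e : b x = x * (x⁻¹ * b x) := by group
    rw [e]
    exact R.mul_mem hx (hTR (hbmod x (hR hx)))
  have himgR : imgS R b = R := imgS_eq_of_maps hbR hbRmaps
  have hB : mkAut hbR himgR ∈ F.autGroup R := mkAut_mem hbR himgR
  obtain ⟨B, hBdef⟩ : ∃ B : MulAut R, B = mkAut hbR himgR := ⟨_, rfl⟩
  rw [← hBdef] at hB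
  have hBfun : ∀ x ∈ R, autFun R B x = b x := fun x hx => by
    rw [hBdef]; exact autFun_mkAut hbR himgR hx
  have hh : B⁻¹ * α ∈ F.autGroup R := (F.autGroup R).mul_mem ((F.autGroup R).inv_mem hB) hαFmem
  have hhT : ∀ x ∈ T, autFun R (B⁻¹ * α) x = x := by
    intro x hx
    rw [autFun_mul _ _ (hTR hx), ← hbT' x hx, ← hBfun x (hTR hx), autFun_inv_apply B (hTR hx)]
  haveI : Finite (MulAut R) := inferInstance
  have hord : orderOf (B⁻¹ * α) ≠ 0 := (orderOf_pos _).ne'
  have h1 : (B⁻¹ * α) ^ (p ^ (orderOf (B⁻¹ * α)).factorization p) = 1 :=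
    hP R hTR hR _ ((F.autGroup R).pow_mem hh _) (autFun_pow_fix hTR _ hhT _)
      (orderOf_pow_ordProj_coprime _ hord p)
  -- pass to `Aut_F(R)` and its normal subgroup of automorphisms trivial modulo `T`
  have hMn : (modAuts F T R).Normal := modAuts_normal hC.sc hRS
  have hBM : (⟨B, hB⟩ : F.autGroup R) ∈ modAuts F T R := by
    intro x
    have := hbmod x (hR x.2)
    rw [← hBfun x x.2, autFun_apply] at this
    exact this
  have hα_eq : (⟨α, hαFmem⟩ : F.autGroup R) = ⟨B, hB⟩ * ⟨B⁻¹ * α, hh⟩ := by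
    apply Subtype.ext
    show α = B * (B⁻¹ * α)
    group
  have hpow : (⟨α, hαFmem⟩ : F.autGroup R) ^ (p ^ (orderOf (B⁻¹ * α)).factorization p) ∈
      modAuts F T R := by
    rw [← QuotientGroup.eq_one_iff, QuotientGroup.mk_pow, hα_eq, QuotientGroup.mk_mul,
      (QuotientGroup.eq_one_iff _).2 hBM, one_mul, ← QuotientGroup.mk_pow, QuotientGroup.eq_one_iff]
    have e : (⟨B⁻¹ * α, hh⟩ : F.autGroup R) ^ (p ^ (orderOf (B⁻¹ * α)).factorization p) = 1 := by
      apply Subtype.ext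
      rw [Subgroup.coe_pow]
      exact h1
    rw [e]
    exact Subgroup.one_mem _
  have hpow2 : (⟨α, hαFmem⟩ : F.autGroup R) ^ (orderOf α) ∈ modAuts F T R := by
    have e : (⟨α, hαFmem⟩ : F.autGroup R) ^ (orderOf α) = 1 := by
      apply Subtype.ext
      rw [Subgroup.coe_pow]
      exact pow_orderOf_eq_one α
    rw [e]
    exact Subgroup.one_mem _
  have hc : (p ^ (orderOf (B⁻¹ * α)).factorization p).Coprime (orderOf α) :=
    Nat.Coprime.pow_left _ hcop.symm
  have hfin := mem_of_pow_mem_of_coprime (modAuts F T R) _ hpow hpow2 hc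
  exact fun x => hfin x

/-- **S5201-MOD.** Every map of `D` acts trivially modulo `T`. -/
theorem mor_mod [Finite S] {p : ℕ} [Fact p.Prime] (hS : IsPGroup p S) {F : FusionSystem S}
    {E : FusionSystem T} {D : FusionSystem (T ⊔ centralizerIn S T)} (hC : CCfg p F E D)
    (hComm : ∀ c ∈ centralizerIn S T, ∀ c' ∈ centralizerIn S T, c * c' * c⁻¹ * c'⁻¹ ∈ T)
    (hP : ∀ R : Subgroup Ω, T ≤ R → R ≤ T ⊔ centralizerIn S T → ∀ h : MulAut R,
      h ∈ F.autGroup R → (∀ x ∈ T, autFun R h x = x) → (orderOf h).Coprime p → h = 1) :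
    ∀ (P : Subgroup Ω) (f : Ω → Ω), Mor D P f → ∀ x ∈ P, x⁻¹ * f x ∈ T := by
  have hTS : T ≤ S := hC.sc.1
  have hS0S : T ⊔ centralizerIn S T ≤ S := sup_le hTS inf_le_left
  haveI : Finite (T ⊔ centralizerIn S T : Subgroup Ω) := finite_of_le hS0S
  have hS0 : IsPGroup p (T ⊔ centralizerIn S T : Subgroup Ω) := hS.to_le hS0S
  have hTD : D.StronglyClosed T := stronglyClosed_iff.2 ⟨le_sup_left, fun R f hR hf x hx =>
    (stronglyClosed_iff.1 hC.sc).2 R f hR (hC.leDF R f hf) x hx⟩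
  obtain ⟨pred, hpred⟩ : ∃ pred : Subgroup Ω → (Ω → Ω) → Prop,
      pred = fun P f => ∀ x ∈ P, x⁻¹ * f x ∈ T := ⟨_, rfl⟩
  have hcongr : ∀ (P : Subgroup Ω) (f g : Ω → Ω), Mor D P f → (∀ x ∈ P, f x = g x) →
      pred P f → pred P g := by
    subst hpred
    intro P f g _ hfg hf x hx
    rw [← hfg x hx]; exact hf x hx
  have hconj : ∀ (P : Subgroup Ω) (g : Ω), P ≤ T ⊔ centralizerIn S T →
      g ∈ T ⊔ centralizerIn S T → pred P (fun x => g * x * g⁻¹) := by
    subst hpred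
    intro P g hP hg x hx
    exact comm_mem_of_mem_sup hC.sc hComm (hP hx) hg
  have hcomp : ∀ (P R : Subgroup Ω) (f g : Ω → Ω), Mor D P f → Mor D R g →
      (∀ x ∈ P, f x ∈ R) → pred P f → pred R g → pred P (g ∘ f) := by
    subst hpred
    intro P R f g _ _ hm hf hg x hx
    have h1 := hf x hx
    have h2 := hg (f x) (hm x hx)
    have e : x⁻¹ * (g ∘ f) x = (x⁻¹ * f x) * ((f x)⁻¹ * g (f x)) := by
      show x⁻¹ * g (f x) = _
      group
    rw [e]; exact T.mul_mem h1 h2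
  have hinv : ∀ (P : Subgroup Ω) (f : Ω → Ω), Mor D P f → pred P f →
      pred (imgS P f) (invOn P f) := by
    subst hpred
    intro P f hf hpf y hy
    obtain ⟨x, hx, rfl⟩ := hf.mem_imgS.1 hy
    rw [invOn_apply hf.injOn hx]
    have := T.inv_mem (hpf x hx)
    simpa [mul_inv_rev] using this
  have key : ∀ (P : Subgroup Ω) (f : Ω → Ω), Mor D P f →
      Mor (subSys D pred hcongr hconj hcomp hinv) P f := by
    refine alperin_induction hS0 hC.satD (subSys D pred hcongr hconj hcomp hinv) ?_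
    intro R hRa hRr IH α hα
    have hRS0 : R ≤ T ⊔ centralizerIn S T := hRa.1
    have hαm : Mor D R (autFun R α) := (mem_autGroup_iff hRS0 α).1 hα
    rw [mem_autGroup_iff hRS0, mor_subSys_iff]
    refine ⟨hαm, ?_⟩
    by_cases hTR : T ≤ R
    · haveI : Finite R := finite_of_le hRS0
      haveI : Finite (MulAut R) := inferInstance
      obtain ⟨P₀, hP₀⟩ := hRa.2
      have hMn : (modAuts D T R).Normal := modAuts_normal hTD hRS0
      have hP₀M : (P₀ : Subgroup (D.autGroup R)) ≤ modAuts D T R := by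
        rw [hP₀]
        intro β hβ x
        obtain ⟨g, hg, H⟩ := (mem_autInducedBy_iff _ R _).1 (Subgroup.mem_subgroupOf.1 hβ)
        rw [H]
        exact comm_mem_of_mem_sup hC.sc hComm (hRS0 x.2) hg
      have hidx : ¬ p ∣ (modAuts D T R).index := fun h =>
        P₀.not_dvd_index (h.trans (Subgroup.index_dvd_of_le hP₀M))
      have hall : ∀ β : D.autGroup R, β ∈ modAuts D T R := by
        intro β
        have hord : orderOf (β : MulAut R) ≠ 0 := (orderOf_pos _).ne'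
        have h1 : β ^ (p ^ (orderOf (β : MulAut R)).factorization p) ∈ modAuts D T R := by
          intro x
          exact mod_of_coprime hC hP hTR hRS0 _ ((D.autGroup R).pow_mem β.2 _)
            (orderOf_pow_ordProj_coprime _ hord p) x
        have h2 : β ^ (modAuts D T R).index ∈ modAuts D T R := Subgroup.pow_index_mem _ β
        have hc : (p ^ (orderOf (β : MulAut R)).factorization p).Coprime (modAuts D T R).index :=
          Nat.Coprime.pow_left _ ((Nat.Prime.coprime_iff_not_dvd (Fact.out)).2 hidx)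
        exact mem_of_pow_mem_of_coprime _ β h1 h2 hc
      subst hpred
      intro x hx
      have := hall ⟨α, hα⟩ ⟨x, hx⟩
      rwa [autFun_of_mem α hx]
    · obtain ⟨f', hf', hff'⟩ := exists_extension_mod hS0 hC.satD hTD hαm
      have hlt : R < R ⊔ T :=
        lt_of_le_of_ne le_sup_left (fun h => hTR (by rw [h]; exact le_sup_right))
      haveI : Finite (R ⊔ T : Subgroup Ω) := finite_of_le (sup_le hRS0 le_sup_left)
      have h1 := IH _ f' hf' (card_lt_card_of_lt hlt)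
      have h2 := (mor_subSys_iff.1 h1).2
      subst hpred
      intro x hx
      have h3 := h2 x (Subgroup.mem_sup_left hx)
      have h4 := hff' x hx
      have e : x⁻¹ * autFun R α x = (x⁻¹ * f' x) * ((autFun R α x)⁻¹ * f' x)⁻¹ := by group
      rw [e]; exact T.mul_mem h3 (T.inv_mem h4)
  intro P f hf
  have := (mor_subSys_iff.1 (key P f hf)).2
  subst hpred
  exact this

end Cfsg.Agent.H31.Cen

section Check

open Cfsg Cfsg.FusionSystem Cfsg.Agent.H86 Cfsg.Agent.H87

universe u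

variable {Ω : Type u} [Group Ω] {S T : Subgroup Ω}

/-- The posted statement of S5201-MOD, verbatim. -/
example [Finite S] {p : ℕ} [Fact p.Prime] (hS : IsPGroup p S) {F : FusionSystem S}
    {E : FusionSystem T} {D : FusionSystem (T ⊔ centralizerIn S T)} (hC : CCfg p F E D)
    (hComm : ∀ c ∈ centralizerIn S T, ∀ c' ∈ centralizerIn S T, c * c' * c⁻¹ * c'⁻¹ ∈ T)
    (hP : ∀ R : Subgroup Ω, T ≤ R → R ≤ T ⊔ centralizerIn S T → ∀ h : MulAut R,
      h ∈ F.autGroup R → (∀ x ∈ T, autFun R h x = x) → (orderOf h).Coprime p → h = 1) :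
    ∀ (P : Subgroup Ω) (f : Ω → Ω), Mor D P f → ∀ x ∈ P, x⁻¹ * f x ∈ T :=
  Cfsg.Agent.H31.Cen.mor_mod hS hC hComm hP

end Check
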