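import Mathlib
import Cfsg.Agent.H99.ElSTR
import Cfsg.Agent.H31.DecCommon

/-!
# S5958-R6B (helper99's team project): a decomposition into lines permuted by `T` (helper31)
-/

set_option autoImplicit false

namespace Cfsg.Agent.H31.Dec

variable {F : Type*} [Field F] [Fintype F] {V : Type*} [AddCommGroup V] [Module F V]
  [FiniteDimensional F V]

/-- an `r`-th root of unity in `F` is trivial when `ord_r(q) ≥ 2` -/
theorem eq_one_of_pow_eq_one (r : ℕ) (hr : r.Prime)
    (hc : 2 ≤ orderOf (Fintype.card F : ZMod r)) (l : F) (hl : l ^ r = 1) : l = 1 := by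
  by_contra hne
  have hl0 : l ≠ 0 := by
    rintro rfl
    rw [zero_pow hr.ne_zero] at hl
    exact zero_ne_one hl
  have h1 : orderOf l ∣ r := orderOf_dvd_of_pow_eq_one hl
  have h2 : orderOf l = r := by
    rcases (Nat.dvd_prime hr).mp h1 with h | h
    · exact absurd (orderOf_eq_one_iff.mp h) hne
    · exact h
  have h3 : r ∣ Fintype.card F - 1 := by
    rw [← h2]
    exact orderOf_dvd_of_pow_eq_one (FiniteField.pow_card_sub_one_eq_one l hl0)
  have hq : 0 < Fintype.card F := Fintype.card_pos
  have h4 : ((Fintype.card F : ℕ) : ZMod r) = 1 := by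
    have h5 : ((Fintype.card F - 1 : ℕ) : ZMod r) = 0 := (ZMod.natCast_eq_zero_iff _ _).mpr h3
    have h6 : Fintype.card F = (Fintype.card F - 1) + 1 := by omega
    rw [h6, Nat.cast_add, h5, zero_add, Nat.cast_one]
  rw [h4, orderOf_one] at hc
  omega

/-- the trace of a nonzero vector of a line of the decomposition is nonzero -/
theorem phi_ne_zero (T : Module.End F V) (r : ℕ) (hr : r.Prime)
    (hrF : (r : F) ≠ 0) (hT : T ^ r = 1) (t : ℕ) (D : Fin t → Submodule F V)
    (hD : ∀ j, Module.finrank F (D j) = 1) (hind : iSupIndep D)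
    (σ : Equiv.Perm (Fin t)) (hσ : ∀ j, (D j).map T = D (σ j))
    (hc : 2 ≤ orderOf (Fintype.card F : ZMod r)) (j : Fin t) (d : V) (hd : d ∈ D j)
    (hd0 : d ≠ 0) : phi T r d ≠ 0 := by
  have hD0 : ∀ j, D j ≠ ⊥ := by
    intro j h0
    have h1 := hD j
    rw [h0, finrank_bot] at h1
    omega
  have hinj : Function.Injective D := hind.injective hD0
  have hσr : ∀ j, (σ ^ r) j = j := fun j => sigma_pow_r T r hT D σ hσ hinj j
  by_cases hj : σ j = j
  · -- `T d = l • d`
    have hTd : T d ∈ D j := by
      have h1 : T d ∈ (D j).map T := Submodule.mem_map_of_mem hd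
      rw [hσ, hj] at h1
      exact h1
    have hd0' : (⟨d, hd⟩ : D j) ≠ 0 := by
      intro h
      exact hd0 (congrArg Subtype.val h)
    obtain ⟨l, hl⟩ := (finrank_eq_one_iff_of_nonzero' (⟨d, hd⟩ : D j) hd0').mp (hD j) ⟨T d, hTd⟩
    have hl' : T d = l • d := (congrArg Subtype.val hl).symm
    have hpow : ∀ i : ℕ, (T ^ i) d = l ^ i • d := by
      intro i
      induction i with
      | zero => rw [pow_zero, pow_zero, Module.End.one_apply, one_smul]
      | succ n ih => rw [pow_succ', Module.End.mul_apply, ih, map_smul, hl', smul_smul, pow_succ]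
    have h1 := hpow r
    rw [hT, Module.End.one_apply] at h1
    have h2 : l ^ r = 1 := by
      have h3 : (l ^ r - 1) • d = 0 := by rw [sub_smul, one_smul, ← h1, sub_self]
      rcases smul_eq_zero.mp h3 with h | h
      · exact sub_eq_zero.mp h
      · exact absurd h hd0
    have h3 : l = 1 := eq_one_of_pow_eq_one r hr hc l h2
    rw [h3, one_smul] at hl'
    rw [phi_apply_of_fixed T r d hl']
    exact smul_ne_zero hrF hd0
  · intro h0
    apply hd0
    have hr2 := hr.two_le
    obtain ⟨n, rfl⟩ : ∃ n, r = n + 1 := ⟨r - 1, by omega⟩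
    rw [phi_apply, Finset.sum_range_succ' (fun i => (T ^ i) d), pow_zero, Module.End.one_apply] at h0
    have h1 : d = -∑ i ∈ Finset.range n, (T ^ (i + 1)) d := by
      rw [eq_neg_iff_add_eq_zero, add_comm]
      exact h0
    have h2 : d ∈ ⨆ (k) (_ : k ≠ j), D k := by
      rw [h1]
      apply Submodule.neg_mem
      apply Submodule.sum_mem
      intro i hi
      have hi' := Finset.mem_range.mp hi
      have h3 : (σ ^ (i + 1)) j ≠ j :=
        sigma_pow_ne σ (n + 1) hr j (hσr j) hj (i + 1) (by omega) (by omega)
      exact (le_iSup₂ (f := fun k (_ : k ≠ j) => D k) _ h3)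
        (pow_apply_mem T D σ hσ (i + 1) j d hd)
    have h4 := hind j
    rw [Submodule.disjoint_def] at h4
    exact h4 d hd h2

theorem le_of_line_decomposition (T : Module.End F V) (r : ℕ) (hr : r.Prime)
    (hrF : (r : F) ≠ 0) (hT : T ^ r = 1) (t : ℕ) (D : Fin t → Submodule F V)
    (hD : ∀ j, Module.finrank F (D j) = 1) (hind : iSupIndep D) (htop : (⨆ j, D j) = ⊤)
    (σ : Equiv.Perm (Fin t)) (hσ : ∀ j, (D j).map T = D (σ j))
    (hc : 2 ≤ orderOf (Fintype.card F : ZMod r)) :
    t ≤ Module.finrank F (LinearMap.ker (T - 1)) * r := by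
  classical
  have hD0 : ∀ j, D j ≠ ⊥ := by
    intro j h0
    have h1 := hD j
    rw [h0, finrank_bot] at h1
    omega
  have hinj : Function.Injective D := hind.injective hD0
  have hσr : ∀ j, (σ ^ r) j = j := fun j => sigma_pow_r T r hT D σ hσ hinj j
  have hr2 := hr.two_le
  have key : ∀ J : Finset (Fin t), (∀ j ∈ J, σ j ∈ J) →
      J.card ≤ Module.finrank F ↥((⨆ j ∈ J, D j) ⊓ LinearMap.ker (T - 1)) * r := by
    intro J
    induction J using Finset.strongInduction with
    | H J ih =>
      intro hJ
      rcases J.eq_empty_or_nonempty with hemp | ⟨j, hjJ⟩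
      · rw [hemp, Finset.card_empty]
        exact Nat.zero_le _
      obtain ⟨O, hO⟩ : ∃ O : Finset (Fin t), O = (Finset.range r).image (fun i => (σ ^ i) j) :=
        ⟨_, rfl⟩
      have hpowJ : ∀ i : ℕ, (σ ^ i) j ∈ J := by
        intro i
        induction i with
        | zero => rw [pow_zero, Equiv.Perm.one_apply]; exact hjJ
        | succ n ihn => rw [pow_succ', Equiv.Perm.mul_apply]; exact hJ _ ihn
      have hOJ : O ⊆ J := by
        intro k hk
        rw [hO, Finset.mem_image] at hk
        obtain ⟨i, -, rfl⟩ := hk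
        exact hpowJ i
      have hjO : j ∈ O := by
        rw [hO, Finset.mem_image]
        exact ⟨0, Finset.mem_range.mpr (by omega), by rw [pow_zero, Equiv.Perm.one_apply]⟩
      have hOcard : O.card ≤ r := by
        rw [hO]
        exact Finset.card_image_le.trans_eq (Finset.card_range r)
      -- `J \ O` is stable
      have hJ' : ∀ k ∈ J \ O, σ k ∈ J \ O := by
        intro k hk
        rw [Finset.mem_sdiff] at hk ⊢
        refine ⟨hJ k hk.1, ?_⟩
        intro hσk
        apply hk.2
        rw [hO, Finset.mem_image] at hσk ⊢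
        obtain ⟨i, hi, hik⟩ := hσk
        have hi' := Finset.mem_range.mp hi
        rcases Nat.eq_zero_or_pos i with h0 | hpos
        · refine ⟨r - 1, Finset.mem_range.mpr (by omega), ?_⟩
          apply σ.injective
          rw [← Equiv.Perm.mul_apply, ← pow_succ', ← hik, h0, pow_zero, Equiv.Perm.one_apply]
          have h1 : r - 1 + 1 = r := by omega
          rw [h1]
          exact hσr j
        · refine ⟨i - 1, Finset.mem_range.mpr (by omega), ?_⟩
          apply σ.injective
          rw [← Equiv.Perm.mul_apply, ← pow_succ', ← hik]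
          have h1 : i - 1 + 1 = i := by omega
          rw [h1]
      have hss : J \ O ⊂ J := by
        rw [Finset.ssubset_iff_of_subset Finset.sdiff_subset]
        exact ⟨j, hjJ, fun h => (Finset.mem_sdiff.mp h).2 hjO⟩
      have ih' := ih (J \ O) hss hJ'
      obtain ⟨A, hA⟩ : ∃ A : Submodule F V, A = (⨆ k ∈ O, D k) ⊓ LinearMap.ker (T - 1) :=
        ⟨_, rfl⟩
      obtain ⟨B, hB⟩ : ∃ B : Submodule F V, B = (⨆ k ∈ J \ O, D k) ⊓ LinearMap.ker (T - 1) :=
        ⟨_, rfl⟩
      rw [← hB] at ih'
      have hAB : A ⊓ B = ⊥ := by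
        have h1 : Disjoint (⨆ k ∈ (O : Set (Fin t)), D k) (⨆ k ∈ ((J \ O : Finset (Fin t)) : Set (Fin t)), D k) := by
          apply hind.disjoint_biSup_biSup' _ (Finset.finite_toSet O)
          rw [Finset.disjoint_coe]
          exact Finset.disjoint_sdiff
        rw [disjoint_iff] at h1
        apply le_antisymm _ bot_le
        rw [← h1, hA, hB]
        exact inf_le_inf inf_le_left inf_le_left
      have hABle : A ⊔ B ≤ (⨆ k ∈ J, D k) ⊓ LinearMap.ker (T - 1) := by
        rw [hA, hB]
        apply sup_le
        · exact inf_le_inf_right _ (biSup_mono (fun k hk => hOJ hk))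
        · exact inf_le_inf_right _ (biSup_mono (fun k hk => (Finset.mem_sdiff.mp hk).1))
      have hA0 : A ≠ ⊥ := by
        obtain ⟨d, hd, hd0⟩ := Submodule.exists_mem_ne_zero_of_ne_bot (hD0 j)
        have h1 := phi_ne_zero T r hr hrF hT t D hD hind σ hσ hc j d hd hd0
        intro hbot
        apply h1
        have h2 : phi T r d ∈ A := by
          rw [hA]
          refine ⟨?_, phi_mem_ker T r hT d⟩
          rw [phi_apply]
          apply Submodule.sum_mem
          intro i hi
          have h3 : (σ ^ i) j ∈ O := by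
            rw [hO]
            exact Finset.mem_image_of_mem _ hi
          exact (le_iSup₂ (f := fun k (_ : k ∈ O) => D k) _ h3) (pow_apply_mem T D σ hσ i j d hd)
        rw [hbot] at h2
        exact (Submodule.mem_bot F).mp h2
      have hA1 : 1 ≤ Module.finrank F A := by
        rw [Nat.one_le_iff_ne_zero]
        intro h
        exact hA0 (Submodule.finrank_eq_zero.mp h)
      have h2 := Submodule.finrank_sup_add_finrank_inf_eq A B
      rw [hAB, finrank_bot, add_zero] at h2
      have h3 := Submodule.finrank_mono hABle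
      have h4 : J.card = O.card + (J \ O).card := by
        rw [Finset.card_sdiff_of_subset hOJ]
        have := Finset.card_le_card hOJ
        omega
      calc J.card = O.card + (J \ O).card := h4
        _ ≤ r + Module.finrank F B * r := Nat.add_le_add hOcard ih'
        _ = (Module.finrank F A + Module.finrank F B - Module.finrank F A + 1 - 1 + 1 - 1) * r + r := by
            have : Module.finrank F A + Module.finrank F B - Module.finrank F A + 1 - 1 + 1 - 1 = Module.finrank F B := by omega
            rw [this, add_comm]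
        _ ≤ Module.finrank F ↥((⨆ j ∈ J, D j) ⊓ LinearMap.ker (T - 1)) * r := by
            have h5 : Module.finrank F B + 1 ≤ Module.finrank F ↥((⨆ j ∈ J, D j) ⊓ LinearMap.ker (T - 1)) := by omega
            have h6 := Nat.mul_le_mul_right r h5
            have : Module.finrank F A + Module.finrank F B - Module.finrank F A + 1 - 1 + 1 - 1 = Module.finrank F B := by omega
            rw [this]
            calc Module.finrank F B * r + r = (Module.finrank F B + 1) * r := by ring
              _ ≤ _ := h6
  have h1 := key Finset.univ (fun j _ => Finset.mem_univ _)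
  rw [Finset.card_univ, Fintype.card_fin] at h1
  exact h1.trans (Nat.mul_le_mul_right r (Submodule.finrank_mono inf_le_right))

end Cfsg.Agent.H31.Dec
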