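import Mathlib

set_option autoImplicit false

/-!
# JZ-KILL, K-FOUR: the abstract core (helper31)

`V = ⨆ W i` (independent, `|W i| = 4`, exponent 2).  Two commuting involutions `b₁`, `b₂` permuting the
`W i` such that `b₁`, `b₂`, `b₁ b₂` have the same fixed points on `V` centralize `V`.
-/

namespace Cfsg.Agent.H31.JkFour

open Subgroup

universe u v

variable {G : Type u} [Group G]

/-- a subgroup with at most two elements has at most one non-identity element -/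
theorem eq_of_card_le_two (F : Subgroup G) [Finite F] (h : Nat.card F ≤ 2) {a b : G}
    (ha : a ∈ F) (hb : b ∈ F) (ha1 : a ≠ 1) (hb1 : b ≠ 1) : a = b := by
  by_contra hab
  have hinj : Function.Injective (![⟨1, F.one_mem⟩, ⟨a, ha⟩, ⟨b, hb⟩] : Fin 3 → F) := by
    intro i j hij
    fin_cases i <;> fin_cases j <;>
      first
        | rfl
        | (exfalso
           simp only [Fin.zero_eta, Fin.mk_one, Fin.reduceFinMk, Matrix.cons_val_zero,
             Matrix.cons_val_one, Matrix.cons_val_two, Matrix.head_cons, Matrix.tail_cons,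
             Matrix.cons_val, Subtype.mk.injEq] at hij
           first
             | exact ha1 hij
             | exact ha1 hij.symm
             | exact hb1 hij
             | exact hb1 hij.symm
             | exact hab hij
             | exact hab hij.symm)
  have h3 := Nat.card_le_card_of_injective _ hinj
  rw [Nat.card_fin] at h3
  omega

/-- conjugation by an involution, twice -/
theorem conj_conj_of_sq {d : G} (hd : d * d = 1) (w : G) : d * (d * w * d⁻¹) * d⁻¹ = w := by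
  have hdi : d⁻¹ = d := inv_eq_of_mul_eq_one_left hd
  calc d * (d * w * d⁻¹) * d⁻¹ = (d * d) * w * (d⁻¹ * d⁻¹) := by group
    _ = w := by rw [hdi, hd, one_mul, mul_one]

/-- `w * (d w d⁻¹)` is fixed by the involution `d` when `w` and `d w d⁻¹` commute -/
theorem fix_of_sq {d : G} (hd : d * d = 1) (w : G) (hc : w * (d * w * d⁻¹) = (d * w * d⁻¹) * w) :
    d * (w * (d * w * d⁻¹)) = (w * (d * w * d⁻¹)) * d := by
  have h1 : d * (w * (d * w * d⁻¹)) * d⁻¹ = w * (d * w * d⁻¹) := by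
    calc d * (w * (d * w * d⁻¹)) * d⁻¹ = (d * w * d⁻¹) * (d * (d * w * d⁻¹) * d⁻¹) := by group
      _ = (d * w * d⁻¹) * w := by rw [conj_conj_of_sq hd]
      _ = w * (d * w * d⁻¹) := hc.symm
  calc d * (w * (d * w * d⁻¹)) = (d * (w * (d * w * d⁻¹)) * d⁻¹) * d := by group
    _ = (w * (d * w * d⁻¹)) * d := by rw [h1]

/-- an involution normalizing a nontrivial commutative group of exponent 2 has a non-identity fixed
point in it -/
theorem exists_fix {X : Subgroup G} (hX1 : X ≠ ⊥) (hX2 : ∀ x ∈ X, x * x = 1)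
    (hXc : ∀ x ∈ X, ∀ y ∈ X, x * y = y * x) {d : G} (hd : d * d = 1)
    (hdX : ∀ x ∈ X, d * x * d⁻¹ ∈ X) : ∃ f ∈ X, f ≠ 1 ∧ d * f = f * d := by
  obtain ⟨w, hw, hw1⟩ := (Subgroup.ne_bot_iff_exists_ne_one.mp hX1 |>.elim fun w hw => ⟨w.1, w.2,
    fun h => hw (Subtype.ext h)⟩ : ∃ w ∈ X, w ≠ 1)
  by_cases hdw : d * w = w * d
  · exact ⟨w, hw, hw1, hdw⟩
  · refine ⟨w * (d * w * d⁻¹), X.mul_mem hw (hdX w hw), ?_, fix_of_sq hd w (hXc w hw _ (hdX w hw))⟩
    intro h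
    apply hdw
    have h2 : d * w * d⁻¹ = w := by
      have h3 : d * w * d⁻¹ = w⁻¹ := by
        rw [eq_comm, inv_eq_iff_mul_eq_one]; exact h
      rw [h3]
      exact inv_eq_of_mul_eq_one_left (hX2 w hw)
    calc d * w = (d * w * d⁻¹) * d := by group
      _ = w * d := by rw [h2]

theorem exists_ne_one_of_ne_bot {X : Subgroup G} (h : X ≠ ⊥) : ∃ w ∈ X, w ≠ 1 := by
  obtain ⟨w, hw⟩ := Subgroup.ne_bot_iff_exists_ne_one.mp h
  exact ⟨w.1, w.2, fun h => hw (Subtype.ext h)⟩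

theorem comm_of_mul_conj_eq_one {d w : G} (hw2 : w * w = 1) (h : w * (d * w * d⁻¹) = 1) :
    d * w = w * d := by
  have h2 : d * w * d⁻¹ = w := by
    have h3 : d * w * d⁻¹ = w⁻¹ := by
      rw [eq_comm, inv_eq_iff_mul_eq_one]; exact h
    rw [h3]
    exact inv_eq_of_mul_eq_one_left hw2
  calc d * w = (d * w * d⁻¹) * d := by group
    _ = w * d := by rw [h2]

/-- Lemma A: `b` normalizes every `W i`. -/
theorem conj_mem {ι : Type v} (V : Subgroup G) (W : ι → Subgroup G)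
    (hWV : ∀ i, W i ≤ V) (hind : iSupIndep W) (hne : ∀ i, W i ≠ ⊥)
    (hV2 : ∀ v ∈ V, v * v = 1) (hVc : ∀ x ∈ V, ∀ y ∈ V, x * y = y * x)
    {b c : G} (hb : b * b = 1) (hc : c * c = 1) (hbc : b * c = c * b)
    (hpb : ∀ i, ∃ j, (W i).map (MulAut.conj b).toMonoidHom = W j)
    (hpc : ∀ i, ∃ j, (W i).map (MulAut.conj c).toMonoidHom = W j)
    (hfix : ∀ v ∈ V, (b * v = v * b ↔ c * v = v * c) ∧
      (b * v = v * b ↔ (b * c) * v = v * (b * c)))
    (i : ι) : ∀ w ∈ W i, b * w * b⁻¹ ∈ W i := by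
  obtain ⟨j, hj⟩ := hpb i
  have hmemb : ∀ w ∈ W i, b * w * b⁻¹ ∈ W j := fun w hw => by
    have : b * w * b⁻¹ ∈ (W i).map (MulAut.conj b).toMonoidHom := ⟨w, hw, rfl⟩
    rwa [hj] at this
  by_cases hji : j = i
  · intro w hw
    exact hji ▸ hmemb w hw
  · exfalso
    have hdisj : ∀ m, m ≠ i → ∀ x, x ∈ W i → x ∈ W m → x = 1 := fun m hm x hx hxm =>
      Subgroup.disjoint_def.mp (hind i) hx (le_iSup₂ (f := fun m (_ : m ≠ i) => W m) m hm hxm)
    have hnob : ∀ f ∈ W i, b * f = f * b → f = 1 := by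
      intro f hf hbf
      have h1 : b * f * b⁻¹ = f := by rw [hbf]; group
      have h2 := hmemb f hf
      rw [h1] at h2
      exact hdisj j hji f hf h2
    have hnoc : ∀ f ∈ W i, c * f = f * c → f = 1 := fun f hf hcf =>
      hnob f hf ((hfix f (hWV i hf)).1.mpr hcf)
    have hnobc : ∀ f ∈ W i, (b * c) * f = f * (b * c) → f = 1 := fun f hf hcf =>
      hnob f hf ((hfix f (hWV i hf)).2.mpr hcf)
    have hW2 : ∀ x ∈ W i, x * x = 1 := fun x hx => hV2 x (hWV i hx)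
    have hWc : ∀ x ∈ W i, ∀ y ∈ W i, x * y = y * x :=
      fun x hx y hy => hVc x (hWV i hx) y (hWV i hy)
    obtain ⟨k, hk⟩ := hpc i
    have hmemc : ∀ w ∈ W i, c * w * c⁻¹ ∈ W k := fun w hw => by
      have : c * w * c⁻¹ ∈ (W i).map (MulAut.conj c).toMonoidHom := ⟨w, hw, rfl⟩
      rwa [hk] at this
    have hki : k ≠ i := by
      intro hki
      have hm : ∀ w ∈ W i, c * w * c⁻¹ ∈ W i := fun w hw => hki ▸ hmemc w hw
      obtain ⟨f, hf, hf1, hcf⟩ := exists_fix (hne i) hW2 hWc hc hm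
      exact hf1 (hnoc f hf hcf)
    obtain ⟨l, hl⟩ := hpc j
    have hmemc' : ∀ w ∈ W j, c * w * c⁻¹ ∈ W l := fun w hw => by
      have : c * w * c⁻¹ ∈ (W j).map (MulAut.conj c).toMonoidHom := ⟨w, hw, rfl⟩
      rwa [hl] at this
    have hli : l ≠ i := by
      intro hli
      have hbcW : ∀ x ∈ W i, (b * c) * x * (b * c)⁻¹ ∈ W i := by
        intro x hx
        have h1 : c * (b * x * b⁻¹) * c⁻¹ ∈ W i := hli ▸ hmemc' _ (hmemb x hx)
        have e : (b * c) * x * (b * c)⁻¹ = c * (b * x * b⁻¹) * c⁻¹ := by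
          rw [hbc]; group
        rw [e]; exact h1
      have hbc2 : (b * c) * (b * c) = 1 := by
        calc (b * c) * (b * c) = b * (c * b) * c := by group
          _ = b * (b * c) * c := by rw [hbc]
          _ = (b * b) * (c * c) := by group
          _ = 1 := by rw [hb, hc, one_mul]
      obtain ⟨f, hf, hf1, hcf⟩ := exists_fix (hne i) hW2 hWc hbc2 hbcW
      exact hf1 (hnobc f hf hcf)
    obtain ⟨w, hw, hw1⟩ := exists_ne_one_of_ne_bot (hne i)
    have hw' : b * w * b⁻¹ ∈ W j := hmemb w hw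
    have hu : b * (w * (b * w * b⁻¹)) = (w * (b * w * b⁻¹)) * b :=
      fix_of_sq hb w (hVc w (hWV i hw) _ (hWV j hw'))
    have huV : w * (b * w * b⁻¹) ∈ V := V.mul_mem (hWV i hw) (hWV j hw')
    have hcu := (hfix _ huV).1.mp hu
    have h1 : c * w * c⁻¹ * (c * (b * w * b⁻¹) * c⁻¹) = w * (b * w * b⁻¹) := by
      calc c * w * c⁻¹ * (c * (b * w * b⁻¹) * c⁻¹) = c * (w * (b * w * b⁻¹)) * c⁻¹ := by group
        _ = (w * (b * w * b⁻¹)) * c * c⁻¹ := by rw [hcu]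
        _ = w * (b * w * b⁻¹) := by group
    have h2 : w = c * w * c⁻¹ * (c * (b * w * b⁻¹) * c⁻¹) * (b * w * b⁻¹)⁻¹ := by
      rw [h1]; group
    have h3 : w ∈ ⨆ (m) (_ : m ≠ i), W m := by
      rw [h2]
      refine Subgroup.mul_mem _ (Subgroup.mul_mem _ ?_ ?_) (Subgroup.inv_mem _ ?_)
      · exact le_iSup₂ (f := fun m (_ : m ≠ i) => W m) k hki (hmemc w hw)
      · exact le_iSup₂ (f := fun m (_ : m ≠ i) => W m) l hli (hmemc' _ hw')
      · exact le_iSup₂ (f := fun m (_ : m ≠ i) => W m) j hji hw'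
    exact hw1 (Subgroup.disjoint_def.mp (hind i) hw h3)

/-- K-FOUR, abstract form: `V = ⨆ W i` independent with `|W i| = 4`, `V` of exponent 2; commuting
involutions `b₁`, `b₂` permuting the `W i`, with `b₁`, `b₂`, `b₁ b₂` having the same fixed points on
`V`: then `b₁` centralizes `V`. -/
theorem four {ι : Type v} [Finite G] (V : Subgroup G) (W : ι → Subgroup G)
    (hsup : ⨆ i, W i = V) (hind : iSupIndep W) (hcard : ∀ i, Nat.card ↥(W i) = 4)
    (hV2 : ∀ v ∈ V, v * v = 1)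
    {b₁ b₂ : G} (h1 : b₁ * b₁ = 1) (h2 : b₂ * b₂ = 1) (hc : b₁ * b₂ = b₂ * b₁)
    (hp1 : ∀ i, ∃ j, (W i).map (MulAut.conj b₁).toMonoidHom = W j)
    (hp2 : ∀ i, ∃ j, (W i).map (MulAut.conj b₂).toMonoidHom = W j)
    (hfix : ∀ v ∈ V, (b₁ * v = v * b₁ ↔ b₂ * v = v * b₂) ∧
      (b₁ * v = v * b₁ ↔ (b₁ * b₂) * v = v * (b₁ * b₂))) :
    b₁ ∈ Subgroup.centralizer (V : Set G) := by
  have hWV : ∀ i, W i ≤ V := fun i => hsup ▸ le_iSup W i
  have hVc : ∀ x ∈ V, ∀ y ∈ V, x * y = y * x := by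
    intro x hx y hy
    have hxy := hV2 (x * y) (V.mul_mem hx hy)
    calc x * y = (x * y)⁻¹ := (inv_eq_of_mul_eq_one_left hxy).symm
      _ = y⁻¹ * x⁻¹ := mul_inv_rev x y
      _ = y * x := by
        rw [inv_eq_of_mul_eq_one_left (hV2 x hx), inv_eq_of_mul_eq_one_left (hV2 y hy)]
  have hne : ∀ i, W i ≠ ⊥ := by
    intro i h
    have := hcard i
    rw [h, Subgroup.card_bot] at this
    omega
  have hfix' : ∀ v ∈ V, (b₂ * v = v * b₂ ↔ b₁ * v = v * b₁) ∧
      (b₂ * v = v * b₂ ↔ (b₂ * b₁) * v = v * (b₂ * b₁)) := by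
    intro v hv
    refine ⟨(hfix v hv).1.symm, ?_⟩
    rw [← hc]
    exact (hfix v hv).1.symm.trans (hfix v hv).2
  have hN1 := conj_mem V W hWV hind hne hV2 hVc h1 h2 hc hp1 hp2 hfix
  have hN2 := conj_mem V W hWV hind hne hV2 hVc h2 h1 hc.symm hp2 hp1 hfix'
  have hcent : ∀ i, ∀ w ∈ W i, b₁ * w = w * b₁ := by
    intro i w hw
    by_contra hbw
    obtain ⟨F, hFdef⟩ : ∃ F : Subgroup G, F = W i ⊓ Subgroup.centralizer ({b₁} : Set G) :=
      ⟨_, rfl⟩
    have hFle : F ≤ W i := hFdef ▸ inf_le_left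
    have hmemF : ∀ f, f ∈ F ↔ f ∈ W i ∧ b₁ * f = f * b₁ := by
      intro f
      rw [hFdef, Subgroup.mem_inf, Subgroup.mem_centralizer_singleton_iff]
      exact ⟨fun h => ⟨h.1, h.2.symm⟩, fun h => ⟨h.1, h.2.symm⟩⟩
    have hwF : w ∉ F := fun h => hbw ((hmemF w).mp h).2
    have hd : Nat.card ↥F ∣ 4 := hcard i ▸ Subgroup.card_dvd_of_le hFle
    have hne4 : Nat.card ↥F ≠ 4 := by
      intro h
      have : F = W i := Subgroup.eq_of_le_of_card_ge hFle (by rw [hcard i, h])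
      exact hwF (this ▸ hw)
    have hle2 : Nat.card ↥F ≤ 2 := by
      obtain ⟨n, hn⟩ : ∃ n, n = Nat.card ↥F := ⟨_, rfl⟩
      rw [← hn] at hd hne4 ⊢
      have h4 : n ≤ 4 := Nat.le_of_dvd (by norm_num) hd
      interval_cases n <;> first | omega | (exfalso; revert hd; decide)
    have hw2 : w * w = 1 := hV2 w (hWV i hw)
    have hwV : w ∈ V := hWV i hw
    -- u₁
    have hu1W : w * (b₁ * w * b₁⁻¹) ∈ W i := (W i).mul_mem hw (hN1 i w hw)
    have hu1f : b₁ * (w * (b₁ * w * b₁⁻¹)) = (w * (b₁ * w * b₁⁻¹)) * b₁ :=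
      fix_of_sq h1 w (hVc w hwV _ (hWV i (hN1 i w hw)))
    have hu1F : w * (b₁ * w * b₁⁻¹) ∈ F := (hmemF _).mpr ⟨hu1W, hu1f⟩
    have hu11 : w * (b₁ * w * b₁⁻¹) ≠ 1 := fun h => hbw (comm_of_mul_conj_eq_one hw2 h)
    -- u₂
    have hu2W : w * (b₂ * w * b₂⁻¹) ∈ W i := (W i).mul_mem hw (hN2 i w hw)
    have hu2f : b₂ * (w * (b₂ * w * b₂⁻¹)) = (w * (b₂ * w * b₂⁻¹)) * b₂ :=
      fix_of_sq h2 w (hVc w hwV _ (hWV i (hN2 i w hw)))
    have hu2F : w * (b₂ * w * b₂⁻¹) ∈ F :=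
      (hmemF _).mpr ⟨hu2W, (hfix _ (hWV i hu2W)).1.mpr hu2f⟩
    have hu21 : w * (b₂ * w * b₂⁻¹) ≠ 1 :=
      fun h => hbw ((hfix w hwV).1.mpr (comm_of_mul_conj_eq_one hw2 h))
    have heq := eq_of_card_le_two F hle2 hu1F hu2F hu11 hu21
    have heq' : b₁ * w * b₁⁻¹ = b₂ * w * b₂⁻¹ := mul_left_cancel heq
    apply hbw
    refine (hfix w hwV).2.mpr ?_
    have e : (b₁ * b₂) * w * (b₁ * b₂)⁻¹ = w := by
      calc (b₁ * b₂) * w * (b₁ * b₂)⁻¹ = b₁ * (b₂ * w * b₂⁻¹) * b₁⁻¹ := by group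
        _ = b₁ * (b₁ * w * b₁⁻¹) * b₁⁻¹ := by rw [heq']
        _ = w := conj_conj_of_sq h1 w
    calc (b₁ * b₂) * w = ((b₁ * b₂) * w * (b₁ * b₂)⁻¹) * (b₁ * b₂) := by group
      _ = w * (b₁ * b₂) := by rw [e]
  rw [Subgroup.mem_centralizer_iff]
  intro v hv
  have hv' : v ∈ ⨆ i, W i := hsup ▸ hv
  have hle : (⨆ i, W i) ≤ Subgroup.centralizer ({b₁} : Set G) := by
    refine iSup_le fun i => ?_
    intro w hw
    rw [Subgroup.mem_centralizer_singleton_iff]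
    exact (hcent i w hw).symm
  exact Subgroup.mem_centralizer_singleton_iff.mp (hle hv')

end Cfsg.Agent.H31.JkFour
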